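import Mathlib
import Cfsg.Agent.H29.Tau
import Cfsg.Agent.H29.Fi23
import Cfsg.Agent.H29.Fi23Z
import Cfsg.Prelude.Def_Spor_B

/-!
# Groups generated by involutions with the diagram Y433
-/

set_option autoImplicit false
set_option maxRecDepth 100000
set_option linter.all false

namespace H29.YB

section Racg
variable {G : Type*} [Group G] {e : ℕ → G}

/-- Remove the first `c`, if only letters that commute with it come before. -/
noncomputable def del (cm : ℕ → ℕ → Bool) (c : ℕ) (w : List ℕ) : Option (List ℕ) :=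
  List.rec (motive := fun _ => Option (List ℕ)) none (fun a t ih =>
    @Bool.rec (fun _ => Option (List ℕ)) (@Bool.rec (fun _ => Option (List ℕ)) none
      (Option.rec (motive := fun _ => Option (List ℕ)) none (fun r => some (a :: r)) ih) (cm a c))
      (some t) (Nat.beq a c)) w

/-- Reduction modulo squares and commuting letters. -/
noncomputable def rn (cm : ℕ → ℕ → Bool) (w : List ℕ) : List ℕ :=
  List.rec (motive := fun _ => List ℕ) [] (fun c _ ih => seqL ih fun r =>
    Option.rec (motive := fun _ => List ℕ) (c :: r) (fun x => x) (del cm c r)) w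

variable {cm : ℕ → ℕ → Bool}

theorem del_sound (h2 : ∀ c, e c * e c = 1) (hc : ∀ a b, cm a b = true → e a * e b = e b * e a)
    (c : ℕ) : ∀ (w r : List ℕ), del cm c w = some r → ev e r = e c * ev e w
  | [], _, h => by cases h
  | a :: t, r, h => by
    change @Bool.rec (fun _ => Option (List ℕ)) (@Bool.rec (fun _ => Option (List ℕ)) none
      (Option.rec (motive := fun _ => Option (List ℕ)) none (fun r => some (a :: r)) (del cm c t))
      (cm a c)) (some t) (Nat.beq a c) = some r at h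
    cases h1 : Nat.beq a c <;> rw [h1] at h
    · cases h3 : cm a c <;> rw [h3] at h
      · cases h
      · cases h4 : del cm c t <;> rw [h4] at h
        · cases h
        · obtain rfl := Option.some.inj h
          rw [ev_cons, ev_cons, del_sound h2 hc c t _ h4, ← mul_assoc, hc a c h3, mul_assoc]
    · obtain rfl := Option.some.inj h
      obtain rfl := beq_true.1 h1
      rw [ev_cons, ← mul_assoc, h2, one_mul]

theorem rn_sound (h2 : ∀ c, e c * e c = 1) (hc : ∀ a b, cm a b = true → e a * e b = e b * e a) :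
    ∀ w : List ℕ, ev e (rn cm w) = ev e w
  | [] => rfl
  | c :: w => by
    have : rn cm (c :: w) = Option.rec (motive := fun _ => List ℕ) (c :: rn cm w) (fun x => x)
      (del cm c (rn cm w)) := seqL_eq (rn cm w) fun r =>
        Option.rec (motive := fun _ => List ℕ) (c :: r) (fun x => x) (del cm c r)
    rw [this, ev_cons, ← rn_sound h2 hc w]
    cases h : del cm c (rn cm w)
    · exact ev_cons _ _ _
    · exact del_sound h2 hc c _ _ h

theorem ev_rev (h2 : ∀ c, e c * e c = 1) (w : List ℕ) : ev e w.reverse = (ev e w)⁻¹ := by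
  rw [← ev_invW (iv := ivOf []) (fun c => eq_inv_of_mul_eq_one_left (h2 c)), invW_eq]
  exact congrArg _ (congrArg _ (List.map_id w).symm)

noncomputable def nilB (w : List ℕ) : Bool := List.rec (motive := fun _ => Bool) true (fun _ _ _ => false) w

/-- The words are equal modulo squares and commuting letters. -/
noncomputable def eqR (cm : ℕ → ℕ → Bool) (v w : List ℕ) : Bool := nilB (rn cm (v ++ w.reverse))

theorem eqR_sound (h2 : ∀ c, e c * e c = 1) (hc : ∀ a b, cm a b = true → e a * e b = e b * e a)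
    {v w : List ℕ} (h : eqR cm v w = true) : ev e v = ev e w := by
  have := rn_sound h2 hc (v ++ w.reverse)
  rw [eqR] at h
  cases h1 : rn cm (v ++ w.reverse) <;> rw [h1] at h this
  · rw [ev_append, ev_rev h2, ev_nil, eq_comm, mul_inv_eq_one] at this; exact this
  · cases h

theorem ev_map (m : ℕ → ℕ) (w : List ℕ) : ev (fun c => e (m c)) w = ev e (w.map m) := by
  simp [ev, Function.comp_def]

end Racg

/-- The neighbours of the fifteen nodes. -/
noncomputable def nb : ℕ → ℕ := nth 0 [290, 5, 24586, 20, 6152, 65, 20640, 64, 513, 13568, 512, 16,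
  592, 516, 68]
/-- The symmetry of the diagram. -/
noncomputable def ta : ℕ → ℕ := ivOf [0, 1, 2, 3, 4, 8, 9, 10, 5, 6, 7, 11, 12, 14, 13]
noncomputable def cmN (n a b : ℕ) : Bool :=
  and2 (Nat.ble a n) (and2 (Nat.ble b n) (Nat.beq (Nat.land (Nat.shiftRight (nb a) b) 1) 0))
noncomputable def coxR (n : ℕ) : List (List ℕ) := (List.range n).flatMap fun i =>
  (List.range n).map fun j => powW (if (nb i).testBit j then 3 else 2) [i, j]

/-- The relations of the presentation. -/
structure YR {G : Type} [Group G] (e : ℕ → G) : Prop where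
  sq : ∀ c, e c * e c = 1
  cox : ∀ r ∈ coxR 11, ev e r = 1
  sp : ev e (powW 10 [0, 1, 2, 0, 5, 6, 0, 8, 9]) = 1
  f2 : ev e (powW 9 [0, 1, 2, 5, 6, 7, 8]) = 1
  f3 : ev e (powW 9 [0, 1, 2, 5, 8, 9, 10]) = 1

variable {G : Type} [Group G] {e : ℕ → G}

theorem iv_of_sq (h : ∀ c, e c * e c = 1) : IvOK e (ivOf []) :=
  fun c => eq_inv_of_mul_eq_one_left (h c)

theorem cox_mem {n i j : ℕ} (hi : i < n) (hj : j < n) :
    powW (if (nb i).testBit j then 3 else 2) [i, j] ∈ coxR n :=
  List.mem_flatMap.2 ⟨i, List.mem_range.2 hi, List.mem_map.2 ⟨j, List.mem_range.2 hj, rfl⟩⟩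

theorem comm_of_cox {n : ℕ} (h2 : ∀ c, e c * e c = 1) (h : ∀ r ∈ coxR (n + 1), ev e r = 1) (a b : ℕ)
    (c : cmN n a b = true) : e a * e b = e b * e a := by
  simp only [cmN, and2_true, ble_true, beq_true] at c
  have := h _ (cox_mem (i := a) (j := b) (by omega) (by omega))
  rw [if_neg (by
    rw [Nat.testBit, Nat.one_and_eq_mod_two, ← Nat.and_one_is_mod]; simpa using c.2.2)] at this
  exact comm_of_rel (iv_of_sq h2) this

theorem YR.eq (h : YR e) {v w : List ℕ} (c : eqR (cmN 10) v w = true) : ev e v = ev e w :=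
  eqR_sound h.sq (comm_of_cox h.sq h.cox) c

theorem YR.pow (h : YR e) {n : ℕ} {x x' : List ℕ} (y : List ℕ) (a : ev e (powW n x) = 1)
    (c : eqR (cmN 10) x' (y ++ x ++ y.reverse) = true) : ev e (powW n x') = 1 := by
  rw [ev_powW] at a
  rw [ev_powW, h.eq c, ev_append, ev_append, ev_rev h.sq, conj_pow, a]; simp

theorem YR.pow' (h : YR e) {n : ℕ} {x x' : List ℕ} (y : List ℕ) (a : ev e (powW n x) = 1)
    (c : eqR (cmN 10) x' (y ++ x.reverse ++ y.reverse) = true) : ev e (powW n x') = 1 :=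
  h.pow y (by rw [ev_powW] at a ⊢; rw [ev_rev h.sq, inv_pow, a, inv_one]) c

theorem YR.sub (h : YR e) {m : ℕ → ℕ} {R X : List (List ℕ)} (hX : ∀ r ∈ X, ev e r = 1)
    (c : (allL R fun w => memLL (w.map m) (coxR 11 ++ X)) = true) :
    ∀ r ∈ R, ev (fun c => e (m c)) r = 1 := fun r hr => by
  rw [ev_map]; exact rels_append h.cox hX _ (memLL_true (allL_true.1 c r hr))

theorem YR.tau (h : YR e) : YR fun c => e (ta c) where
  sq := fun c => h.sq _
  cox := h.sub (X := []) (by simp) (by decide +kernel)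
  sp := by
    rw [ev_map]
    exact h.pow' (x' := [0, 1, 2, 0, 8, 9, 0, 5, 6]) [9, 6, 0, 1, 0] h.sp (by decide +kernel)
  f2 := by rw [ev_map]; exact h.pow (x' := [0, 1, 2, 8, 9, 10, 5]) [] h.f3 (by decide +kernel)
  f3 := by rw [ev_map]; exact h.pow (x' := [0, 1, 2, 8, 5, 6, 7]) [] h.f2 (by decide +kernel)

/-- The letters of `Fi23` as nodes. -/
noncomputable def m23 : ℕ → ℕ := nth 0 [7, 6, 5, 0, 1, 2, 3, 8, 9, 4]

theorem YR.fi23 (h : YR e) : ∃ φ : Fi23.P.G →* G, ∀ c < 10, φ (Fi23.P.e c) = e (m23 c) :=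
  PData.exists_hom Fi23.coh Fi23.hg (σ := fun c => e (m23 c)) (iv_of_sq fun _ => h.sq _)
    (h.sub (X := [powW 10 [0, 5, 6, 0, 1, 2, 0, 8, 9], powW 9 [7, 6, 5, 0, 1, 2, 8]]) (by
      simp only [List.forall_mem_cons]
      exact ⟨h.pow' [9, 8, 9, 6, 2] h.sp (by decide +kernel),
        h.pow [7, 6, 7, 5, 6, 7] h.f2 (by decide +kernel), by simp⟩) (by decide +kernel))

/-- The letters of `Fi23` with the central involution of the point stabiliser. -/
noncomputable def ez : ℕ → Fi23.P.G := extE Fi23.P.e 10 Fi23Z.defs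
theorem ez_rel : ∀ r ∈ Fi23Z.RZ, ev ez r = 1 :=
  rels_of_faithful Fi23.card.2 (Fi23Z.map Fi23.hρ) Fi23Z.hz
theorem ez_lt {c : ℕ} (h : c < 10) : ez c = Fi23.P.e c := extE_lt _ _ _ h
theorem ez10 : ez 10 = ev Fi23.P.e (powW 9 [1, 2, 3, 4, 5, 6, 7]) :=
  extE_def _ Fi23Z.hext 0 (by decide +kernel)
theorem ez_sq : ez 10 * ez 10 = 1 := by simpa using ez_rel [10, 10] (by decide)
theorem ez_comm {c : ℕ} (h : c < 9) : Fi23.P.e c * ez 10 = ez 10 * Fi23.P.e c := by
  have h1 := ez_rel [c, 10, c, 10] (by interval_cases c <;> decide)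
  have h2 : Fi23.P.e c * Fi23.P.e c = 1 := mul_eq_one_iff_eq_inv.2 (Fi23.hiv0 c)
  simp only [ev_cons, ev_nil, mul_one, ez_lt (show c < 10 by omega)] at h1
  calc _ = Fi23.P.e c * (ez 10 * (Fi23.P.e c * ez 10)) * (ez 10)⁻¹ * (Fi23.P.e c)⁻¹ := by group
    _ = _ := by rw [h1, inv_eq_of_mul_eq_one_right ez_sq, inv_eq_of_mul_eq_one_right h2, one_mul]

theorem YR.f1_comm (h : YR e) : e 9 * ev e (powW 9 [6, 5, 0, 1, 2, 3, 8]) =
    ev e (powW 9 [6, 5, 0, 1, 2, 3, 8]) * e 9 := by
  obtain ⟨φ, hφ⟩ := h.fi23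
  have := congrArg φ (ez_comm (c := 8) (by omega))
  rw [map_mul, map_mul, hφ 8 (by omega), ez10, map_ev, ev_congr (e' := fun c => e (m23 c))
    (fun c hc => hφ c (by revert c; decide +kernel)), ev_map] at this
  exact this

open Cfsg.Spor.BabyMonster in
def gix : Gen → ℕ
  | .t5 => 0 | .t4 => 1 | .t3 => 2 | .t2 => 3 | .t1 => 4 | .t6 => 5 | .t7 => 6 | .t8 => 7
  | .t9 => 8 | .t10 => 9 | .t11 => 10

open Cfsg.Spor.BabyMonster in
def PY : PData Gen := ⟨edges, extra, [.t5, .t4, .t3, .t2, .t1, .t6, .t7, .t8, .t9, .t10, .t11],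
  [(.t5, true), (.t4, true), (.t3, true), (.t2, true), (.t1, true), (.t6, true), (.t7, true),
    (.t8, true), (.t9, true), (.t10, true), (.t11, true)], gix, []⟩
theorem coh : PY.Coh := by decide +kernel
theorem hg : ∀ x, x ∈ PY.gens := by intro x; cases x <;> decide
theorem PY_top : gen PY.e [0, 1, 2, 3, 4, 5, 6, 7, 8, 9, 10] = ⊤ := PData.gen_top coh hg (by decide)

theorem YR.hom (h : YR e) : ∃ π : PY.G →* G, ∀ c < 11, π (PY.e c) = e c :=
  PData.exists_hom coh hg (iv_of_sq h.sq) (h.sub (m := id) (X := [powW 10 [0, 1, 2, 0, 5, 6, 0, 8, 9],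
    powW 9 [0, 1, 2, 5, 6, 7, 8], powW 9 [0, 1, 2, 5, 8, 9, 10]]) (by
      simp only [List.forall_mem_cons]
      exact ⟨h.sp, h.f2, h.f3, by simp⟩) (by decide +kernel))

theorem PY_yr : YR PY.e := by
  have h2 : ∀ c, PY.e c * PY.e c = 1 := fun c => mul_eq_one_iff_eq_inv.2 (PData.ivOK coh c)
  have hR := PData.rels coh hg
  refine ⟨h2, fun r hr => ?_, hR _ (memLL_true (by decide +kernel)),
    hR _ (memLL_true (by decide +kernel)), hR _ (memLL_true (by decide +kernel))⟩
  have : allL (coxR 11) (fun r => Bool.rec (Bool.rec (eqR (fun _ _ => false) r []) true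
      (memLL r.reverse PY.relL)) true (memLL r PY.relL)) = true := by decide +kernel
  have h := allL_true.1 this r hr
  cases h1 : memLL r PY.relL <;> rw [h1] at h
  · cases h3 : memLL r.reverse PY.relL <;> rw [h3] at h
    · exact eqR_sound h2 (fun _ _ h => by cases h) h
    · rw [← inv_eq_one, ← ev_rev h2]; exact hR _ (memLL_true h3)
  · exact hR _ (memLL_true h1)

end H29.YB
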