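import Mathlib
import Cfsg.Agent.H29.YB.D0

set_option autoImplicit false
set_option maxRecDepth 100000
set_option Elab.async false
set_option linter.all false

namespace H29.YB

open H19 H29.BE H29.BP H29.BP.Dat H29.BM

theorem ip1 : allN 1 (fun j => lit (xl j) fun Y => cI (f8 xl1) (f8 Y) (Bool.rec 1024 256 (tb (jm 1) j)) 0) = true := by decide +kernel
theorem ip2 : allN 2 (fun j => lit (xl j) fun Y => cI (f8 xl2) (f8 Y) (Bool.rec 1024 256 (tb (jm 2) j)) 0) = true := by decide +kernel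
theorem ip3 : allN 3 (fun j => lit (xl j) fun Y => cI (f8 xl3) (f8 Y) (Bool.rec 1024 256 (tb (jm 3) j)) 0) = true := by decide +kernel
theorem ip4 : allN 4 (fun j => lit (xl j) fun Y => cI (f8 xl4) (f8 Y) (Bool.rec 1024 256 (tb (jm 4) j)) 0) = true := by decide +kernel
theorem ip5 : allN 5 (fun j => lit (xl j) fun Y => cI (f8 xl5) (f8 Y) (Bool.rec 1024 256 (tb (jm 5) j)) 0) = true := by decide +kernel
theorem ip6 : allN 6 (fun j => lit (xl j) fun Y => cI (f8 xl6) (f8 Y) (Bool.rec 1024 256 (tb (jm 6) j)) 0) = true := by decide +kernel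
theorem ip7 : allN 7 (fun j => lit (xl j) fun Y => cI (f8 xl7) (f8 Y) (Bool.rec 1024 256 (tb (jm 7) j)) 0) = true := by decide +kernel
theorem ip8 : allN 8 (fun j => lit (xl j) fun Y => cI (f8 xl8) (f8 Y) (Bool.rec 1024 256 (tb (jm 8) j)) 0) = true := by decide +kernel
theorem ip9 : allN 9 (fun j => lit (xl j) fun Y => cI (f8 xl9) (f8 Y) (Bool.rec 1024 256 (tb (jm 9) j)) 0) = true := by decide +kernel
theorem ip10 : allN 10 (fun j => lit (xl j) fun Y => cI (f8 xl10) (f8 Y) (Bool.rec 1024 256 (tb (jm 10) j)) 0) = true := by decide +kernel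
theorem ip11 : allN 11 (fun j => lit (xl j) fun Y => cI (f8 xl11) (f8 Y) (Bool.rec 1024 256 (tb (jm 11) j)) 0) = true := by decide +kernel
theorem ip12 : allN 12 (fun j => lit (xl j) fun Y => cI (f8 xl12) (f8 Y) (Bool.rec 1024 256 (tb (jm 12) j)) 0) = true := by decide +kernel
theorem ip13 : allN 13 (fun j => lit (xl j) fun Y => cI (f8 xl13) (f8 Y) (Bool.rec 1024 256 (tb (jm 13) j)) 0) = true := by decide +kernel
theorem ip14 : allN 14 (fun j => lit (xl j) fun Y => cI (f8 xl14) (f8 Y) (Bool.rec 1024 256 (tb (jm 14) j)) 0) = true := by decide +kernel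

end H29.YB
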