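import Mathlib
import Cfsg.Agent.H29.YB.M3

set_option autoImplicit false
set_option maxRecDepth 100000
set_option Elab.async false
set_option linter.all false

namespace H29.YB

open H19 H29.BE H29.BP H29.BP.Dat H29.BM

theorem ri0 : cI (xq 2048 true) (f8 xl2) 256 0 = true := by decide +kernel
theorem rp0 : cL [xq 4304 false, xq 2048 true] [xq 2048 false, w16 0] [23, 22, 21, 20, 19, 18, 15, 14, 11, 10, 8, 7, 6, 5, 3, 2, 0, 33, 34, 35, 36, 38, 29, 28, 28, 29, 29, 29, 29, 28, 29, 28, 29, 28, 28, 28, 29, 28, 28, 29, 29, 29, 24, 29, 29, 24, 29, 28, 29, 24] [] = true := by decide +kernel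
theorem rp1 : cL [xq 4304 false, xq 2048 true] [xq 2048 true, w16 0] [23, 22, 20, 19, 18, 15, 14, 11, 10, 8, 7, 6, 5, 3, 2, 0, 33, 34, 35, 36, 38, 29, 28, 28, 29, 29, 29, 29, 28, 29, 28, 29, 28, 28, 28, 29, 28, 28, 29, 29, 29, 24, 29, 29, 24, 29, 28, 29, 24] [] = true := by decide +kernel
theorem rp2 : cL [xq 4304 false, f8 xl3] [xq 4304 true, ngr (w16 0)] [0] [] = true := by decide +kernel
theorem rp3 : cL [xq 4304 false, f8 xl0] [xq 3072 false, ngr (w16 1)] [20, 18, 17, 5, 4, 3, 2, 1, 33, 34, 35, 36, 39, 29, 29, 29, 28, 28, 28, 29, 29, 28, 29, 28, 29, 28, 29, 28, 29, 29, 29, 29, 24, 28, 24, 28, 24, 29, 34] [] = true := by decide +kernel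
theorem rp4 : cL [xq 4304 false, f8 xl0] [xq 3072 true, w16 1] [20, 18, 16, 15, 14, 13, 11, 8, 6, 0, 33, 34, 35, 36, 39, 29, 29, 29, 28, 28, 28, 29, 29, 28, 29, 28, 29, 28, 29, 28, 29, 29, 29, 29, 24, 28, 24, 28, 24, 29, 34] [] = true := by decide +kernel
theorem rp6 : cL [xq 4304 false, f8 xl2] [xq 4304 true, w16 4] [21, 18, 16, 15, 13, 12, 10, 9, 7, 4, 2, 0] [] = true := by decide +kernel
def wk0 : List ℕ := [21, 16, 11, 10, 9, 7, 6, 1, 31, 33, 35, 36, 37, 38, 28, 29, 28, 28, 28, 29, 29, 29, 28, 28, 29]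
def wk1 : List ℕ := [23, 18, 17, 16, 13, 11, 10, 9, 6, 2, 30, 33, 34, 37, 38, 39, 29, 28, 28, 29, 28, 28, 28, 28, 29, 28, 28, 28, 28, 29, 29, 28, 28, 28, 29, 24, 28, 24, 28, 29, 29, 32, 24, 28]
def wk0i : List ℕ := [22, 20, 19, 12, 11, 10, 9, 6, 3, 1, 0, 30, 32, 35, 37, 28, 29, 28, 28, 28, 28, 28, 28, 29, 29, 29, 29, 29, 29, 28, 28, 29, 28, 29, 28]
def wk1i : List ℕ := [23, 21, 20, 19, 17, 16, 12, 11, 10, 9, 7, 6, 4, 0, 30, 31, 34, 35, 37, 28, 28, 28, 29, 28, 28, 28, 28, 28, 28, 29, 29, 28, 29, 29, 29, 28, 28, 29, 24, 29, 24, 29, 33, 24, 29, 34, 30]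
def wk5 : List ℕ := [10, 9, 8, 6, 4, 2]
theorem rB : cL [f8 xl2] [w16 2] (wk1 ++ 25 :: wk0) [10] = true := by decide +kernel
theorem rp5 : cL [xq 4305 true] [w16 2] (25 :: (wk1 ++ 25 :: wk0)) ((wk1 ++ 25 :: wk0) ++ wk5) = true := by decide +kernel
theorem rp5u : cL [xq 4304 false] [xq 4304 false] wk5 [] = true := by decide +kernel
theorem ri5 : cI (xq 4304 false) (xq 4305 true) 1024 0 = true := by decide +kernel
theorem cn5 : cI (xq 3072 false) (w16 1) 0 1024 = true := by decide +kernel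
theorem cn2 : and2 (cI (xq 3184 false) (xq 2048 false) 0 1024) (cI (xq 2048 false) (xq 3072 false) 1024 0) = true := by decide +kernel
theorem cn3 : and2 (cI (xq 2048 false) (xq 4304 false) 1024 0) (cI (xq 4304 false) (w16 2) 1024 0) = true := by decide +kernel
theorem cn4 : and2 (cI (xq 4304 false) (xq 2048 false) 1024 0) (cI (xq 2048 false) (xq 2052 false) 0 1024) = true := by decide +kernel
theorem cn1 : and2 (cI (xq 4304 false) (xq 2048 true) 1024 0) (cI (xq 2048 true) (xq 4304 true) 1024 0) = true := by decide +kernel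
def wm : List ℕ := [22, 21, 18, 16, 15, 14, 12, 10, 9, 5, 2, 1, 33, 29, 28, 28, 28, 28, 29, 29, 28, 29, 28, 28, 29, 29, 29, 28, 29, 29, 28, 24, 29, 29, 24, 28, 28, 28, 29, 28, 28]
theorem sm0 : chkM E (wk0i ++ wk0) [] = true := by decide +kernel
theorem sm1 : chkT km cm (wk1i ++ wk1) tI = true := by decide +kernel
theorem sm2 : cL [w16 2] [w16 2] (wk1i ++ wk1) [] = true := by decide +kernel
theorem sm3 : and2 (chkT 65515 tm [0, 5, 6, 0, 8, 9, 0, 1] (nat_lit 0x400000003ab0ae006accb2005a349e00424412002764b8003d441a002d1c9400480000005224920020dc1e00000800006eccca0073463a003cb48800231650006e12fc003624c600186aa4001f758a004cf626000ff65c00737ef9)) (chkT km cm (wk0i ++ (wm ++ wk0)) (nat_lit 0x400000003ab0ae006accb2005a349e00424412002764b8003d441a002d1c9400480000005224920020dc1e00000800006eccca0073463a003cb48800231650006e12fc003624c600186aa4001f758a004cf626000ff65c00737ef9)) = true := by decide +kernel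
theorem sm4 : cL [f8 xl4] [f8 xl4] (wk0i ++ (wm ++ wk0)) [] = true := by decide +kernel
def wp : List ℕ := 25 :: (wk1i ++ 25 :: (wk1 ++ 25 :: wm))

end H29.YB
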