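import Mathlib
import Cfsg.Agent.H29.YB.M0
import Cfsg.Agent.H29.YB.M1
import Cfsg.Agent.H29.YB.M2
import Cfsg.Agent.H29.YB.M4
import Cfsg.Agent.H29.YB.G0

/-!
# The letters in the model and the groups they generate
-/

set_option autoImplicit false
set_option maxRecDepth 100000
set_option linter.all false

namespace H29.YB
open H19 H29.BE H29.BP H29.BP.Dat H29.BM

noncomputable def om : GG := ev g wo
/-- The letters: fifteen involutions of axes and the extra involution. -/
noncomputable def sm (c : ℕ) : GG := if c < 15 then dl (xv c) else if c = 15 then om else 1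

theorem sm_lt {c : ℕ} (h : c < 15) : sm c = dl (xv c) := if_pos h
theorem sm15 : sm 15 = om := rfl

theorem xv11 : xv 11 = u := by
  have := cL1 rxl11
  rwa [ev_nil, one_smul, one_smul, vc_xq (by omega)] at this
theorem xv3 : xv 3 = -u' := by
  have := cL1 rxl3
  rw [ev_cons, ev_nil, mul_one, one_smul, vc_xq (by omega), g23, neg_one_smul'', neg_eq_iff_eq_neg]
    at this
  exact this
theorem x2_mem : xv 2 ∈ XO 4 := redj rxl2 (by decide +kernel)
theorem x4_mem : xv 4 ∈ XO 3 := redj rxl4 (by decide +kernel)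
theorem gn2 : Gn (xv 2) := gn_of (by omega) (by omega) x2_mem
theorem gn4 : Gn (xv 4) := gn_of (by omega) (by omega) x4_mem
theorem gnw : Gn (wv 2) := gn_of (by omega) (by omega) (wv_mem 2)

theorem x1_all : ∀ c ∈ [0, 1, 5, 6, 7, 8, 9, 10, 12, 13, 14],
    xv c ∈ XO 1 ∧ dl (xv c) ∈ D.KK ∧ Tab D (dl (xv c)) (tm c) := by
  simp only [List.forall_mem_cons]
  exact ⟨red1 rxl0 cxl0, red1 rxl1 cxl1, red1 rxl5 cxl5, red1 rxl6 cxl6, red1 rxl7 cxl7,
    red1 rxl8 cxl8, red1 rxl9 cxl9, red1 rxl10 cxl10, red1 rxl12 cxl12, red1 rxl13 cxl13,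
    red1 rxl14 cxl14, fun _ h => absurd h List.not_mem_nil⟩

theorem xv_XX {c : ℕ} (h : c < 15) : xv c ∈ XX := by
  by_cases c1 : c ∈ [0, 1, 5, 6, 7, 8, 9, 10, 12, 13, 14]
  · exact ⟨1, by omega, (x1_all c c1).1⟩
  · have : c = 2 ∨ c = 3 ∨ c = 4 ∨ c = 11 := by interval_cases c <;> simp_all
    rcases this with rfl | rfl | rfl | rfl
    exacts [gn2.1, xv3 ▸ neg_XX u'_XX, gn4.1, xv11 ▸ u_XX]

theorem dl_u0 : dl u = d := by simpa using dl_u GP.one_mem
theorem dl_u' : dl u' = D.z * d := by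
  rw [u', dl_ax0 p0, d, Dat.z, Dat.P, Dat.P, zz_mul]
theorem sm11 : sm 11 = d := by rw [sm_lt (by omega), xv11, dl_u0]
theorem sm3' : sm 3 = D.z * d := by rw [sm_lt (by omega), xv3, dl_neg u'_XX, dl_u']
theorem sm_z : sm 3 * sm 11 = D.z := by rw [sm3', sm11, mul_assoc, d_sq, mul_one]

theorem sm_tab (c : ℕ) (h : (65515 : ℕ).testBit c = true) : sm c ∈ D.KK ∧ Tab D (sm c) (tm c) := by
  by_cases c1 : c ∈ [0, 1, 5, 6, 7, 8, 9, 10, 12, 13, 14]
  · rw [sm_lt (by simp at c1; omega)]; exact (x1_all c c1).2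
  · have h1 := bit_lt (n := 16) (by decide) h
    have : c = 3 ∨ c = 11 ∨ c = 15 := by
      interval_cases c <;> first | exact absurd h (by decide) | simp_all
    rcases this with rfl | rfl | rfl
    · have := tab_of_chk km_tab cxl3
      rw [ev_cons, ev_cons, ev_nil, mul_one] at this
      rw [sm3', z_eq, d_eq]; exact this
    · have := tab_of_chk km_tab cxl11
      rw [ev_cons, ev_nil, mul_one] at this
      rw [sm11, d_eq]; exact this
    · exact tab_of_chk km_tab cxl15

theorem om_mem : om ∈ D.KK := (sm_tab 15 (by decide)).1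
theorem om_sq : om * om = 1 := by
  have a := tab_of_chk km_tab (and2_true.1 to2).1
  have b := tab_of_chk km_tab (and2_true.1 to2).2
  have := eq_of_tab_fix a.1 b.1 (Tab.same a.2 b.2) gnw (by simpa [vc_w16] using cL1 rwo2)
  rwa [ev_append, ev_nil] at this

theorem om_x {c : ℕ} (h : c < 15) : om • xv c = xv (ta c) := by
  have := cL_sound rwo c h
  rw [ev_nil, one_smul] at this
  interval_cases c <;> exact this

theorem ta_lt {c : ℕ} (h : c < 15) : ta c < 15 := by interval_cases c <;> decide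
theorem om_sm {c : ℕ} (h : c < 15) : om * sm c * om⁻¹ = sm (ta c) := by
  rw [sm_lt h, sm_lt (ta_lt h), ← om_x h, dl_smul (KK_GP om_mem) (xv_XX h)]

theorem sm_GP (c : ℕ) : sm c ∈ GP := by
  rw [sm]; split_ifs with h1 h2
  exacts [dl_GP (xv_XX h1), KK_GP om_mem, GP.one_mem]
theorem sm_BB {c : ℕ} (h : c < 15) : sm c ∈ BB := by rw [sm_lt h]; exact dl_BB (xv_XX h)
theorem sm_sq (c : ℕ) : sm c * sm c = 1 := by
  rw [sm]; split_ifs with h1 h2
  exacts [dl_sq (xv_XX h1), om_sq, one_mul 1]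
theorem sm_iv : IvOK sm (ivOf []) := fun c => (eq_inv_of_mul_eq_one_left (sm_sq c))
theorem sm_inv (c : ℕ) : (sm c)⁻¹ = sm c := inv_eq_of_mul_eq_one_right (sm_sq c)

theorem ip_lt {i j : ℕ} (hi : i < 15) (hj : j < i) :
    D.B (xv i) (xv j) = if (jm i).testBit j then 256 else 1024 := by
  have : ∀ X, allN i (fun j => lit (xl j) fun Y =>
      cI (f8 X) (f8 Y) (Bool.rec 1024 256 (tb (jm i) j)) 0) = true →
      D.B (vc (f8 X)) (xv j) = if (jm i).testBit j then 256 else 1024 := fun X h => by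
    have h1 := allN_true.1 h j hj
    rw [lit_e] at h1
    rw [xv, cI_sound (f8_bnd _) (f8_bnd _) h1, tb_eq]
    cases (jm i).testBit j <;> simp
  interval_cases i
  exacts [by omega, this _ ip1, this _ ip2, this _ ip3, this _ ip4, this _ ip5, this _ ip6,
    this _ ip7, this _ ip8, this _ ip9, this _ ip10, this _ ip11, this _ ip12, this _ ip13,
    this _ ip14]

theorem ip {i j : ℕ} (hi : i < 15) (hj : j < 15) (h : i ≠ j) :
    D.B (xv i) (xv j) = if (jm i).testBit j then 256 else 1024 := by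
  rcases lt_or_gt_of_ne h with c | c
  · have : ∀ i < 15, ∀ j < 15, (jm i).testBit j = (jm j).testBit i := by decide +kernel
    rw [B_comm, ip_lt hj c, this i hi j hj]
  · exact ip_lt hi c

theorem ipj {i j : ℕ} (h : i < 15 ∧ j < 15 ∧ (jm i).testBit j = true := by decide +kernel) :
    D.B (xv i) (xv j) = 256 := by
  have : ∀ i < 15, (jm i).testBit i = false := by decide +kernel
  rw [ip h.1 h.2.1 (by rintro rfl; rw [this _ h.1] at h; simp at h), if_pos h.2.2]
theorem ipc {i j : ℕ} (h : i < 15 ∧ j < 15 ∧ i ≠ j ∧ (jm i).testBit j = false := by decide +kernel) :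
    D.B (xv i) (xv j) = 1024 := by
  rw [ip h.1 h.2.1 h.2.2.1, if_neg (by simp [h.2.2.2])]

/-- The letter `c` fixes the axis `j`. -/
noncomputable def fx (j c : ℕ) : Bool :=
  or2 (and2 (Nat.ble c 14) (Bool.rec true false (tb (jm c) j))) (and2 (Nat.beq c 15) (Nat.beq (ta j) j))

theorem fx_sound {j c : ℕ} (hj : j < 15) (h : fx j c = true) : sm c • xv j = xv j := by
  simp only [fx, or2_true, and2_true, ble_true, beq_true, tb_eq] at h
  rcases h with ⟨h1, h2⟩ | ⟨rfl, h⟩
  · rw [sm_lt (by omega)]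
    by_cases e : c = j
    · subst e; exact dl_fix (xv_XX hj)
    · exact fix_of_adj (xv_XX (by omega)) (xv_XX hj) (adj_of (ipc ⟨by omega, hj, e, by
        cases h3 : (jm c).testBit j
        · rfl
        · rw [h3] at h2; exact absurd h2 (by simp)⟩))
  · rw [sm15, om_x hj, h]

theorem fx_word {j : ℕ} (hj : j < 15) {w : List ℕ} (h : allL w (fx j) = true) :
    ev sm w • xv j = xv j :=
  ev_mem (H := MulAction.stabilizer GG (xv j)) fun c hc => fx_sound hj (allL_true.1 h c hc)

theorem sm_braid {i j : ℕ} (h : i < 15 ∧ j < 15 ∧ (jm i).testBit j = true := by decide +kernel) :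
    sm i • xv j = sm j • xv i := by
  rw [sm_lt h.1, sm_lt h.2.1]; exact braid (xv_XX h.1) (xv_XX h.2.1) (ipj h)

theorem sm_sm (c : ℕ) (x : VV) : sm c • sm c • x = x := by rw [smul_smul, sm_sq, one_smul]

/-- Words in the letters of `KK` with the same table that fix the axis number 4 or 2. -/
theorem eq_of_chk {v w : List ℕ} {M : ℕ} (h1 : chkT 65515 tm v M = true)
    (h2 : chkT 65515 tm w M = true)
    (h : or2 (allL (v ++ w) (fx 4)) (allL (v ++ w) (fx 2)) = true) : ev sm v = ev sm w := by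
  have a := tab_of_chk sm_tab h1
  have b := tab_of_chk sm_tab h2
  have key : ∀ j < 15, Gn (xv j) → allL (v ++ w) (fx j) = true → ev sm v = ev sm w := fun j hj n h =>
    eq_of_tab_fix a.1 b.1 (Tab.same a.2 b.2) n (by
      rw [fx_word hj (allL_true.2 fun c hc => allL_true.1 h c (by simp [hc])),
        fx_word hj (allL_true.2 fun c hc => allL_true.1 h c (by simp [hc]))])
  exact (or2_true.1 h).elim (key 4 (by omega) gn4) (key 2 (by omega) gn2)

theorem sm13 : sm 13 = ev sm (powW 5 [0, 1, 8, 5, 6, 7]) := by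
  have := eq_of_chk (v := [13]) (by decide +kernel) ty13 (by decide +kernel)
  rw [ev_cons, ev_nil, mul_one] at this; exact this
theorem sm14 : sm 14 = ev sm (powW 5 [0, 1, 5, 8, 9, 10]) := by
  have := eq_of_chk (v := [14]) (by decide +kernel) ty14 (by decide +kernel)
  rw [ev_cons, ev_nil, mul_one] at this; exact this

/-! ### The stabiliser in `KK` -/

def KL : List ℕ := [0, 1, 3, 5, 6, 7, 8, 9, 10, 11, 12, 15]

theorem sm_u {c : ℕ} (h : fx 11 c = true) : sm c • u = u := xv11 ▸ fx_sound (by omega) h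

theorem gen_EE : gen sm KL = EE := by
  have h0 : ∀ c, (40939 : ℕ).testBit c = true → sm c ∈ gen sm KL := fun c hc => mem_gen (by
    have h1 := bit_lt (n := 16) (by decide) hc
    interval_cases c <;> first | exact absurd hc (by decide) | decide)
  have hle : gen sm KL ≤ EE := gen_le.2 fun c hc =>
    ⟨(sm_tab c (by revert c; decide)).1, sm_u (by revert c; decide +kernel)⟩
  have hz : D.z ∈ gen sm KL := sm_z ▸ (gen sm KL).mul_mem (h0 3 rfl) (h0 11 rfl)
  have a := tab_of_chk sm_tab (and2_true.1 sp0).1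
  have b := tab_of_chk km_tab (and2_true.1 sp0).2
  have h1 : ev sm [10, 13] ∈ gen sm KL := by
    rw [ev_cons, ev_cons, ev_nil, mul_one, sm13]
    exact (gen sm KL).mul_mem (h0 10 rfl) (ev_mem_gen (by decide +kernel))
  have h2 : D.P 3995374 ∈ gen sm KL := by
    rw [ev_pw'] at b
    rcases eq_of_tab_BB b.1 a.1 (P_BB _) (ev_mem fun c hc => sm_BB (by simp at hc; omega))
      (Tab.same b.2 a.2) with e | e <;> rw [e]
    exacts [h1, (gen sm KL).mul_mem hz h1]
  have h3 := span_sound (fun c hc => ⟨h0 c hc, (sm_tab c (sub_true (a := 40939) (by decide) hc)).2⟩)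
    hz h2 spn
  have c0 := Fx_lev sm_tab h0 ch0a ch0b ch0c
  have c1 := Fx_lev sm_tab h0 ch1a ch1b ch1c
  have c2 := Fx_lev sm_tab h0 ch2a ch2b ch2c
  have c3 := Fx_lev sm_tab h0 ch3a ch3b ch3c
  have c4 := Fx_lev sm_tab h0 ch4a ch4b ch4c
  have c5 := card_Fx h3 [f32 ch4V 0, f32 ch3V 0, f32 ch2V 0, f32 ch1V 0, f32 ch0V 0]
  have : Finite EE := Finite.of_injective _ (Subgroup.inclusion_injective (inf_le_left : EE ≤ D.KK))
  have : Finite (gen sm KL) := Finite.of_injective _ (Subgroup.inclusion_injective hle)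
  have c6 := Subgroup.card_le_of_le (Fx_le' (H := gen sm KL) (bs := []))
  refine Subgroup.eq_of_le_of_card_ge hle ?_
  rw [card_EE]
  omega

end H29.YB
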