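import Mathlib
import Cfsg.Agent.H29.YB.S

set_option autoImplicit false
set_option maxRecDepth 100000
set_option Elab.async false
set_option linter.all false

namespace H29.YB

open H19 H29.BE H29.BP H29.BP.Dat H29.BM

theorem sp4 : cL [f8 sv2_0, f8 sv2_1, f8 sv2_2, f8 sv2_3, f8 sv2_5, f8 sv2_6, f8 sv2_7, f8 sv2_8, f8 sv2_9, f8 sv2_10] [f8 sv3_0, f8 sv3_1, f8 sv3_2, f8 sv3_3, f8 sv3_5, f8 sv3_6, f8 sv3_7, f8 sv3_8, f8 sv3_9, f8 sv3_10] (wp ++ wp) [] = true := by decide +kernel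

end H29.YB
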