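import Mathlib
import Cfsg.Agent.H29.YB.M5
import Cfsg.Agent.H29.YB.S0
import Cfsg.Agent.H29.YB.S1
import Cfsg.Agent.H29.YB.S2
import Cfsg.Agent.H29.YB.S3
import Cfsg.Agent.H29.YB.S4
import Cfsg.Agent.H29.Pres
import Cfsg.Prelude.Def_Spor_B

/-!
# The letters generate the whole group and satisfy the relators
-/

set_option autoImplicit false
set_option maxRecDepth 100000
set_option linter.all false

namespace H29.YB
open H19 H29.BE H29.BP H29.BP.Dat H29.BM

/-- The stabiliser of the first axis. -/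
noncomputable def LL : Subgroup GG := GP ⊓ MulAction.stabilizer GG u

theorem EE_eq : LL ⊓ MulAction.stabilizer GG u' = EE := stab_eq
theorem B_u3 : D.B u (xv 3) = 1024 := by rw [xv3, B_neg, B_uu']; norm_num

theorem wB_mem : ev g (wk1 ++ 25 :: wk0) ∈ GP := word_GP (by decide +kernel)
theorem sm2_eq : ev g (wk1 ++ 25 :: wk0) * sm 2 = t * ev g (wk1 ++ 25 :: wk0) := by
  have := cL1 rB
  rw [vc_w16, ev_cons, ev_nil, mul_one] at this
  have h := dl_smul wB_mem (xv_XX (c := 2) (by omega))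
  rw [show ev g (wk1 ++ 25 :: wk0) • xv 2 = s • wv 2 from this, ← t_dl] at h
  rw [h, sm_lt (by omega), inv_mul_cancel_right]

theorem gen_L_le : gen sm (2 :: KL) ≤ LL := gen_le.2 fun c hc =>
  ⟨sm_GP c, sm_u (by revert c; decide +kernel)⟩
theorem EE_le_L : EE ≤ gen sm (2 :: KL) := gen_EE ▸ gen_mono fun c hc => by simp [hc]

theorem L_orb0 {y : VV} (hy : y ∈ XX) (e : D.B u y = 1024)
    (h0 : y ∈ XO 0 ∨ ∃ h ∈ gen sm (2 :: KL), h • xv 3 = ax (16 * 4305) true) :
    ∃ h ∈ gen sm (2 :: KL), h • xv 3 = y := by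
  let O : VV → Prop := fun y => ∃ h ∈ gen sm (2 :: KL), h • xv 3 = y
  have mv : ∀ {h y}, h ∈ gen sm (2 :: KL) → O y → O (h • y) := by
    rintro h y hh ⟨k, hk, rfl⟩
    exact ⟨h * k, Subgroup.mul_mem _ hh hk, mul_smul _ _ _⟩
  have m : ∀ c ∈ 2 :: KL, sm c ∈ gen sm (2 :: KL) := fun c hc => mem_gen hc
  have br : ∀ i j, i ∈ 2 :: KL → j ∈ 2 :: KL → sm i • xv j = sm j • xv i → O (xv i) → O (xv j) :=
    fun i j hi hj e h => by
      have := mv (m i hi) (mv (m j hj) h)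
      rwa [← e, sm_sm] at this
  have o3 : O (xv 3) := ⟨1, Subgroup.one_mem _, one_smul _ _⟩
  have o2 := br 3 2 (by decide) (by decide) sm_braid o3
  have o0 := br 0 0 (by decide) (by decide) rfl (br 1 0 (by decide) (by decide) sm_braid
    (br 2 1 (by decide) (by decide) sm_braid o2))
  have oB : ∀ {y}, O y → D.B u y = 1024 := by
    rintro _ ⟨h, hh, rfl⟩
    rw [← B_u3, ← GP_iso (gen_L_le hh).1 u (xv 3), show h • u = u from (gen_L_le hh).2]
  have p1 : pt 2048 := ⟨by omega, by omega⟩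
  have o1 : O (ax (16 * 2048) true) := by
    have a := cI_sound (xq_bnd _ _) (f8_bnd _) ri0
    have a1 := cI_sound (xq_bnd _ _) (xq_bnd _ _) (and2_true.1 cn1).1
    rw [vc_xq (by omega)] at a
    rw [vc_xq (by omega), vc_xq (by omega)] at a1
    have hx := ax_XX (dom_even p1) true
    have b := braid hx (xv_XX (c := 2) (by omega)) (a.trans (by norm_num))
    have c : dl (ax (16 * 2048) true) ∈ EE :=
      ⟨by rw [dl_ax0 p1]; exact D_ok.P_mem _,
        fix_of_adj hx u_XX (adj_comm.1 (adj_of (a1.trans (by norm_num))))⟩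
    have := mv (m 2 (by decide)) (mv (EE_le_L c) o2)
    rwa [b, ← sm_lt (by omega), sm_sm] at this
  have key : ∀ {k j l c y0 k0}, k ∈ D.KK → k • u = ax (16 * l) c → (k • y = wv j ∨ k • y = - wv j) →
      k0 ∈ D.KK → k0 • u = ax (16 * l) c → (k0 • y0 = wv j ∨ k0 • y0 = - wv j) → O y0 → O y := by
    intro k j l c y0 k0 hk e1 e2 hk0 f1 f2 o
    have h1 : k⁻¹ * k0 ∈ EE := ⟨D.KK.mul_mem (D.KK.inv_mem hk) hk0, by
      change (k⁻¹ * k0) • u = u
      rw [mul_smul, f1, ← e1, inv_smul_smul]⟩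
    have h2 := mv (EE_le_L h1) o
    have h3 : (k⁻¹ * k0) • y0 = y ∨ (k⁻¹ * k0) • y0 = -y := by
      rw [mul_smul, inv_smul_eq_iff, inv_smul_eq_iff, smul_neg'']
      rcases e2 with e2 | e2 <;> rcases f2 with f2 | f2 <;> simp [e2, f2]
    rcases h3 with h3 | h3 <;> rw [h3] at h2
    · exact h2
    · have := oB h2
      rw [B_neg, e] at this; norm_num at this
  have rp : ∀ {a l c j w}, l < 4348 → cL [xq 4304 false, a] [xq l c, w16 j] w [] = true →
      ev g w • u = ax (16 * l) c ∧ (ev g w • vc a = wv j ∨ ev g w • vc a = - wv j) := fun hl h => by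
    have := cL2 h
    rw [ev_nil, one_smul, one_smul, vc_xq (by omega), vc_xq hl, vc_w16] at this
    exact ⟨this.1, Or.inl this.2⟩
  have rp' : ∀ {a l c j w}, l < 4348 → j < 5 →
      cL [xq 4304 false, a] [xq l c, ngr (w16 j)] w [] = true →
      ev g w • u = ax (16 * l) c ∧ (ev g w • vc a = wv j ∨ ev g w • vc a = - wv j) := fun hl hj h => by
    have := cL2 h
    rw [ev_nil, one_smul, one_smul, vc_xq (by omega), vc_xq hl, vc_ng (w16_bnd hj), vc_w16] at this
    exact ⟨this.1, Or.inr this.2⟩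
  obtain ⟨k, hk, j, l, c, hc, e1, e2⟩ := canon_adj hy (adj_of e)
  simp only [List.mem_cons, List.not_mem_nil, or_false, Prod.mk.injEq] at hc
  rw [← vc_xq (by omega)] at o1
  rcases hc with ⟨rfl, rfl, rfl⟩ | ⟨rfl, rfl, rfl⟩ | ⟨rfl, rfl, rfl⟩ | ⟨rfl, rfl, rfl⟩ |
    ⟨rfl, rfl, rfl⟩ | ⟨rfl, rfl, rfl⟩ | ⟨rfl, rfl, rfl⟩
  · exact key hk e1 e2 (km_mem (by decide +kernel)) (rp (by omega) rp0).1 (rp (by omega) rp0).2 o1
  · exact key hk e1 e2 (km_mem (by decide +kernel)) (rp (by omega) rp1).1 (rp (by omega) rp1).2 o1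
  · exact key hk e1 e2 (km_mem (by decide +kernel)) (rp' (by omega) (by omega) rp2).1
      (rp' (by omega) (by omega) rp2).2 o3
  · exact key hk e1 e2 (km_mem (by decide +kernel)) (rp' (by omega) (by omega) rp3).1
      (rp' (by omega) (by omega) rp3).2 o0
  · exact key hk e1 e2 (km_mem (by decide +kernel)) (rp (by omega) rp4).1 (rp (by omega) rp4).2 o0
  · have a := cL1 rp5
    have b := cL1 rp5u
    have h5 : ev g wk5 ∈ D.KK := km_mem (by decide +kernel)
    rw [vc_xq (by omega), ev_nil, one_smul] at b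
    rw [vc_xq (by omega), vc_w16, ev_cons, ev_append _ (wk1 ++ 25 :: wk0), show g 25 = t from rfl,
      ← sm2_eq, mul_smul, mul_smul, smul_left_cancel_iff] at a
    rcases h0 with h0 | h0
    · have h2 : k • y ∈ XO 2 := by
        rcases e2 with e2 | e2 <;> rw [e2]
        exacts [wv_mem 2, (smul_XO neg_one_mem).2 (wv_mem 2)]
      exact absurd (XO_disj (by omega) (by omega) h0 ((smul_XO hk).1 h2)) (by omega)
    · exact key hk e1 e2 (D.KK.inv_mem h5) (by rw [inv_smul_eq_iff]; exact b.symm)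
        (Or.inl (by rw [a, inv_smul_smul])) (mv (m 2 (by decide)) h0)
  · exact key hk e1 e2 (km_mem (by decide +kernel)) (rp (by omega) rp6).1 (rp (by omega) rp6).2 o2

theorem L_orb {y : VV} (hy : y ∈ XX) (e : D.B u y = 1024) :
    ∃ h ∈ gen sm (2 :: KL), h • xv 3 = y := by
  have i := cI_sound (xq_bnd _ _) (xq_bnd _ _) ri5
  rw [vc_xq (by omega), vc_xq (by omega)] at i
  have p2 : dom (16 * 4305) := dom_even ⟨by omega, by omega⟩
  exact L_orb0 hy e (Or.inr (L_orb0 (ax_XX p2 _) (i.trans (by norm_num)) (Or.inl (ax_X0 p2 _))))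

theorem mem_EE {h : GG} (hh : h ∈ LL) (e : h • xv 3 = xv 3) : h ∈ EE :=
  EE_eq ▸ ⟨hh, by rwa [xv3, smul_neg'', neg_inj] at e⟩

theorem gen_LL : gen sm (2 :: KL) = LL := le_antisymm gen_L_le fun h hh => by
  obtain ⟨k, hk, e⟩ := L_orb (GP_XX hh.1 (xv_XX (c := 3) (by omega))) (by
    rw [← B_u3, ← GP_iso hh.1 u (xv 3), show h • u = u from hh.2])
  have := EE_le_L (mem_EE (LL.mul_mem (LL.inv_mem (gen_L_le hk)) hh) (by
    rw [mul_smul, ← e, inv_smul_smul]))
  simpa using Subgroup.mul_mem _ hk this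

theorem g_u : ev sm [4, 3, 11, 4] • u = xv 3 := by
  simp only [ev_cons, ev_nil, mul_one, mul_smul]
  rw [← xv11, sm_braid (i := 4) (j := 11), sm_sm, sm_braid (i := 3) (j := 4), sm_sm]

theorem cn {a b : ℕ → ℕ} (ha : bnd8 a) (hb : bnd8 b) {p q : ℕ} (h : cI a b p q = true)
    (e : p = 1024 ∧ q = 0 ∨ p = 0 ∧ q = 1024 := by decide) : adj (vc a) (vc b) := by
  rw [adj, cI_sound ha hb h]
  rcases e with ⟨rfl, rfl⟩ | ⟨rfl, rfl⟩ <;> norm_num

theorem xq_XX (k : ℕ) (c : Bool) (hk : pt k := by exact ⟨by omega, by omega⟩) : vc (xq k c) ∈ XX := by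
  rw [vc_xq hk.2]; exact ax_XX (dom_even hk) c

/-- The graph on the axes is connected. -/
theorem conn {O : VV → Prop} (h0 : O u)
    (h1 : ∀ x ∈ XX, ∀ y ∈ XX, D.B x y = 1024 → O x → O y) : ∀ y ∈ XX, O y := by
  have ng : ∀ x ∈ XX, O x → O (-x) := fun x hx o => by
    obtain ⟨h, hh, rfl⟩ := XX_orb hx
    have a := cI_sound (xq_bnd _ _) (xq_bnd _ _) (and2_true.1 cn1).1
    have b := cI_sound (xq_bnd _ _) (xq_bnd _ _) (and2_true.1 cn1).2
    rw [vc_xq (k := 4304) (by omega)] at a b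
    have c := GP_XX hh (xq_XX 2048 true)
    have o1 := h1 _ hx _ c (by rw [GP_iso hh, a]; norm_num) o
    have o2 := h1 _ c _ (GP_XX hh u'_XX) (by rw [GP_iso hh, b]; norm_num) o1
    exact h1 _ (GP_XX hh u'_XX) _ (neg_XX hx) (by
      rw [B_neg, GP_iso hh, B_comm, B_uu']; norm_num) o2
  have ad : ∀ x ∈ XX, ∀ y ∈ XX, adj x y → O x → O y := fun x hx y hy a o => by
    rw [adj, sq_eq_sq_iff_eq_or_eq_neg] at a
    rcases a with a | a
    · exact h1 x hx y hy a o
    · exact h1 _ (neg_XX hx) y hy (by rw [neg_B, a, neg_neg]) (ng x hx o)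
  intro y hy
  obtain ⟨h, hh, m, hm, e1, e2⟩ := pairs u_XX hy
  have hi := GP.inv_mem hh
  have mv : ∀ {a b}, a ∈ XX → b ∈ XX → adj a b → O (h⁻¹ • a) → O (h⁻¹ • b) := fun ha hb c =>
    ad _ (GP_XX hi ha) _ (GP_XX hi hb) ((adj_smul hi).2 c)
  have s0 : O (h⁻¹ • sx m) := by rwa [← e1, inv_smul_smul]
  suffices O (h⁻¹ • sy m) by
    rcases e2 with e2 | e2
    · rwa [← e2, inv_smul_smul] at this
    · have := ng _ (GP_XX hi (sy_XX hm)) this
      rwa [← smul_neg'', ← e2, inv_smul_smul] at this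
  have w1 := w16_bnd (j := 1) (by omega)
  have w2 := w16_bnd (j := 2) (by omega)
  interval_cases m
  · exact s0
  · exact mv (sx_XX hm) (sy_XX hm) ((adj_std hm).2 rfl) s0
  · have := mv (xq_XX 3072 false) (vc_w16 1 ▸ wv_XX (by omega)) (cn (xq_bnd _ _) w1 cn5)
      (mv (xq_XX 2048 false) (xq_XX 3072 false) (cn (xq_bnd _ _) (xq_bnd _ _) (and2_true.1 cn2).2)
        (mv (xq_XX 3184 false) (xq_XX 2048 false)
          (cn (xq_bnd _ _) (xq_bnd _ _) (and2_true.1 cn2).1) s0))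
    rwa [vc_w16] at this
  · have := mv (xq_XX 4304 false) (vc_w16 2 ▸ wv_XX (by omega))
      (cn (xq_bnd _ _) w2 (and2_true.1 cn3).2) (mv (xq_XX 2048 false) (xq_XX 4304 false)
        (cn (xq_bnd _ _) (xq_bnd _ _) (and2_true.1 cn3).1) s0)
    rwa [vc_w16] at this
  · exact mv (xq_XX 2048 false) (xq_XX 2052 false)
      (cn (xq_bnd _ _) (xq_bnd _ _) (and2_true.1 cn4).2) (mv (xq_XX 4304 false) (xq_XX 2048 false)
        (cn (xq_bnd _ _) (xq_bnd _ _) (and2_true.1 cn4).1) s0)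

theorem gen_GP : gen sm (4 :: 2 :: KL) = GP := le_antisymm (gen_le.2 fun c _ => sm_GP c) fun h hh => by
  have l : LL ≤ gen sm (4 :: 2 :: KL) := gen_LL ▸ gen_mono fun c hc => by simp at hc ⊢; tauto
  have l2 : gen sm (4 :: 2 :: KL) ≤ GP := gen_le.2 fun c _ => sm_GP c
  obtain ⟨k, hk, e⟩ := conn (O := fun y => ∃ k ∈ gen sm (4 :: 2 :: KL), k • u = y)
    ⟨1, Subgroup.one_mem _, one_smul _ _⟩ (by
      rintro _ - y hy e ⟨k, hk, rfl⟩
      obtain ⟨a, ha, e1⟩ := L_orb (GP_XX (GP.inv_mem (l2 hk)) hy) (by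
        rw [← GP_iso (l2 hk), smul_inv_smul, e])
      exact ⟨k * a * ev sm [4, 3, 11, 4], Subgroup.mul_mem _ (Subgroup.mul_mem _ hk
        (l (gen_L_le ha))) (ev_mem_gen (by decide)), by
          rw [mul_smul, mul_smul, g_u, e1, smul_inv_smul]⟩) _ (GP_XX hh u_XX)
  have := l (show k⁻¹ * h ∈ LL from ⟨GP.mul_mem (GP.inv_mem (l2 hk)) hh, by
    change (k⁻¹ * h) • u = u
    rw [mul_smul, ← e, inv_smul_smul]⟩)
  simpa using Subgroup.mul_mem _ hk this

/-! ### A conjugate position -/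

theorem wh_GP : ev g wh ∈ GP := word_GP (by decide +kernel)
noncomputable def sh (c : ℕ) : GG := ev g wh * sm c * (ev g wh)⁻¹
theorem ev_sh (w : List ℕ) : ev sh w = ev g wh * ev sm w * (ev g wh)⁻¹ :=
  (map_ev (MulAut.conj (ev g wh)).toMonoidHom sm w).symm
theorem sh_eq {c : ℕ} (hc : c < 15) : sh c = dl (ev g wh • xv c) := by
  rw [dl_smul wh_GP (xv_XX hc), sh, sm_lt hc]

theorem sh_all : ∀ c ∈ [0, 1, 2, 3, 5, 6, 7, 8, 12], ev g wh • xv c ∈ XO 1 ∧
    dl (ev g wh • xv c) ∈ D.KK ∧ Tab D (dl (ev g wh • xv c)) (tym c) := by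
  have h := cL_sound rwh
  simp only [ev_nil, one_smul] at h
  simp only [List.forall_mem_cons]
  exact ⟨(h 2 (by simp) :) ▸ red1 ryl0 cyl0, (h 3 (by simp) :) ▸ red1 ryl1 cyl1,
    (h 4 (by simp) :) ▸ red1 ryl2 cyl2, (h 5 (by simp) :) ▸ red1 ryl3 cyl3,
    (h 6 (by simp) :) ▸ red1 ryl5 cyl5, (h 7 (by simp) :) ▸ red1 ryl6 cyl6,
    (h 8 (by simp) :) ▸ red1 ryl7 cyl7, (h 9 (by simp) :) ▸ red1 ryl8 cyl8,
    (h 10 (by simp) :) ▸ red1 ryl12 cyl12, fun _ h => absurd h List.not_mem_nil⟩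

theorem sh_tab (c : ℕ) (h : (4591 : ℕ).testBit c = true) : sh c ∈ D.KK ∧ Tab D (sh c) (tym c) := by
  have h1 := bit_lt (n := 13) (by decide) h
  rw [sh_eq (by omega)]
  exact (sh_all c (by interval_cases c <;> first | exact absurd h (by decide) | decide)).2

theorem sh11 : sh 11 = sm 11 := by
  have h := cL_sound rwh 0 (by simp)
  rw [ev_nil, one_smul] at h
  rw [sh_eq (by omega), sm_lt (by omega)]; exact congrArg dl h
theorem sh10 : sh 10 = sm 3 := by
  have h := cL_sound rwh 1 (by simp)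
  rw [ev_nil, one_smul] at h
  rw [sh_eq (by omega), sm_lt (by omega)]; exact congrArg dl h
theorem sh_BB {w : List ℕ} (h : ∀ c ∈ w, c < 15) : ev sh w ∈ BB :=
  ev_mem fun c hc => conj_BB wh_GP (sm_BB (h c hc))

theorem sm_ne : (sm 10 * sm 11) • xv 4 ≠ xv 4 := by
  intro h
  have h1 := ipj (i := 4) (j := 11)
  rw [mul_smul, ← eq_inv_smul_iff, sm_inv, fx_sound (c := 10) (by omega) (by decide +kernel),
    ← sm_braid (i := 4) (j := 11), ← eq_inv_smul_iff, sm_inv,
    fx_sound (c := 4) (by omega) (by decide +kernel)] at h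
  rw [h, B_self gn4.1] at h1
  norm_num at h1

theorem sh_z : D.z = ev sh [10, 11] := by rw [ev_cons, ev_cons, ev_nil, mul_one, sh10, sh11, sm_z]

theorem rel_f2 : ev sm (powW 9 [0, 1, 2, 5, 6, 7, 8]) = 1 := by
  have a := tab_of_chk sh_tab tf2
  have b := tab_of_chk km_tab (and2_true.1 to2).2
  rcases eq_of_tab_BB a.1 b.1 (sh_BB (by decide)) BB.one_mem (Tab.same a.2 b.2) with e | e
  · rw [ev_sh, ev_nil, mul_inv_eq_one, mul_eq_left] at e; exact e
  · rw [ev_nil, mul_one, sh_z, ev_sh, ev_sh, mul_left_inj, mul_right_inj] at e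
    refine absurd ?_ sm_ne
    have := fx_word (j := 4) (w := powW 9 [0, 1, 2, 5, 6, 7, 8]) (by omega) (by decide +kernel)
    rw [show ev sm (powW 9 [0, 1, 2, 5, 6, 7, 8]) = _ from e] at this
    simpa using this

theorem rel_f1' : ev sm (powW 9 [6, 5, 0, 1, 2, 3, 8]) = sm 11 ∨
    ev sm (powW 9 [6, 5, 0, 1, 2, 3, 8]) = sm 10 := by
  have a := tab_of_chk sh_tab tf1
  have b := sm_tab 11 (by decide)
  rcases eq_of_tab_BB a.1 b.1 (sh_BB (by decide)) (sm_BB (by omega)) (Tab.same a.2 b.2) with e | e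
  · rw [ev_sh, ← sh11, sh, mul_left_inj, mul_right_inj] at e; exact Or.inl e
  · rw [ev_sh, ← sm_z, mul_assoc (sm 3), sm_sq, mul_one, ← sh10, sh, mul_left_inj, mul_right_inj] at e
    exact Or.inr e

def wl : List ℕ := [6, 5, 0, 8, 1, 0, 5, 2, 1, 0, 8, 6, 5, 3, 2, 1]

theorem sm12 : sm 12 = ev sm wl * sm 0 * (ev sm wl)⁻¹ := by
  have a := tab_of_chk sh_tab tll
  have hw : ev sm wl ∈ GP := ev_mem fun c _ => sm_GP c
  have e : ev sh (wl ++ 0 :: invW (ivOf []) wl) = dl (ev g wh • ev sm wl • xv 0) := by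
    rw [dl_smul wh_GP (GP_XX hw (xv_XX (by omega))), dl_smul hw (xv_XX (by omega)), ev_sh, ev_append,
      ev_cons, ev_invW sm_iv, sm_lt (by omega), mul_assoc (ev sm wl)]
  change ev sh (wl ++ 0 :: invW (ivOf []) wl) ∈ _ ∧ Tab D (ev sh (wl ++ 0 :: invW (ivOf []) wl)) _ at a
  have b := sh_all 12 (by decide)
  rw [e] at a
  have := dl_eq_of_tab (GP_XX wh_GP (GP_XX hw (xv_XX (by omega)))) b.1 a.1 b.2.1 a.2 b.2.2
  rw [← sh_eq (by omega), dl_smul wh_GP (GP_XX hw (xv_XX (by omega))), sh, mul_left_inj,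
    mul_right_inj, dl_smul hw (xv_XX (by omega)), ← sm_lt (by omega)] at this
  exact this.symm

def NL : List ℕ := [0, 1, 2, 3, 4, 5, 6, 7, 8, 9, 10]

theorem om_not : om ∉ BB := fun h => by
  have : gen sm (4 :: 2 :: KL) ≤ BB := gen_le.2 fun c hc => by
    by_cases e : c = 15
    · exact e ▸ h
    · exact sm_BB (by revert c; decide)
  exact neg_BB (this (gen_GP ▸ neg_GP))

theorem gen_BB' : gen sm (11 :: NL) = BB := by
  have hle : gen sm (11 :: NL) ≤ BB := gen_le.2 fun c hc => sm_BB (by revert c; decide)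
  refine le_antisymm hle fun b hb => ?_
  have oi : om⁻¹ = om := sm_inv 15
  have := dichotomy (e := sm) (L := 4 :: 2 :: KL) (K := gen sm (11 :: NL)) om_sq (fun k hk => by
    have : gen sm (11 :: NL) ≤ (gen sm (11 :: NL)).comap (MulAut.conj om).toMonoidHom :=
      gen_le.2 fun c hc => by
        change om * sm c * om⁻¹ ∈ gen sm (11 :: NL)
        rw [om_sm (by revert c; decide)]; exact mem_gen (by revert c; decide)
    have h1 : om * k * om⁻¹ ∈ gen sm (11 :: NL) := this hk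
    rwa [oi] at h1) (fun c hc => by
    by_cases e : c ∈ 11 :: NL
    · exact Or.inl (mem_gen e)
    · have : c = 12 ∨ c = 15 := by revert c; decide
      rcases this with rfl | rfl
      · exact Or.inl (sm12 ▸ Subgroup.mul_mem _ (Subgroup.mul_mem _ (ev_mem_gen (by decide))
          (mem_gen (by decide))) (Subgroup.inv_mem _ (ev_mem_gen (by decide))))
      · exact Or.inr (by rw [sm15, om_sq]; exact Subgroup.one_mem _)) b (gen_GP ▸ BB_le hb)
  refine this.resolve_right fun h => om_not ?_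
  simpa using BB.mul_mem (BB.inv_mem hb) (hle h)

theorem cent_BB {h : GG} (hh : h ∈ BB) (e : ∀ b ∈ BB, b * h = h * b) : h = 1 := by
  rcases (inferInstance : (Subgroup.center BB).Normal).eq_bot_or_eq_top with c | c
  · have : (⟨h, hh⟩ : BB) ∈ Subgroup.center BB :=
      Subgroup.mem_center_iff.2 fun b => Subtype.ext (e b b.2)
    rw [c] at this
    exact congrArg Subtype.val (Subgroup.mem_bot.1 this)
  · obtain ⟨a, b, hab⟩ := BB_nonab
    exact absurd (Subgroup.mem_center_iff.1 (c ▸ Subgroup.mem_top b) a) hab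

theorem eq_one_of_fix {h : GG} (hh : h ∈ GP) (e : ∀ c < 12, h • xv c = xv c) : h = 1 := by
  have h1 : ∀ b ∈ BB, b * h = h * b := gen_BB' ▸ comm_gen fun c hc => by
    have : c < 12 := by revert c; decide
    rw [sm_lt (by omega), comm_of_fix hh (xv_XX (by omega)) (e c this)]
  rcases GP_PB hh with a | a
  · exact cent_BB a h1
  · have h2 := cent_BB a fun b hb => by rw [← mul_neg', ← neg_mul', h1 b hb]
    have h3 := e 11 (by omega)
    have h4 := B_self u_XX
    rw [← neg_neg' h, h2, xv11, neg_one_smul''] at h3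
    nth_rewrite 1 [← h3] at h4
    rw [neg_B, B_self u_XX] at h4
    norm_num at h4

theorem rel_sp : ev sm (powW 10 [0, 1, 2, 0, 5, 6, 0, 8, 9]) = 1 := by
  have k0 : ev g wk0i * ev g wk0 = 1 := by rw [← ev_append]; exact eqM sm0
  have k1 : ev g wk1i * ev g wk1 = 1 := by
    have a := tab_of_chk km_tab sm1
    have b := tab_of_chk km_tab (and2_true.1 to2).2
    rw [← ev_append]
    exact eq_of_tab_fix a.1 b.1 (Tab.same a.2 b.2) gnw (by simpa [vc_w16] using cL1 sm2)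
  have k2 : ev sm [0, 5, 6, 0, 8, 9, 0, 1] = ev g (wk0i ++ (wm ++ wk0)) := by
    have a := tab_of_chk sm_tab (and2_true.1 sm3).1
    have b := tab_of_chk km_tab (and2_true.1 sm3).2
    exact eq_of_tab_fix a.1 b.1 (Tab.same a.2 b.2) gn4 (by
      rw [fx_word (by omega) (by decide +kernel)]
      have := (cL1 sm4).symm
      rwa [ev_nil, one_smul] at this)
  have k3 : ev sm [2, 0, 5, 6, 0, 8, 9, 0, 1] = ev g wk0i * ev g wp * ev g wk0 := by
    have a := sm2_eq
    rw [← eq_inv_mul_iff_mul_eq] at a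
    rw [ev_cons, k2, a, wp]
    simp only [ev_append, ev_cons, mul_inv_rev, eq_inv_of_mul_eq_one_left k0,
      eq_inv_of_mul_eq_one_left k1, show g 25 = t from rfl, t_inv]
    group
  have k4 : ev sm (powW 10 [2, 0, 5, 6, 0, 8, 9, 0, 1]) = ev g (wk0i ++ (wp ++ wp)) *
      (ev g (wp ++ wp) * (ev g (wp ++ wp) * (ev g (wp ++ wp) * ev g (wp ++ (wp ++ wk0))))) := by
    rw [ev_powW, k3, eq_inv_of_mul_eq_one_left k0, ← inv_inv (ev g wk0), inv_inv (ev g wk0)⁻¹,
      conj_pow]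
    simp only [ev_append, eq_inv_of_mul_eq_one_left k0, pow_succ, pow_zero, inv_inv, one_mul,
      mul_assoc]
  have k5 : ev sm (powW 10 [2, 0, 5, 6, 0, 8, 9, 0, 1]) = 1 := by
    refine eq_one_of_fix (ev_mem fun c _ => sm_GP c) fun c hc => ?_
    by_cases c1 : c = 4 ∨ c = 11
    · rcases c1 with rfl | rfl <;> exact fx_word (by omega) (by decide +kernel)
    have key : ∀ i < 10, ev sm (powW 10 [2, 0, 5, 6, 0, 8, 9, 0, 1]) • vc ([f8 xl0, f8 xl1, f8 xl2,
        f8 xl3, f8 xl5, f8 xl6, f8 xl7, f8 xl8, f8 xl9, f8 xl10].getD i fun _ => 0) =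
        vc ([f8 xl0, f8 xl1, f8 xl2, f8 xl3, f8 xl5, f8 xl6, f8 xl7, f8 xl8, f8 xl9,
          f8 xl10].getD i fun _ => 0) := fun i hi => by
      have a1 := cL_sound sp1 i hi
      have a2 := cL_sound sp2 i hi
      have a3 := cL_sound sp3 i hi
      have a4 := cL_sound sp4 i hi
      have a5 := cL_sound sp5 i hi
      rw [ev_nil, one_smul] at a1 a2 a3 a4 a5
      rw [k4, mul_smul, mul_smul, mul_smul, mul_smul, a1, a2, a3, a4, a5]
    interval_cases c
    exacts [key 0 (by omega), key 1 (by omega), key 2 (by omega), key 3 (by omega), by omega,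
      key 4 (by omega), key 5 (by omega), key 6 (by omega), key 7 (by omega), key 8 (by omega),
      key 9 (by omega), by omega]
  rw [ev_powW] at k5 ⊢
  rw [eqR_sound (cm := fun _ _ => false) sm_sq (fun _ _ h => by cases h)
    (w := [0, 1] ++ [2, 0, 5, 6, 0, 8, 9, 0, 1] ++ [0, 1].reverse) (by decide +kernel), ev_append,
    ev_append, ev_rev sm_sq, conj_pow, k5]
  simp

theorem sm_cox : ∀ r ∈ coxR 15, ev sm r = 1 := fun r hr => by
  obtain ⟨i, hi, hr⟩ := List.mem_flatMap.1 hr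
  obtain ⟨j, hj, rfl⟩ := List.mem_map.1 hr
  rw [List.mem_range] at hi hj
  rw [ev_powW, ev_cons, ev_cons, ev_nil, mul_one]
  by_cases e : i = j
  · rw [e, sm_sq, one_pow]
  rw [sm_lt hi, sm_lt hj]
  split_ifs with c
  · exact ord3 (xv_XX hi) (xv_XX hj) (ipj ⟨hi, hj, c⟩)
  · exact ord2 (xv_XX hi) (xv_XX hj) (adj_of (ipc ⟨hi, hj, e, Bool.eq_false_iff.2 c⟩))

theorem sm_yr : YR sm := by
  refine ⟨sm_sq, rels_sub sm_cox (by decide +kernel), rel_sp, rel_f2, ?_⟩
  have := conj_ev (e := sm) (x := om) (σ := ta) (w := powW 9 [0, 1, 2, 5, 6, 7, 8])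
    fun c hc => om_sm (by revert c; decide +kernel)
  rw [rel_f2, mul_one, mul_inv_cancel] at this
  rw [this]
  exact eqR_sound sm_sq (comm_of_cox (n := 14) sm_sq sm_cox) (by decide +kernel)

theorem rel_f1 : ev sm (powW 9 [6, 5, 0, 1, 2, 3, 8]) = sm 11 := rel_f1'.resolve_right fun e => by
  have h := sm_yr.f1_comm
  have h1 := sm_braid (i := 9) (j := 10)
  have h2 := pm_of_comm (sm_GP 9) (xv_XX (c := 10) (by omega)) (by rwa [e, sm_lt (by omega)] at h)
  have h3 := ipj (i := 9) (j := 10)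
  have h4 := GP_iso (sm_GP 9) (xv 10) (xv 10)
  have h5 := B_self (xv_XX (c := 10) (by omega))
  have h6 := GP_iso (sm_GP 10) (xv 9) (xv 10)
  rw [← h1, fx_sound (c := 10) (by omega) (by decide +kernel), h3] at h6
  rcases h2 with h2 | h2 <;> rw [h2] at h6
  · rw [h5] at h6; norm_num at h6
  · rw [neg_B, h5] at h6; norm_num at h6

theorem gen_BB : gen sm NL = BB := by
  rw [← gen_BB']
  refine le_antisymm (gen_mono fun c hc => by simp [hc]) (gen_le.2 fun c hc => ?_)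
  rcases List.mem_cons.1 hc with rfl | hc
  · exact rel_f1 ▸ ev_mem_gen (by decide +kernel)
  · exact mem_gen hc

/-- The presented group maps onto the model. -/
theorem exists_surj : ∃ π : Cfsg.Spor.BabyMonster →* BB, Function.Surjective π := by
  obtain ⟨π, hπ⟩ := sm_yr.hom
  have h : π.range = BB := by
    rw [MonoidHom.range_eq_map, ← PY_top, map_gen, ← gen_BB]
    exact gen_congr fun c hc => hπ c (by revert c; decide)
  refine ⟨π.codRestrict BB fun x => h ▸ ⟨x, rfl⟩, fun y => ?_⟩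
  obtain ⟨x, hx⟩ : y.1 ∈ π.range := by rw [h]; exact y.2
  exact ⟨x, Subtype.ext hx⟩

end H29.YB
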