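import Mathlib
import Cfsg.Agent.H29.YB.B0

/-!
# The geometry of the axes
-/

set_option autoImplicit false
set_option maxRecDepth 100000
set_option linter.all false

namespace H29.YB
open H19 H29.BE H29.BP H29.BP.Dat H29.BM

theorem cI' {a b : ℕ → ℕ} (ha : bnd8 a) (hb : bnd8 b) {p : ℕ} (h : cI a b p 0 = true) :
    D.B (vc a) (vc b) = p := by rw [cI_sound ha hb h]; simp
theorem vu : vc (xq 4304 false) = u := vc_xq (by omega) false
theorem vu' : vc (xq 4304 true) = u' := vc_xq (by omega) true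
theorem EE_GP {h : GG} (hh : h ∈ EE) : h ∈ GP := KK_GP hh.1
theorem EE_u {h : GG} (hh : h ∈ EE) : h • u = u := hh.2
theorem EE_u' {h : GG} (hh : h ∈ EE) : h • u' = u' := by
  rw [← EE_eq] at hh; exact hh.2
theorem EE_3 {h : GG} (hh : h ∈ EE) : h • xv 3 = xv 3 := by rw [xv3, smul_neg'', EE_u' hh]

noncomputable def aA : VV := vc (xq 2048 true)
theorem aA_X0 : aA ∈ XO 0 := by
  rw [aA, vc_xq (by omega)]; exact ax_X0 (dom_even ⟨by omega, by omega⟩) _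
noncomputable def nr : ℕ → VV
  | 0 => xv 3 | 1 => aA | 2 => xv 0 | 3 => wv 2 | _ => xv 2
noncomputable def nv : ℕ → ℚ
  | 0 => 7168 | 1 => -1024 | 2 => 1024 | 3 => 0 | _ => 256

theorem nb_B {i : ℕ} (hi : i < 5) : D.B u (nr i) = 1024 ∧ D.B (xv 3) (nr i) = nv i := by
  interval_cases i
  · exact ⟨B_u3, B_self (xv_XX (by omega))⟩
  · have a := cI' (xq_bnd _ _) (xq_bnd _ _) (and2_true.1 cn1).1
    have b := cI' (xq_bnd _ _) (xq_bnd _ _) (and2_true.1 cn1).2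
    rw [vu] at a
    rw [vu', B_comm] at b
    exact ⟨a.trans (by norm_num), by rw [xv3, neg_B, show nr 1 = vc (xq 2048 true) from rfl, b]; rfl⟩
  · exact ⟨xv11 ▸ ipc (i := 11) (j := 0), ipc (i := 3) (j := 0)⟩
  · have a := cI' (xq_bnd _ _) (w16_bnd (by omega)) (and2_true.1 cn3).2
    rw [vu, vc_w16] at a
    refine ⟨a.trans (by norm_num), ?_⟩
    obtain ⟨-, ⟨h, hh, e1, e2⟩, -⟩ := nd17
    change D.B (xv 3) (wv 2) = 0
    rw [xv3, neg_B, ← GP_iso hh, e1]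
    rcases e2 with e2 | e2 <;> simp [e2, B_neg, B_std.2.2.2.2]
  · exact ⟨xv11 ▸ ipc (i := 11) (j := 2), ipj (i := 3) (j := 2)⟩

theorem nbr_orb {y : VV} (hy : y ∈ XX) (e : D.B u y = 1024) : ∃ i < 5, ∃ h ∈ EE, h • nr i = y := by
  have key : ∀ {k j l c k0} i, i < 5 → k ∈ D.KK → k • u = ax (16 * l) c →
      (k • y = wv j ∨ k • y = - wv j) → k0 ∈ D.KK → (k0 • u = ax (16 * l) c ∧
      (k0 • nr i = wv j ∨ k0 • nr i = - wv j)) → ∃ i < 5, ∃ h ∈ EE, h • nr i = y := by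
    rintro k j l c k0 i hi hk e1 e2 hk0 ⟨f1, f2⟩
    have h1 : k⁻¹ * k0 ∈ EE := ⟨D.KK.mul_mem (D.KK.inv_mem hk) hk0, by
      change (k⁻¹ * k0) • u = u
      rw [mul_smul, f1, ← e1, inv_smul_smul]⟩
    have h3 : (k⁻¹ * k0) • nr i = y ∨ (k⁻¹ * k0) • nr i = -y := by
      rw [mul_smul, inv_smul_eq_iff, inv_smul_eq_iff, smul_neg'']
      rcases e2 with e2 | e2 <;> rcases f2 with f2 | f2 <;> simp [e2, f2]
    refine ⟨i, hi, _, h1, h3.resolve_right fun h3 => ?_⟩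
    have := GP_iso (EE_GP h1) u (nr i)
    rw [EE_u h1, h3, B_neg, e, (nb_B hi).1] at this
    norm_num at this
  have rp : ∀ {a l c j w}, l < 4348 → cL [xq 4304 false, a] [xq l c, w16 j] w [] = true →
      ev g w • u = ax (16 * l) c ∧ (ev g w • vc a = wv j ∨ ev g w • vc a = - wv j) := fun hl h => by
    have := cL2 h
    rw [ev_nil, one_smul, one_smul, vc_xq (by omega), vc_xq hl, vc_w16] at this
    exact ⟨this.1, Or.inl this.2⟩
  have rp' : ∀ {a l c j w}, l < 4348 → j < 5 →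
      cL [xq 4304 false, a] [xq l c, ngr (w16 j)] w [] = true →
      ev g w • u = ax (16 * l) c ∧ (ev g w • vc a = wv j ∨ ev g w • vc a = - wv j) := fun hl hj h => by
    have := cL2 h
    rw [ev_nil, one_smul, one_smul, vc_xq (by omega), vc_xq hl, vc_ng (w16_bnd hj), vc_w16] at this
    exact ⟨this.1, Or.inr this.2⟩
  obtain ⟨k, hk, j, l, c, hc, e1, e2⟩ := canon_adj hy (adj_of e)
  simp only [List.mem_cons, List.not_mem_nil, or_false, Prod.mk.injEq] at hc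
  rcases hc with ⟨rfl, rfl, rfl⟩ | ⟨rfl, rfl, rfl⟩ | ⟨rfl, rfl, rfl⟩ | ⟨rfl, rfl, rfl⟩ |
    ⟨rfl, rfl, rfl⟩ | ⟨rfl, rfl, rfl⟩ | ⟨rfl, rfl, rfl⟩
  · exact key 1 (by omega) hk e1 e2 (km_mem (by decide +kernel)) (rp (by omega) rp0)
  · exact key 1 (by omega) hk e1 e2 (km_mem (by decide +kernel)) (rp (by omega) rp1)
  · exact key 0 (by omega) hk e1 e2 (km_mem (by decide +kernel)) (rp' (by omega) (by omega) rp2)
  · exact key 2 (by omega) hk e1 e2 (km_mem (by decide +kernel)) (rp' (by omega) (by omega) rp3)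
  · exact key 2 (by omega) hk e1 e2 (km_mem (by decide +kernel)) (rp (by omega) rp4)
  · exact key 3 (by omega) hk e1 e2 D.KK.one_mem ⟨one_smul _ _, Or.inl (one_smul _ _)⟩
  · exact key 4 (by omega) hk e1 e2 (km_mem (by decide +kernel)) (rp (by omega) rp6)

theorem nbr_of {y : VV} (hy : y ∈ XX) (e : D.B u y = 1024) {i : ℕ} (hi : i < 5)
    (e' : D.B (xv 3) y = nv i) : ∃ h ∈ EE, h • nr i = y := by
  obtain ⟨j, hj, h, hh, rfl⟩ := nbr_orb hy e
  rw [← EE_3 hh, GP_iso (EE_GP hh), (nb_B hj).2] at e'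
  obtain rfl : j = i := by
    interval_cases i <;> interval_cases j <;> first | rfl | (norm_num [nv] at e')
  exact ⟨h, hh, rfl⟩

theorem edge {x y : VV} (hx : x ∈ XX) (hy : y ∈ XX) (e : D.B x y = 1024) :
    ∃ h ∈ GP, h • x = u ∧ h • y = xv 3 := by
  obtain ⟨a, ha, rfl⟩ := XX_orb hx
  obtain ⟨k, hk, e1⟩ := L_orb (GP_XX (GP.inv_mem ha) hy) (by rw [← GP_iso ha, smul_inv_smul, e])
  have := LL.inv_mem (gen_L_le hk)
  exact ⟨k⁻¹ * a⁻¹, GP.mul_mem this.1 (GP.inv_mem ha), by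
    rw [mul_smul, inv_smul_smul]; exact this.2, by rw [mul_smul, ← e1, inv_smul_smul]⟩

theorem adj_iff {x y : VV} : adj x y ↔ D.B x y = 1024 ∨ D.B x (-y) = 1024 := by
  rw [adj, sq_eq_sq_iff_eq_or_eq_neg, B_neg, neg_eq_iff_eq_neg]

/-- Paths of length two with given inner product of the ends are conjugate. -/
theorem path_std {x m y : VV} (hx : x ∈ XX) (hm : m ∈ XX) (hy : y ∈ XX) (a : D.B m x = 1024)
    (b : D.B m y = 1024) {i : ℕ} (hi : i < 5) (e : D.B x y = nv i) :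
    ∃ h ∈ GP, h • x = xv 3 ∧ h • m = u ∧ h • y = nr i := by
  obtain ⟨h, hh, e1, e2⟩ := edge hm hx a
  obtain ⟨k, hk, e3⟩ := nbr_of (GP_XX hh hy) (by rw [← e1, GP_iso hh, b]) hi
    (by rw [← e2, GP_iso hh, e])
  have := EE.inv_mem hk
  exact ⟨k⁻¹ * h, GP.mul_mem (EE_GP this) hh, by rw [mul_smul, e2, EE_3 this],
    by rw [mul_smul, e1, EE_u this], by rw [mul_smul, ← e3, inv_smul_smul]⟩

theorem path_conj {x m y x' m' y' : VV} (hx : x ∈ XX) (hm : m ∈ XX) (hy : y ∈ XX)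
    (a : D.B m x = 1024) (b : D.B m y = 1024) (hx' : x' ∈ XX) (hm' : m' ∈ XX) (hy' : y' ∈ XX)
    (a' : D.B m' x' = 1024) (b' : D.B m' y' = 1024) {i : ℕ} (hi : i < 5) (e : D.B x y = nv i)
    (e' : D.B x' y' = nv i) : ∃ h ∈ GP, h • x = x' ∧ h • m = m' ∧ h • y = y' := by
  obtain ⟨h, hh, h1, h2, h3⟩ := path_std hx hm hy a b hi e
  obtain ⟨k, hk, k1, k2, k3⟩ := path_std hx' hm' hy' a' b' hi e'
  exact ⟨k⁻¹ * h, GP.mul_mem (GP.inv_mem hk) hh, by rw [mul_smul, h1, ← k1, inv_smul_smul],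
    by rw [mul_smul, h2, ← k2, inv_smul_smul], by rw [mul_smul, h3, ← k3, inv_smul_smul]⟩

theorem sp_iff {x y : ℕ} : D.P x * D.P y = D.P y * D.P x ↔ sp x y = false := by
  rw [Dat.P, Dat.P, Pu_comm, mul_left_inj]
  exact ⟨fun h => zb_inj _ (x := y) (by simpa using h), fun h => by simp [h]⟩

theorem sp_zb' (x y : ℕ) (c : Bool) : sp (x ^^^ zb c) y = sp x y := by simp [sp, lo_xor, hi_xor]
theorem sp_zb'' (x y : ℕ) (c : Bool) : sp x (y ^^^ zb c) = sp x y := by simp [sp, lo_xor, hi_xor]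

theorem adjX0 {x y : VV} (hx : x ∈ XO 0) (hy : y ∈ XO 0) (c : dl x * dl y = dl y * dl x) :
    adj x y ∨ x = y ∨ x = -y := by
  obtain ⟨k, hk, l, a, hl, e1, e2⟩ := canon2 hx (by omega) hy
  have hx' : x ∈ XX := ⟨0, by omega, hx⟩
  have hy' : y ∈ XX := ⟨0, by omega, hy⟩
  rw [← adj_smul (KK_GP hk), e1, adj_pm e2]
  have : l = 2048 ∨ l = 2052 ∨ l = 4304 := by simpa [cases] using hl
  rcases this with rfl | rfl | rfl
  · cases a
    exacts [Or.inl (nd0.adj.2 rfl), Or.inl (nd1.adj.2 rfl)]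
  · have c1 : dl (k • x) * dl (k • y) = dl (k • y) * dl (k • x) := by
      rw [dl_smul (KK_GP hk) hx', dl_smul (KK_GP hk) hy', conj_mul, conj_mul, c]
    rw [dl_pm (wv_XX (by omega)) e2, e1, wv0, dl_ax0 p0, dl_ax0 ⟨by omega, by omega⟩, sp_iff, sp_zb',
      sp_zb''] at c1
    exact absurd c1 (by decide +kernel)
  · cases a
    · rw [wv0, ← e1, ← smul_neg'', smul_left_cancel_iff, smul_left_cancel_iff] at e2
      exact Or.inr (e2.imp Eq.symm fun e => by rw [e, neg_neg])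
    · exact Or.inl (nd5.adj.2 rfl)

theorem X0_dl {x : VV} (hx : x ∈ XO 0) : ∃ k c, pt k ∧ dl x = D.P (D.cl k ^^^ zb c) := by
  obtain ⟨p, c, hp, rfl⟩ := mem_X0.1 hx
  obtain ⟨k, e, hk, rfl⟩ := dom_cases hp
  exact ⟨k, _, hk, dl_ax hk e c⟩

theorem geo4 {a x r : VV} (ha : a ∈ XX) (hx : x ∈ XX) (hr : r ∈ XX) (h0 : D.B u a = 1024)
    (h1 : D.B u x = 1024) (h2 : D.B u r = 1024) (h3 : D.B a x = -1024) (h4 : D.B a r = -1024)
    (h5 : D.B x r = 0) : dl r * dl x * (dl r * dl x) = dl a * d := by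
  obtain ⟨h, hh, e1, e2⟩ := edge u_XX ha h0
  have k : ∀ y ∈ XX, D.B u y = 1024 → D.B a y = -1024 → h • y ∈ XO 0 := fun y hy b1 b2 => by
    obtain ⟨k, hk, e⟩ := nbr_of (GP_XX hh hy) (by rw [← e1, GP_iso hh, b1]) (i := 1) (by omega)
      (by rw [← e2, GP_iso hh, b2]; rfl)
    exact e ▸ (smul_XO hk.1).2 aA_X0
  have a1 := k x hx h1 h3
  have a2 := k r hr h2 h4
  have nc : dl (h • r) * dl (h • x) ≠ dl (h • x) * dl (h • r) := fun c => by
    have b := B_self hx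
    rw [← GP_iso hh] at h5 b
    rcases adjX0 a1 a2 c.symm with c | c | c
    · rw [adj, h5] at c; norm_num at c
    · rw [← c, b] at h5; norm_num at h5
    · rw [← neg_eq_iff_eq_neg] at c
      rw [← c, B_neg, b] at h5; norm_num at h5
  have s1 := dl_sq (GP_XX hh hx)
  have s2 := dl_sq (GP_XX hh hr)
  have e3 : dl (h • r) * dl (h • x) * (dl (h • r) * dl (h • x)) = dl (h • a) * dl (h • u) := by
    rw [e1, e2, ← sm_lt (by omega), dl_u0, ← sm11, sm_z]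
    obtain ⟨k1, c1, -, f1⟩ := X0_dl a1
    obtain ⟨k2, c2, -, f2⟩ := X0_dl a2
    rw [f1] at s1
    rw [f2] at s2
    rw [f1, f2] at nc ⊢
    rw [Ne, sp_iff, Bool.not_eq_false] at nc
    nth_rewrite 1 [Dat.P, Dat.P]
    rw [Pu_comm, nc, ← zz_mul, mul_assoc, mul_assoc]
    change D.z * (D.P _ * (D.P _ * (D.P _ * D.P _))) = _
    rw [← mul_assoc (D.P (D.cl k2 ^^^ zb c2)), s2, one_mul, s1, mul_one]
  rw [dl_smul hh hx, dl_smul hh hr, dl_smul hh ha, dl_smul hh u_XX, conj_mul, conj_mul, conj_mul,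
    mul_left_inj, mul_right_inj, dl_u0] at e3
  exact e3

/-! ### Common neighbours -/

def Gd (x y : VV) : Prop := ∃ m ∈ XX, adj x m ∧ adj m y

theorem Gd.symm {x y : VV} : Gd x y → Gd y x :=
  fun ⟨m, hm, a, b⟩ => ⟨m, hm, adj_comm.1 b, adj_comm.1 a⟩
theorem Gd_smul {h : GG} (hh : h ∈ GP) {x y : VV} : Gd (h • x) (h • y) ↔ Gd x y :=
  ⟨fun ⟨m, hm, a, b⟩ => ⟨h⁻¹ • m, GP_XX (GP.inv_mem hh) hm,
      by rwa [← adj_smul hh, smul_inv_smul], by rwa [← adj_smul hh, smul_inv_smul]⟩,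
    fun ⟨m, hm, a, b⟩ => ⟨h • m, GP_XX hh hm, (adj_smul hh).2 a, (adj_smul hh).2 b⟩⟩
theorem Gd_pm {x y y' : VV} (h : y = y' ∨ y = -y') : Gd x y ↔ Gd x y' := by
  simp only [Gd, adj_pm h]

theorem pos_path {x m y : VV} (hm : m ∈ XX) (hy : y ∈ XX) (a : adj x m) (b : adj m y) :
    ∃ m' ∈ XX, ∃ y' ∈ XX, (m' = m ∨ m' = -m) ∧ (y' = y ∨ y' = -y) ∧ D.B m' x = 1024 ∧
      D.B m' y' = 1024 := by
  rcases adj_iff.1 a with a | a <;> rw [B_comm] at a
  · rcases adj_iff.1 b with b | b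
    exacts [⟨m, hm, y, hy, Or.inl rfl, Or.inl rfl, a, b⟩,
      ⟨m, hm, -y, neg_XX hy, Or.inl rfl, Or.inr rfl, a, b⟩]
  · rcases adj_iff.1 b with b | b
    exacts [⟨-m, neg_XX hm, -y, neg_XX hy, Or.inr rfl, Or.inr rfl, a, by rwa [neg_B, B_neg, neg_neg]⟩,
      ⟨-m, neg_XX hm, y, hy, Or.inr rfl, Or.inl rfl, a, by rwa [neg_B, ← B_neg]⟩]

theorem Gd_std {m : ℕ} (hm : m < 5) : Gd (sx m) (sy m) ↔ m ≠ 2 := by
  have w2 := w16_bnd (j := 2) (by omega)
  interval_cases m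
  · exact iff_of_true ⟨_, xq_XX 2048 true, cn (xq_bnd _ _) (xq_bnd _ _) (and2_true.1 cn1).1,
      adj_comm.1 (cn (xq_bnd _ _) (xq_bnd _ _) (and2_true.1 cn1).1)⟩ (by omega)
  · exact iff_of_true ⟨_, xq_XX 2048 true, cn (xq_bnd _ _) (xq_bnd _ _) (and2_true.1 cn1).1,
      cn (xq_bnd _ _) (xq_bnd _ _) (and2_true.1 cn1).2⟩ (by omega)
  · refine iff_of_false ?_ (by simp)
    rintro ⟨m, hm', a, b⟩
    obtain ⟨m', h1, y, h2, -, e, a, b⟩ := pos_path hm' (sy_XX hm) a b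
    obtain ⟨h, hh, e1, -, e2⟩ := path_std (sx_XX hm) h1 h2 a b (i := 3) (by omega) (by
      rcases e with rfl | rfl <;> simp [B_neg, B_std.2.2.1, nv])
    have c := cL1 cT2
    rw [ev_pw', ev_nil, one_smul, vc_ng (w16_bnd (by omega)), vc_w16] at c
    have c1 : dl (sx 2) • y = -y := by
      rw [show dl (sx 2) = D.P (cl 3184) from dl_x 3184]
      rcases e with rfl | rfl
      exacts [c, by rw [smul_neg'']; exact congrArg _ c]
    have c2 : dl (h • sx 2) • h • y = -(h • y) := by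
      rw [dl_smul hh (sx_XX hm), mul_smul, mul_smul, inv_smul_smul, c1, smul_neg'']
    rw [e1, e2, ← sm_lt (by omega), sm3', mul_smul, show nr 3 = wv 2 from rfl,
      fix_adj (wv_XX (by omega)) (adj_of (nb_B (i := 3) (by omega)).1)] at c2
    exact gnw.2.2 (by rw [qz, c2, B_neg, B_self gnw.1])
  · exact iff_of_true ⟨_, xq_XX 4304 false, cn (xq_bnd _ _) (xq_bnd _ _) (and2_true.1 cn3).1,
      (vc_w16 2 ▸ cn (xq_bnd _ _) w2 (and2_true.1 cn3).2 : adj _ (wv 2))⟩ (by omega)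
  · exact iff_of_true ⟨_, xq_XX 2048 false, cn (xq_bnd _ _) (xq_bnd _ _) (and2_true.1 cn4).1,
      cn (xq_bnd _ _) (xq_bnd _ _) (and2_true.1 cn4).2⟩ (by omega)

theorem Nd.gd {j l m : ℕ} {c : Bool} (h : Nd j l c m) : Gd (ax (16 * l) c) (wv j) ↔ m ≠ 2 := by
  obtain ⟨hm, ⟨h, hh, e1, e2⟩, -⟩ := h
  rw [← Gd_smul hh, e1, Gd_pm e2, Gd_std hm]

/-- Two ways from `w` to the ends of an edge, joined by an edge. -/
def Pent (w y y' : VV) : Prop := ∃ a ∈ XX, ∃ b ∈ XX, adj w a ∧ adj a y ∧ adj w b ∧ adj b y' ∧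
  (a = b ∨ adj a b)

theorem Pent.swap {w y y' : VV} : Pent w y y' → Pent w y' y :=
  fun ⟨a, ha, b, hb, h1, h2, h3, h4, h5⟩ => ⟨b, hb, a, ha, h3, h4, h1, h2, h5.imp Eq.symm adj_comm.1⟩

theorem pent1 {j l : ℕ} {a : ℕ → ℕ} (ha : bnd8 a) (hx : vc a ∈ XX) {p1 q1 p2 q2 p3 q3 : ℕ}
    (h : and2 (cI (w16 j) a p1 q1) (and2 (cI a (xq l false) p2 q2) (cI a (xq l true) p3 q3)) = true)
    (e : j < 5 ∧ l < 4348 ∧ (p1 = 1024 ∧ q1 = 0 ∨ p1 = 0 ∧ q1 = 1024) ∧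
      (p2 = 1024 ∧ q2 = 0 ∨ p2 = 0 ∧ q2 = 1024) ∧ (p3 = 1024 ∧ q3 = 0 ∨ p3 = 0 ∧ q3 = 1024) := by
      decide) : Pent (wv j) (ax (16 * l) false) (ax (16 * l) true) := by
  simp only [and2_true] at h
  rw [← vc_w16, ← vc_xq e.2.1, ← vc_xq e.2.1]
  exact ⟨_, hx, _, hx, cn (w16_bnd e.1) ha h.1 e.2.2.1, cn ha (xq_bnd _ _) h.2.1 e.2.2.2.1,
    cn (w16_bnd e.1) ha h.1 e.2.2.1, cn ha (xq_bnd _ _) h.2.2 e.2.2.2.2, Or.inl rfl⟩

theorem geoG0 {j l : ℕ} (h : (j, l) ∈ cases) (g0 : Gd (ax (16 * l) false) (wv j))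
    (g1 : Gd (ax (16 * l) true) (wv j)) : adj (ax (16 * l) false) (wv j) ∨
      adj (ax (16 * l) true) (wv j) ∨ Pent (wv j) (ax (16 * l) false) (ax (16 * l) true) := by
  simp only [cases, List.mem_cons, List.not_mem_nil, or_false, Prod.mk.injEq] at h
  rcases h with ⟨rfl, rfl⟩ | ⟨rfl, rfl⟩ | ⟨rfl, rfl⟩ | ⟨rfl, rfl⟩ | ⟨rfl, rfl⟩ | ⟨rfl, rfl⟩ |
    ⟨rfl, rfl⟩ | ⟨rfl, rfl⟩ | ⟨rfl, rfl⟩ | ⟨rfl, rfl⟩ | ⟨rfl, rfl⟩ | ⟨rfl, rfl⟩ | ⟨rfl, rfl⟩ |
    ⟨rfl, rfl⟩ | ⟨rfl, rfl⟩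
  · exact Or.inl (nd0.adj.2 rfl)
  · exact Or.inr (Or.inr (pent1 (xq_bnd _ _) (xq_XX _ _) gc0_2052))
  · exact Or.inr (Or.inl (nd5.adj.2 rfl))
  · exact Or.inr (Or.inr (pent1 (xq_bnd _ _) (xq_XX _ _) gc1_2048))
  · exact Or.inl (nd8.adj.2 rfl)
  · exact absurd rfl ((Nd.gd nd10).1 g0)
  · exact Or.inr (Or.inr (pent1 (xq_bnd _ _) (xq_XX _ _) gc2_2048))
  · exact Or.inr (Or.inr (pent1 (xq_bnd _ _) (xq_XX _ _) gc2_3072))
  · exact Or.inl (nd16.adj.2 rfl)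
  · exact Or.inr (Or.inr (pent1 (f8_bnd _) ⟨1, by omega, redj gr3_2048 (by decide +kernel)⟩ gc3_2048))
  · exact absurd rfl ((Nd.gd nd20).1 g0)
  · exact Or.inr (Or.inr (pent1 (f8_bnd _) ⟨1, by omega, redj gr3_3184 (by decide +kernel)⟩ gc3_3184))
  · exact Or.inr (Or.inr (pent1 (xq_bnd _ _) (xq_XX _ _) gc4_2048))
  · have h := gc4_2052
    have w := w16_bnd (j := 4) (by omega)
    simp only [and2_true] at h
    rw [← vc_w16, ← vc_xq (by omega), ← vc_xq (by omega)]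
    exact Or.inr (Or.inr ⟨_, ⟨4, by omega, redj gra (by decide +kernel)⟩, _,
      ⟨4, by omega, redj grb (by decide +kernel)⟩, cn w (f8_bnd _) h.1.1,
      cn (f8_bnd _) (xq_bnd _ _) h.1.2, cn w (f8_bnd _) h.2.1.1, cn (f8_bnd _) (xq_bnd _ _) h.2.1.2,
      Or.inr (cn (f8_bnd _) (f8_bnd _) h.2.2)⟩)
  · exact Or.inr (Or.inl (nd29.adj.2 rfl))

theorem K_u' {k : GG} (hk : k ∈ D.KK) {l : ℕ} {c : Bool} (hl : pt l) (e : k • u = ax (16 * l) c) :
    k • u' = ax (16 * l) (!c) := by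
  obtain ⟨q, hq, a⟩ := exists_ph hk (dom_even p0)
  obtain ⟨f, hf⟩ := a.x1
  obtain ⟨rfl, rfl⟩ := ax_inj hq (dom_even hl) ((hf false).symm.trans e)
  rw [hf true]; simp

theorem geoG {w y y' : VV} (hw : w ∈ XX) (hy : y ∈ XX) (hy' : y' ∈ XX) (a : adj y y') (g0 : Gd w y)
    (g1 : Gd w y') : adj w y ∨ adj w y' ∨ Pent w y y' := by
  obtain ⟨h, hh, m, hm, e1, e2⟩ := pairs hy hy'
  obtain rfl : m = 1 := by rwa [← adj_std hm, ← e1, ← adj_pm e2, adj_smul hh]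
  rw [sx1] at e1
  rw [sy1] at e2
  obtain ⟨j, hj, hw'⟩ := GP_XX hh hw
  obtain ⟨k, hk, l, c, hl, f1, f2⟩ := canon2 (ax_X0 (dom_even p0) false) hj hw'
  have f3 := K_u' hk (by clear f1 f2; revert hl; simp only [cases, pt]; aesop) f1
  have hg := GP.mul_mem (KK_GP hk) hh
  have b1 : (k * h) • y = ax (16 * l) c := by rw [mul_smul, e1, f1]
  have b2 : (k * h) • y' = ax (16 * l) (!c) ∨ (k * h) • y' = - ax (16 * l) (!c) := by
    rcases e2 with e2 | e2 <;> simp [mul_smul, e2, smul_neg'', f3]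
  rw [← mul_smul] at f2
  generalize k * h = a at hg b1 b2 f2
  have t1 : ∀ {x x'}, (a • x = x' ∨ a • x = -x') → (adj w x ↔ adj x' (wv j)) := fun e => by
    rw [← adj_smul hg, adj_pm e, adj_comm, adj_pm f2]
  have t2 : ∀ {x x'}, (a • x = x' ∨ a • x = -x') → Gd w x → Gd x' (wv j) := fun e g =>
    (Gd_pm f2).1 ((Gd_pm e).1 ((Gd_smul hg).2 g)).symm
  have t3 : Pent (wv j) (ax (16 * l) c) (ax (16 * l) (!c)) → Pent w y y' := by
    rintro ⟨p, hp, q, hq, h1, h2, h3, h4, h5⟩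
    have i := GP.inv_mem hg
    refine ⟨_, GP_XX i hp, _, GP_XX i hq, ?_, ?_, ?_, ?_, h5.imp (congrArg _) (adj_smul i).2⟩ <;>
      rw [← adj_smul hg, smul_inv_smul]
    exacts [by rwa [adj_comm, adj_pm f2, adj_comm], b1 ▸ h2, by rwa [adj_comm, adj_pm f2, adj_comm],
      (adj_pm b2).2 h4]
  have g0' := t2 (Or.inl b1) g0
  have g1' := t2 b2 g1
  rw [t1 (Or.inl b1), t1 b2]
  cases c
  · exact (geoG0 hl g0' g1').imp_right (Or.imp_right t3)
  · rcases geoG0 hl g1' g0' with c | c | c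
    exacts [Or.inr (Or.inl c), Or.inl c, Or.inr (Or.inr (t3 c.swap))]

/-! ### Counting -/

section Cnt
variable {q : VV → VV → Prop} {m0 : ℕ} (h1 : ∀ h ∈ GP, ∀ x y, q (h • x) (h • y) ↔ q x y)
  (h2 : ∀ x y, q x (-y) ↔ q x y) (h3 : ∀ m < 5, q (sx m) (sy m) ↔ m = m0)
include h1 h2 h3

theorem n_eq' {j m1 m2 : ℕ} {os : List (ℕ × ℕ × ℕ)} (h : ∀ o ∈ os, Orb j o)
    (cov : sub DOM (un (fun _ _ => true) os) = true)
    (c : and2 (chkCnt DOM 17 (un (fun x y => or2 (Nat.beq x m0) (Nat.beq y m0)) os) m1)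
      (chkCnt DOM 17 (un (fun x y => and2 (Nat.beq x m0) (Nat.beq y m0)) os) m2) = true) :
    Nat.card ↥(XO 0 ∩ {x | q x (wv j)}) = m1 + m2 := by
  obtain ⟨c1, c2⟩ := and2_true.1 c
  have pm : ∀ {x y y'}, y = y' ∨ y = -y' → (q x y ↔ q x y') := by
    rintro x y y' (rfl | rfl)
    exacts [Iff.rfl, h2 _ _]
  have nd : ∀ {l c m}, Nd j l c m → (q (ax (16 * l) c) (wv j) ↔ m = m0) := by
    rintro l c m ⟨hm, ⟨h, hh, e1, e2⟩, -⟩
    rw [← h1 h hh, e1, pm e2, h3 m hm]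
  have key : ∀ p, dom p → ∀ o ∈ os, o.1.testBit p = true →
      ((q (ax p false) (wv j) ∨ q (ax p true) (wv j)) ↔ (o.2.1 = m0 ∨ o.2.2 = m0)) ∧
      ((q (ax p false) (wv j) ∧ q (ax p true) (wv j)) ↔ (o.2.1 = m0 ∧ o.2.2 = m0)) := by
    intro p hp o ho c
    obtain ⟨k, hk, l, e, -, h2, h3, h4⟩ := orb_at (h o ho) hp c
    have : ∀ c, q (ax p c) (wv j) ↔ q (ax (16 * l) (xor c e)) (wv j) := fun c => by
      rw [← h1 k (KK_GP hk.1), h4, pm hk.2]
    rw [this, this]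
    cases e <;> simp [nd h2, nd h3] <;> tauto
  have : Finite {p // p < 70000} := Set.finite_lt_nat 70000
  have tr : ∀ q : ℕ → Prop, Nat.card {p // dom p ∧ q p} =
      Nat.card {p : {p // p < 70000} // dom p ∧ q p} := fun q => Nat.card_congr
    { toFun := fun p => ⟨⟨p.1, by have := p.2.1.1; have := p.2.1.2.2; omega⟩, p.2⟩
      invFun := fun p => ⟨p.1.1, p.2⟩
      left_inv := fun _ => rfl
      right_inv := fun _ => rfl }
  rw [card_ax, tr, tr, card_two, ← chkCnt_sound c1, ← chkCnt_sound c2]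
  simp only [testBit_DOM, Set.coe_setOf, tr, testBit_un, and2_true, or2_true, beq_true]
  congr 1 <;> refine Nat.card_congr (Equiv.subtypeEquivRight fun p => ?_)
  · rw [← and_or_left, and_congr_right_iff]
    intro hp
    obtain ⟨o, ho, hk⟩ := orb_cov cov hp
    exact ⟨fun c => ⟨o, ho, (key _ hp o ho hk).1.1 c, hk⟩,
      fun ⟨o, ho, c, hk⟩ => (key _ hp o ho hk).1.2 c⟩
  · rw [and_and_and_comm, and_self, and_congr_right_iff]
    intro hp
    obtain ⟨o, ho, hk⟩ := orb_cov cov hp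
    exact ⟨fun c => ⟨o, ho, (key _ hp o ho hk).2.1 c, hk⟩,
      fun ⟨o, ho, c, hk⟩ => (key _ hp o ho hk).2.2 c⟩

omit h2 h3 in
theorem dbl' (j : ℕ) : Nat.card ↥(XO j ∩ {y | q u y}) * 9200 =
    Nat.card ↥(XO 0 ∩ {x | q x (wv j)}) * Nat.card (XO j) := by
  have h1' := card_orb_cnt D.KK (wv j) {y | q u y}
  have h2 := card_orb_cnt D.KK (wv 0) {x | q x (wv j)}
  have h3 : Nat.card {k : D.KK // k • wv j ∈ {y | q u y}} =
      Nat.card {k : D.KK // k • wv 0 ∈ {x | q x (wv j)}} :=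
    Nat.card_congr (Equiv.subtypeEquiv (Equiv.inv _) fun k => by
      change q u (k.1 • wv j) ↔ q (k.1⁻¹ • wv 0) (wv j)
      rw [← h1 _ (KK_GP (D.KK.inv_mem k.2)), inv_smul_smul, wv0])
  have h0 : 0 < Nat.card D.KK := Nat.card_pos
  change _ * Nat.card (XO j) = Nat.card ↥(XO j ∩ _) * _ at h1'
  change _ * Nat.card (XO 0) = Nat.card ↥(XO 0 ∩ _) * _ at h2
  rw [card_X0, ← h3] at h2
  refine Nat.eq_of_mul_eq_mul_left h0 ?_
  calc _ = Nat.card ↥(XO j ∩ {y | q u y}) * Nat.card D.KK * 9200 := by ring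
    _ = Nat.card {k : D.KK // k • wv j ∈ {y | q u y}} * 9200 * Nat.card (XO j) := by rw [← h1']; ring
    _ = _ := by rw [h2]; ring

end Cnt

theorem card_bad : Nat.card ↥(XX ∩ {y | ¬ Gd u y}) = 2 * 23113728 := by
  have a1 : ∀ h ∈ GP, ∀ x y, ¬ Gd (h • x) (h • y) ↔ ¬ Gd x y := fun h hh x y => by rw [Gd_smul hh]
  have n := @n_eq' (fun x y => ¬ Gd x y) 2 a1 (fun x y => by rw [Gd_pm (Or.inr rfl)])
    fun m hm => by rw [Gd_std hm, not_not]
  rw [card_five]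
  simp only [Finset.sum_range_succ, Finset.sum_range_zero]
  have h0 := @dbl' (fun x y => ¬ Gd x y) a1 0
  rw [n (m1 := 0) (m2 := 0) orb0 pc0 (by decide +kernel), card_X0] at h0
  have h1 := @dbl' (fun x y => ¬ Gd x y) a1 1
  rw [n (m1 := 512) (m2 := 512) orb1 pc1 (by decide +kernel), card_X1] at h1
  have h2 := @dbl' (fun x y => ¬ Gd x y) a1 2
  rw [n (m1 := 0) (m2 := 0) orb2 pc2 (by decide +kernel), card_X2] at h2
  have h3 := @dbl' (fun x y => ¬ Gd x y) a1 3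
  rw [n (m1 := 56) (m2 := 0) orb3 pc3 (by decide +kernel), card_X3] at h3
  have h4 := @dbl' (fun x y => ¬ Gd x y) a1 4
  rw [n (m1 := 0) (m2 := 0) orb4 pc4 (by decide +kernel), card_X4] at h4
  omega

theorem card_256 : Nat.card ↥(XX ∩ {y | D.B u y ^ 2 = 256 ^ 2}) = 2 * 2370830336 := by
  have a1 : ∀ h ∈ GP, ∀ x y, D.B (h • x) (h • y) ^ 2 = 256 ^ 2 ↔ D.B x y ^ 2 = 256 ^ 2 :=
    fun h hh x y => by rw [GP_iso hh]
  have n := @n_eq' (fun x y => D.B x y ^ 2 = 256 ^ 2) 3 a1 (fun x y => by rw [B_neg, neg_sq])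
    fun m hm => by
      obtain ⟨h0, h1, h2, h3, h4⟩ := B_std
      interval_cases m <;> simp only [h0, h1, h2, h3, h4] <;> norm_num
  rw [card_five]
  simp only [Finset.sum_range_succ, Finset.sum_range_zero]
  have h0 := @dbl' (fun x y => D.B x y ^ 2 = 256 ^ 2) a1 0
  rw [n (m1 := 0) (m2 := 0) orb0 pc0 (by decide +kernel), card_X0] at h0
  have h1 := @dbl' (fun x y => D.B x y ^ 2 = 256 ^ 2) a1 1
  rw [n (m1 := 0) (m2 := 0) orb1 pc1 (by decide +kernel), card_X1] at h1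
  have h2 := @dbl' (fun x y => D.B x y ^ 2 = 256 ^ 2) a1 2
  rw [n (m1 := 2048) (m2 := 2048) orb2 pc2 (by decide +kernel), card_X2] at h2
  have h3 := @dbl' (fun x y => D.B x y ^ 2 = 256 ^ 2) a1 3
  rw [n (m1 := 512) (m2 := 512) orb3 pc3 (by decide +kernel), card_X3] at h3
  have h4 := @dbl' (fun x y => D.B x y ^ 2 = 256 ^ 2) a1 4
  rw [n (m1 := 1784) (m2 := 0) orb4 pc4 (by decide +kernel), card_X4] at h4
  omega

theorem XX_fin : XX.Finite := Set.toFinite XX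

theorem exists_gd (l : List VV) (hl : ∀ s ∈ l, s ∈ XX) (hn : l.length ≤ 20) :
    ∃ w ∈ XX, ∀ s ∈ l, Gd s w := by
  have a : ∀ s ∈ XX, (XX ∩ {y | ¬ Gd s y}).ncard = 2 * 23113728 := fun s hs => by
    obtain ⟨h, hh, rfl⟩ := XX_orb hs
    rw [← card_bad, ← Nat.card_coe_set_eq]
    exact Nat.card_congr
      { toFun := fun y => ⟨h⁻¹ • y.1, GP_XX (GP.inv_mem hh) y.2.1, by
          have := y.2.2
          rwa [Set.mem_setOf_eq, ← Gd_smul hh, smul_inv_smul]⟩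
        invFun := fun y => ⟨h • y.1, GP_XX hh y.2.1, by
          have := y.2.2
          rwa [Set.mem_setOf_eq, Gd_smul hh]⟩
        left_inv := fun y => by simp
        right_inv := fun y => by simp }
  have b : ∀ l : List VV, (∀ s ∈ l, s ∈ XX) →
      (XX ∩ {y | ∃ s ∈ l, ¬ Gd s y}).ncard ≤ l.length * (2 * 23113728) := fun l hl => by
    induction l with
    | nil => simp
    | cons s l ih =>
      have := Set.ncard_union_le (XX ∩ {y | ¬ Gd s y}) (XX ∩ {y | ∃ s ∈ l, ¬ Gd s y})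
      rw [a s (hl s (by simp)), ← Set.inter_union_distrib_left] at this
      have := ih fun s hs => hl s (by simp [hs])
      simp only [List.mem_cons, exists_eq_or_imp, Set.setOf_or, List.length_cons]
      omega
  by_contra c
  have c1 := b l hl
  rw [Set.inter_eq_left.2 fun w hw => by
    by_contra e
    exact c ⟨w, hw, fun s hs => by_contra fun f => e ⟨s, hs, f⟩⟩, ← Nat.card_coe_set_eq, card_XX] at c1
  omega

theorem card_S3 : Nat.card ↥(LL ⊓ MulAction.stabilizer GG (xv 4)) ≤ 2 * 64561751654400 := by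
  have x4 : D.B u (xv 4) = 256 := xv11 ▸ ipj (i := 11) (j := 4)
  have o : ∀ y ∈ XX, D.B u y = 256 → y ∈ MulAction.orbit LL (xv 4) := fun y hy e => by
    obtain ⟨h, hh, h1, h2⟩ := pair3 u_XX hy e
    obtain ⟨k, hk, k1, k2⟩ := pair3 u_XX gn4.1 x4
    exact ⟨⟨h⁻¹ * k, GP.mul_mem (GP.inv_mem hh) hk, by
      change (h⁻¹ * k) • u = u
      rw [mul_smul, k1, ← h1, inv_smul_smul]⟩, by
      change (h⁻¹ * k) • xv 4 = y
      rw [mul_smul, k2, ← h2, inv_smul_smul]⟩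
  have f : (MulAction.orbit LL (xv 4)).Finite := XX_fin.subset (by
    rintro _ ⟨h, rfl⟩; exact GP_XX h.2.1 gn4.1)
  have c := card_256
  have c1 : (XX ∩ {y | D.B u y ^ 2 = 256 ^ 2}).ncard ≤ 2 * (MulAction.orbit LL (xv 4)).ncard := by
    refine (Set.ncard_le_ncard (t := MulAction.orbit LL (xv 4) ∪ Neg.neg '' MulAction.orbit LL (xv 4))
      (fun y hy => ?_) (f.union (f.image _))).trans ((Set.ncard_union_le _ _).trans ?_)
    · rcases sq_eq_sq_iff_eq_or_eq_neg.1 hy.2 with e | e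
      exacts [Or.inl (o y hy.1 e), Or.inr ⟨-y, o _ (neg_XX hy.1) (by rw [B_neg, e, neg_neg]), neg_neg y⟩]
    · rw [Set.ncard_image_of_injective _ neg_injective]; omega
  have c2 := card_orbit_stab LL (xv 4)
  have c3 := card_orbit_stab LL u'
  rw [EE_eq, card_EE, show MulAction.orbit LL u' = _ from orbit_u', card_orbit_u'] at c3
  rw [Nat.card_coe_set_eq] at c c2
  rw [c3] at c2
  by_contra h
  have := Nat.mul_le_mul (show 2370830336 ≤ (MulAction.orbit LL (xv 4)).ncard by omega)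
    (Nat.succ_le_of_lt (not_le.1 h))
  omega

theorem card_LL : Nat.card LL = 3968055 * (18393661440 * 2 ^ 22) := by
  have c3 := card_orbit_stab LL u'
  rwa [EE_eq, card_EE, show MulAction.orbit LL u' = _ from orbit_u', card_orbit_u'] at c3

/-! ### Axes of the first orbit -/

theorem xs_bnd (k : ℕ) (c s : Bool) : bnd8 (xs k c s) := by
  cases s
  exacts [xq_bnd k c, fun i _ => Nat.sub_le _ _]
theorem xs_pm {k : ℕ} (hk : pt k) (c s : Bool) :
    vc (xs k c s) = ax (16 * k) c ∨ vc (xs k c s) = - ax (16 * k) c := by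
  rw [← vc_xq hk.2]
  cases s
  exacts [Or.inl rfl, Or.inr (vc_ng (xq_bnd k c))]
theorem xs_XX {k : ℕ} (hk : pt k) (c s : Bool) : vc (xs k c s) ∈ XX := by
  rcases xs_pm hk c s with e | e <;> rw [e]
  exacts [ax_XX (dom_even hk) c, neg_XX (ax_XX (dom_even hk) c)]
theorem dl_xs {k : ℕ} (hk : pt k) (c s : Bool) : dl (vc (xs k c s)) = D.P (cl k ^^^ zb c) :=
  (dl_pm (ax_XX (dom_even hk) c) (xs_pm hk c s)).trans (dl_ax0 hk c)

theorem eq_of_dl {x y : VV} (hx : x ∈ XX) (hy : y ∈ XX) (e : dl x = dl y) (a : D.B u x = 1024)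
    (b : D.B u y = 1024) : y = x := (dl_inj hx hy e).resolve_right fun c => by
  rw [c, B_neg, a] at b; norm_num at b

theorem U1_geo {c : ℕ} (hc : c ∈ KL) : ∃ m ∈ XX, D.B u m = 1024 ∧ D.B m u' = 1024 ∧
    D.B aA m = 1024 ∧ D.B m (sm c • aA) = 1024 := by
  have key : ∀ {k a s k' a' s'}, cU c k a s k' a' s' = true → ∃ m ∈ XX, D.B u m = 1024 ∧
      D.B m u' = 1024 ∧ D.B aA m = 1024 ∧ D.B m (sm c • aA) = 1024 := fun {k a s k' a' s'} h => by
    simp only [cU, and2_true, ble_true, beq_true] at h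
    obtain ⟨⟨⟨a1, a2⟩, a3, a4⟩, ⟨b1, b2⟩, ⟨b3, b4⟩, b5, b6⟩ := h
    have p1 : pt k := ⟨a1, by omega⟩
    have p2 : pt k' := ⟨a3, by omega⟩
    have hA : aA ∈ XX := ⟨0, by omega, aA_X0⟩
    have e : vc (xs k a s) = sm c • aA := by
      refine eq_of_dl (GP_XX (sm_GP c) hA) (xs_XX p1 a s) ?_ ?_ (vu ▸ cI' (xq_bnd _ _) (xs_bnd _ _ _) b2)
      · have := (sm_tab c (by clear b1; revert c; decide)).2.cj (cl 2048 ^^^ zb true)
        rw [dl_smul (sm_GP c) hA, dl_xs p1, ← b1, sm_inv, mul_assoc, aA,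
          show dl (vc (xq 2048 true)) = _ from dl_xs ⟨by omega, by omega⟩ true false, this,
          ← mul_assoc, sm_sq, one_mul]
      · rw [← EE_u (gen_EE ▸ mem_gen hc), GP_iso (sm_GP c)]; exact (nb_B (i := 1) (by omega)).1
    exact ⟨_, xs_XX p2 a' s', vu ▸ cI' (xq_bnd _ _) (xs_bnd _ _ _) b5,
      vu' ▸ cI' (xs_bnd _ _ _) (xq_bnd _ _) b6, cI' (xq_bnd _ _) (xs_bnd _ _ _) b3,
      e ▸ cI' (xs_bnd _ _ _) (xs_bnd _ _ _) b4⟩
  simp only [KL, List.mem_cons, List.not_mem_nil, or_false] at hc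
  rcases hc with rfl | rfl | rfl | rfl | rfl | rfl | rfl | rfl | rfl | rfl | rfl | rfl
  exacts [key cU0, key cU1, key cU3, key cU5, key cU6, key cU7, key cU8, key cU9, key cU10, key cU11,
    key cU12, key cU15]

theorem M_geo : ∃ m ∈ XX, D.B u m = -1024 ∧ D.B (xv 3) m = 1024 ∧ D.B (xv 0) m = 1024 := by
  have h := cM
  simp only [and2_true] at h
  exact ⟨_, xs_XX ⟨by omega, by omega⟩ _ _, vu ▸ (cI_sound (xq_bnd _ _) (xs_bnd _ _ _) h.1).trans
    (by norm_num), cI' (f8_bnd _) (xs_bnd _ _ _) h.2.1, cI' (f8_bnd _) (xs_bnd _ _ _) h.2.2⟩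

/-- The common neighbours of a pair of the last type. -/
def C4 (m : VV) : Prop := m ∈ XX ∧ adj (sx 4) m ∧ adj m (sy 4)

theorem nor_iff : ∀ {a b : Bool}, @Bool.rec (fun _ => Bool) (@Bool.rec (fun _ => Bool) true false b) false a = true ↔
    a = false ∧ b = false := by decide
theorem in4_iff {x : ℕ} : in4 x = true ↔ sp x (cl 4304) = false ∧ sp x (cl 2052) = false := nor_iff
theorem Dcl : D.cl = BM.cl := rfl

theorem U4_geo {O : VV → Prop} (h1 : ∀ m, O m → O (-m))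
    (h2 : ∀ m m', C4 m → C4 m' → adj m m' → O m → O m') (h0 : O (vc (xq 2048 false))) :
    ∀ m, C4 m → O m := by
  have x0 : ∀ {k}, pt k → vc (xq k false) ∈ XO 0 := fun hk => by
    rw [vc_xq hk.2]; exact ax_X0 (dom_even hk) _
  have p1 : pt 2052 := ⟨by omega, by omega⟩
  have p2 : pt 2048 := ⟨by omega, by omega⟩
  have d1 : dl (sx 4) = D.P (cl 4304) := dl_x 4304
  have d2 : dl (sy 4) = D.P (cl 2052) := dl_x 2052
  have s12 : sp (cl 4304) (cl 2052) = true := by decide +kernel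
  have st : ∀ {m m'}, m ∈ XO 0 → m' ∈ XO 0 → C4 m → C4 m' → dl m * dl m' = dl m' * dl m → O m → O m' :=
    fun a b c c' e o => by
      rcases adjX0 a b e with e | rfl | rfl
      exacts [h2 _ _ c c' e o, o, by simpa using h1 _ o]
  have c4 : ∀ {k}, pt k → in4 (cl k) = true → C4 (vc (xq k false)) := fun {k} hk h => by
    obtain ⟨a, b⟩ := in4_iff.1 h
    have e : dl (vc (xq k false)) = D.P (cl k) := dl_x k hk
    refine ⟨xq_XX k false hk, (adjX0 (x0 p0) (x0 hk) ?_).resolve_right fun c => ?_,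
      (adjX0 (x0 hk) (x0 p1) ?_).resolve_right fun c => ?_⟩
    · rw [e, show dl (vc (xq 4304 false)) = _ from d1]; exact (sp_iff.2 a).symm
    · have := sp_iff.2 b
      rw [← e, ← dl_pm (xq_XX k false hk) c, show dl (vc (xq 4304 false)) = _ from d1, sp_iff, s12] at this
      cases this
    · rw [e, show dl (vc (xq 2052 false)) = _ from d2]; exact sp_iff.2 b
    · have := (sp_iff.2 a).symm
      rw [← e, dl_pm (xq_XX 2052 false) c, show dl (vc (xq 2052 false)) = _ from d2, sp_iff, s12] at this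
      cases this
  have r := c4 p2 (by decide +kernel)
  have hx := sx_XX (m := 4) (by omega)
  have hy := sy_XX (m := 4) (by omega)
  intro m hm
  have m0 : m ∈ XO 0 := by
    obtain ⟨m1, a1, y1, a2, a3, a4, a5, a6⟩ := pos_path hm.1 hy hm.2.1 hm.2.2
    obtain ⟨m2, b1, y2, b2, b3, b4, b5, b6⟩ := pos_path r.1 hy r.2.1 r.2.2
    have z0 : ∀ {y}, y = sy 4 ∨ y = - sy 4 → D.B (sx 4) y = nv 3 := by
      rintro y (rfl | rfl) <;> simp [B_neg, B_std.2.2.2.2, nv]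
    obtain ⟨h, hh, e1, e2, e3⟩ := path_conj hx b1 b2 b5 b6 hx a1 a2 a5 a6 (i := 3) (by omega)
      (z0 b4) (z0 a4)
    have c1 := comm_of_fix hh hx e1
    have c2 := dl_smul hh b2
    rw [e3, dl_pm hy a4, dl_pm hy b4, eq_mul_inv_iff_mul_eq, d2] at c2
    rw [d1] at c1
    have c3 := Pu_comm D.cl (cl 4304) (cl 2052)
    rw [s12, ← zz_mul, ← mul_inv_eq_iff_eq_mul, ← mul_inv_eq_iff_eq_mul] at c3
    have hk : h ∈ D.KK := centZ hh (by
      rw [Dat.z, ← c3]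
      exact ((((Commute.mul_right c1 c2.symm).mul_right (Commute.inv_right c1)).mul_right
        (Commute.inv_right c2.symm)) : Commute h _))
    have n : ∀ {x}, x ∈ XO 0 → -x ∈ XO 0 := fun hx => (smul_XO neg_one_mem).2 hx
    have : m1 ∈ XO 0 := by
      rw [← e2, smul_XO hk]
      rcases b3 with rfl | rfl
      exacts [x0 p2, n (x0 p2)]
    rcases a3 with rfl | rfl
    exacts [this, neg_neg m ▸ n this]
  obtain ⟨k, c, hk, e⟩ := X0_dl m0
  rw [Dcl] at e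
  have a1 := comm_of_fix (dl_GP hm.1) hx (fix_of_adj hm.1 hx (adj_comm.1 hm.2.1))
  have a2 := comm_of_fix (dl_GP hm.1) hy (fix_of_adj hm.1 hy hm.2.2)
  rw [e, d1, sp_iff, sp_zb'] at a1
  rw [e, d2, sp_iff, sp_zb'] at a2
  have a3 := allN_true.1 cK4 (k - 2048) (by have := hk.2; omega)
  rw [lit_e, Nat.add_eq, show 2048 + (k - 2048) = k by have := hk.1; omega, in4_iff.2 ⟨a1, a2⟩] at a3
  simp only [lit_e, and2_true, ble_true] at a3
  generalize fld k4T (k - 2048) = j at a3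
  obtain ⟨⟨b1, b2⟩, b3, b4⟩ := a3
  have pj : pt j := ⟨b1, by omega⟩
  have b5 := nor_iff.1 b4
  refine st (x0 pj) m0 (c4 pj b3) hm ?_ (st (x0 p2) (x0 pj) r (c4 pj b3) ?_ h0)
  · rw [e, dl_x j pj, Dcl, eq_comm, sp_iff, sp_zb']; exact b5.2
  · rw [dl_x j pj, dl_x 2048, Dcl, eq_comm, sp_iff]; exact b5.1

end H29.YB
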