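import Mathlib
import Cfsg.Agent.H29.YB.L1
import Cfsg.Agent.H29.YB.B1

/-!
# The centraliser of a node embeds
-/

set_option autoImplicit false
set_option maxRecDepth 100000
set_option linter.all false

namespace H29.YB
open H19 H29.BE H29.BP H29.BP.Dat H29.BM

theorem of_EE {h : GG} (hh : h ∈ EE) : ∃ l ∈ gen σ KL, π l = h := by
  rwa [← gen_EE, ← π_gen] at hh
theorem E0_le : gen σ EL ≤ gen σ KL := gen_mono (by decide)
theorem E0_inj : Inj (gen σ EL) := E_inj.mono E0_le
theorem EL_BB : gen sm EL ≤ BB := gen_le.2 fun c hc => sm_BB (by revert c; decide)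

theorem ex_lam {x : ℕ} (hx : x.testBit 0 = false) : ∃ l ∈ gen σ EL, π l = D.P x := by
  obtain ⟨l, hl, e⟩ := of_EE (h := D.P x) ⟨D_ok.P_mem x, by
    change D.P x • u = u
    rw [P_u, hx]⟩
  refine ⟨l, (dichotomy τ_sq (τ_gen (by decide +kernel)) (fun c hc =>
    ((show ∀ c ∈ KL, c ∈ EL ∨ c = 15 by decide) c hc).imp mem_gen fun e => by
      rw [e, σ15, τ_sq]; exact Subgroup.one_mem _) l hl).resolve_right fun h => om_not ?_, e⟩
  have := EL_BB (π_mem h)
  rwa [map_mul, e, π_τ, BB.mul_mem_cancel_left (P_BB x)] at this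

theorem pcd_even (c : ℕ) : (pcd c).testBit 0 = false := by
  rw [pcd]; cases Nat.beq c 12 <;> rfl

noncomputable def eA (c : ℕ) : Γ :=
  if isP c = true then (ex_lam (pcd_even c)).choose else ev σ (nth [] bW c)
noncomputable def mA (c : ℕ) : GG := π (eA c)
def LV : List ℕ := [0, 5, 6, 7, 8, 9, 10, 11, 12]

theorem bW_in (c : ℕ) : ∀ a ∈ nth [] bW c, a ∈ LV :=
  nth_forall (p := fun w : List ℕ => ∀ a ∈ w, a ∈ LV) (by simp) (by decide +kernel) c
theorem eA_mem (c : ℕ) : eA c ∈ gen σ EL := by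
  rw [eA]; split_ifs
  exacts [(ex_lam (pcd_even c)).choose_spec.1, gen_mono (by decide) (ev_mem_gen (bW_in c))]
theorem mA_P {c : ℕ} (h : isP c = true) : mA c = D.P (pcd c) := by
  rw [mA, eA, if_pos h]; exact (ex_lam (pcd_even c)).choose_spec.2
theorem eA_L {c : ℕ} (h : (20479 : ℕ).testBit c = true) : eA c = ev σ (nth [] bW c) := by
  have h1 := bit_lt (n := 15) (by decide) h
  exact if_neg (by revert h; revert c; decide +kernel)
theorem mA_tab (c : ℕ) (h : (20479 : ℕ).testBit c = true) : mA c ∈ D.KK ∧ Tab D (mA c) (cB c) := by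
  have := allN_true.1 cBW c (bit_lt (n := 15) (by decide) h)
  rw [seqL_eq] at this
  rw [mA, eA_L h, π_ev]
  exact tab_of_chk sm_tab (and2_true.1 this).2
theorem mA_fix {c : ℕ} (h : (20479 : ℕ).testBit c = true) : mA c • xv 2 = xv 2 := by
  rw [mA, eA_L h, π_ev]
  exact fx_word (by omega) (allL_true.2 fun a ha =>
    (show ∀ a ∈ LV, fx 2 a = true by decide +kernel) a (bW_in c a ha))

theorem px_sound : ∀ w : List ℕ, (∀ c ∈ lev w, Tab D (mA c) (cB c)) →
    ev mA w = ev mA (lev w) * D.P (px w)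
  | [], _ => by simp [lev, px, Dat.P, Pu_zero]
  | c :: w, h => by
    have e1 : lev (c :: w) = @Bool.rec (fun _ => List ℕ) (c :: lev w) (lev w) (isP c) := rfl
    have e2 : px (c :: w) = @Bool.rec (fun _ => ℕ) (px w)
      (lit (px w) fun x => mulK (cw cB (lev w) (pcd c)) x) (isP c) := rfl
    rw [e1] at h
    rw [e1, e2, ev_cons]
    cases hc : isP c <;> rw [hc] at h
    · rw [px_sound w fun a ha => h a (List.mem_cons_of_mem _ ha)]
      exact (mul_assoc _ _ _).symm
    · rw [px_sound w h, mA_P hc, ← mul_assoc, cw_sound _ h, mul_assoc, lit_e, mulK_eq]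
      exact congrArg _ (Pu_mul _ _ _)

theorem chkP_sound {w : List ℕ} {x : ℕ} (h : chkP w x = true) : π (ev eA w) = D.P x := by
  simp only [chkP, and2_true, beq_true, seqL_eq] at h
  have a := tab_of_chk mA_tab h.2
  have b := tab_of_chk km_tab (and2_true.1 to2).2
  have m := inM_true (and2_true.1 h.2).1
  have := eq_of_tab_fix a.1 b.1 (Tab.same a.2 b.2) gn2 (by
    rw [ev_nil, one_smul]
    exact ev_mem (H := MulAction.stabilizer GG (xv 2)) fun c hc => mA_fix (m c hc))
  rw [map_ev]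
  exact (px_sound w fun c hc => (mA_tab c (m c hc)).2).trans (by rw [this, h.1, ev_nil, one_mul])

theorem relA {w : List ℕ} (h : or2 (chkP w 0) (chkP (w ++ [0]) 2048) = true) : ev eA w = 1 := by
  refine E0_inj _ (ev_mem fun c _ => eA_mem c) ?_
  rcases or2_true.1 h with h | h <;> have := chkP_sound h
  · exact this.trans (Pu_zero _)
  · rwa [ev_append, map_mul, ev_cons, ev_nil, mul_one, eA_L rfl, π_ev,
      show ev sm (nth [] bW 0) = D.P 2048 from (mul_one _).trans (sm11.trans (congrArg D.P cl0)),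
      mul_eq_right] at this

noncomputable def nn : Γ := ev σ [3, 2, 3]
noncomputable def ee (c : ℕ) : Γ := if c = 13 then nn * eA 13 * nn⁻¹ else eA c

theorem ee_conj {w : List ℕ} (h : inM 28671 w = true) : ev ee w = nn * ev eA w * nn⁻¹ := by
  refine (ev_congr fun c hc => ?_).trans (map_ev (MulAut.conj nn).toMonoidHom eA w).symm
  have h1 := inM_true h c hc
  have h2 := bit_lt (n := 15) (by decide) h1
  by_cases e : c = 13
  · exact e ▸ if_pos rfl
  · rw [ee, if_neg e, eA_L (by clear hc; revert h1 e; revert c; decide)]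
    exact eq_mul_inv_iff_mul_eq.2 (comm_gen (fun a ha => by
      simpa [nn, mul_assoc] using σ_eq (v := [a, 3, 2, 3]) (w := [3, 2, 3, a])
        (by revert a; decide +kernel)) _ (ev_mem_gen (bW_in c)))
theorem ee_eq {w : List ℕ} (h : inM 24575 w = true) : ev ee w = ev eA w :=
  ev_congr fun c hc => if_neg (by rintro rfl; exact absurd (inM_true h _ hc) (by decide))

theorem rel_sound {w : List ℕ} (h : rel w = true) : ev ee w = 1 := by
  obtain ⟨a, b⟩ := and2_true.1 h
  rcases or2_true.1 a with a | a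
  · rw [ee_conj a, relA b]; simp
  · rw [ee_eq a, relA b]

theorem ee_sq (c : ℕ) : ee c * ee c = 1 := by
  by_cases h : c < 15
  · simpa using rel_sound (allN_true.1 cSq c h)
  · rw [ee, if_neg (by omega), eA, if_neg (by simp [isP, or2_true, beq_true]; omega),
      nth_default _ (by simp [bW]; omega)]; simp

theorem ee_cm (a b : ℕ) (h : cmE a b = true) : ee a * ee b = ee b * ee a := by
  have k : ∀ a b, and2 (isP a) (tb 3579 b) = true → ee a * ee b = ee b * ee a := fun a b h => by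
    simp only [and2_true, isP, or2_true, beq_true, tb_eq] at h
    have h2 := bit_lt (n := 12) (by decide) h.2
    exact comm_of_rel (iv_of_sq ee_sq) (rel_sound (allL_true.1 (allL_true.1 cCm a (by simpa using h.1)) b
      (by have := h.2; clear h; revert this; revert b; decide)))
  exact (or2_true.1 h).elim (k a b) fun h => (k b a h).symm

/-! ### The relation between the two sides -/

def kw : List ℕ := [1, 2, 3, 0, 1, 2, 0, 1]
noncomputable def E' : Subgroup Γ := cjg (ev σ kw) (gen σ KL)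

theorem E'_of {w : List ℕ} (c : and2 (cP (kw.reverse ++ w ++ kw) 0 0)
    (cP (kw.reverse ++ w ++ kw) 26622 26622) = true) : ev σ w ∈ E' := by
  have := (gen_mono (by decide) : gen σ UL ≤ gen σ KL) (U_of c)
  rwa [ev_append, ev_append, ev_rev σ_sq, ← mem_cjg] at this
theorem E'_comm {x : Γ} (h : x * ev σ kw = ev σ kw * x) (hx : x ∈ gen σ KL) : x ∈ E' := by
  rwa [E', mem_cjg, mul_assoc, h, inv_mul_cancel_left]

theorem τ_comm {w : List ℕ} (h : ∀ c ∈ w, c < 15 ∧ ta c = c) : σ 15 * ev σ w = ev σ w * σ 15 :=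
  ((comm_gen (t := σ 15) (fun c hc => by
    have := τ_σ (h c hc).1
    rw [(h c hc).2, mul_inv_eq_iff_eq_mul] at this
    exact this.symm)) _ (ev_mem_gen fun _ h => h)).symm

theorem w2_mem (k : ℕ) : ev σ (nth [] w2 k) ∈ gen σ KL ⊓ E' := by
  have a13 : σ 13 ∈ E' := by simpa using E'_of (w := [13]) (by decide +kernel)
  have a15 : σ 15 ∈ E' := E'_comm (τ_comm (by decide +kernel)) (mem_gen (by decide))
  have b : ∀ w, (∀ c ∈ w, c ∈ KL) → and2 (cP (kw.reverse ++ w ++ kw) 0 0)
      (cP (kw.reverse ++ w ++ kw) 26622 26622) = true → ev σ w ∈ gen σ KL ⊓ E' :=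
    fun w h c => ⟨ev_mem_gen h, E'_of c⟩
  refine nth_forall (p := fun w => ev σ w ∈ gen σ KL ⊓ E') (Subgroup.one_mem _) ?_ k
  simp only [w2, List.forall_mem_cons]
  refine ⟨b _ (by decide) (by decide +kernel), b _ (by decide) (by decide +kernel),
    b _ (by decide) (by decide +kernel), b _ (by decide) (by decide +kernel),
    ⟨ev_mem_gen (by decide), E'_comm ((ev_append _ _ _).symm.trans ((σ_eq (by decide +kernel)).trans
      (ev_append _ _ _))) (ev_mem_gen (by decide))⟩, b _ (by decide) (by decide +kernel), ?_, ?_, ?_,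
    b _ (by decide) (by decide +kernel), b _ (by decide) (by decide +kernel),
    b _ (by decide) (by decide +kernel), by simp⟩ <;> rw [ev_cons, ev_nil, mul_one]
  · exact ⟨by rw [σ_def]; exact ev_mem_gen (by decide +kernel), a13⟩
  · exact ⟨by rw [σ_def]; exact ev_mem_gen (by decide +kernel), by
      rw [show σ 14 = _ from (τ_σ (c := 13) (by omega)).symm]
      exact E'.mul_mem (E'.mul_mem a15 a13) (E'.inv_mem a15)⟩
  · exact ⟨mem_gen (by decide), a15⟩

theorem ev_fm {G : Type*} [Group G] (e : ℕ → G) (ws : List (List ℕ)) :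
    ∀ w : List ℕ, ev (wE e ws) w = ev e (w.flatMap (nth [] ws))
  | [] => rfl
  | c :: w => by rw [ev_cons, ev_fm e ws w, List.flatMap_cons, ev_append, wE]

theorem mem2 {l : List ℕ} {y : ℕ} (c : c2 l y = true) {x : Γ} (hx : x ∈ gen σ EL) (e : π x = D.P y) :
    x ∈ E' := by
  let H := (gen σ KL ⊓ E').map π
  have m : ∀ w : List ℕ, ev sm (w.flatMap (nth [] w2)) ∈ H := fun w =>
    ⟨_, ev_fm σ w2 w ▸ ev_mem fun c _ => w2_mem c, π_ev _⟩
  have hz : D.z ∈ H := by
    have := m [9, 10]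
    rwa [show [9, 10].flatMap (nth [] w2) = [3, 11] from rfl, ev_cons, ev_cons, ev_nil, mul_one,
      sm_z] at this
  have h0 : D.P 3995374 ∈ H := by
    have a := tab_of_chk sm_tab (and2_true.1 sp0).1
    have b := tab_of_chk km_tab (and2_true.1 sp0).2
    rw [ev_pw'] at b
    rcases eq_of_tab_BB b.1 a.1 (P_BB _) (ev_mem fun c hc => sm_BB (by simp at hc; omega))
      (Tab.same b.2 a.2) with e | e <;> rw [e]
    exacts [m [4, 6], H.mul_mem hz (m [4, 6])]
  simp only [c2, and2_true, allL_true, ceq_iff] at c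
  obtain ⟨x', h1, h2⟩ : D.P y ∈ H := P_mem_of_ce hz c.2 (P_xorL hz _ fun k hk => by
    have h2 := cw_sound (D := D) _ (fun a ha => (sm_tab a (inM_true (c.1 k hk) a ha)).2) 3995374
    rw [← inv_mul_eq_iff_eq_mul] at h2
    rw [← h2]
    exact H.mul_mem (H.inv_mem (m _)) (H.mul_mem h0 (m _)))
  exact E_inj.eq h1.1 (E0_le hx) (h2.trans e.symm) ▸ h1.2

theorem key_rel : ev ee [13, 9, 12, 9, 13, 9, 12, 9, 2] = 1 := by
  have e : ev ee [13, 9, 12, 9, 13, 9, 12, 9, 2] = nn * ev eA [13] * nn⁻¹ * ev eA [9, 12, 9] *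
      (nn * ev eA [13] * nn⁻¹ * ev eA [9, 12, 9]) * ev σ [0, 11] := by
    rw [← ee_conj (by decide +kernel), ← ee_eq (w := [9, 12, 9]) (by decide +kernel), ← ev_append,
      ← ev_append, ← show eA 2 = ev σ [0, 11] from eA_L rfl, ← show ee 2 = eA 2 from if_neg (by omega)]
    simp [mul_assoc]
  have a1 := chkP_sound (and2_true.1 cA1).1
  have a2 := chkP_sound (and2_true.1 cA1).2
  have b1 := mem2 c2A (ev_mem fun c _ => eA_mem c) a1
  have b2 := mem2 c2Y (ev_mem fun c _ => eA_mem c) a2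
  have b3 : nn ∈ E' := E'_of (by decide +kernel)
  have b4 := E'.mul_mem (E'.mul_mem (E'.mul_mem b3 b2) (E'.inv_mem b3)) b1
  rw [e]
  refine E_inj.cjg _ _ (E'.mul_mem (E'.mul_mem b4 b4) (E'_of (by decide +kernel))) ?_
  have c := cG4
  simp only [and2_true] at c
  obtain ⟨⟨c1, c2⟩, ⟨c3, c4⟩, c5⟩ := c
  have px : pt 4300 := ⟨by omega, by omega⟩
  have py : pt 2146 := ⟨by omega, by omega⟩
  have hx := xs_XX px false true
  have hy := xs_XX py true false
  replace c1 := vu ▸ cI' (xq_bnd _ _) (xs_bnd _ _ _) c1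
  replace c2 := vu ▸ cI' (xq_bnd _ _) (xs_bnd _ _ _) c2
  replace c3 : D.B (xv 0) _ = _ := cI_sound (f8_bnd _) (xs_bnd _ _ _) c3
  replace c4 : D.B (xv 0) _ = _ := cI_sound (f8_bnd _) (xs_bnd _ _ _) c4
  replace c5 := cI' (xs_bnd _ _ _) (f8_bnd _) c5
  have f3 : ∀ {k c s}, pt k → D.B u (vc (xs k c s)) = (1024 : ℕ) → sm 3 • vc (xs k c s) = vc (xs k c s) :=
    fun {k c s} hk h => by
      rw [sm3', mul_smul, fix_adj (xs_XX hk c s) (adj_of (h.trans (by norm_num)))]
      rcases xs_pm hk c s with e | e <;> rw [e]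
      exacts [z_ax (dom_even hk) c, by rw [smul_neg'', z_ax (dom_even hk) c]]
  have t := cL1 cT0
  rw [ev_cons, show g 25 = BM.t from rfl, ← sm2_eq, mul_smul, smul_left_cancel_iff] at t
  have n1 : π nn ∈ GP := by rw [nn, π_ev]; exact ev_mem fun c _ => sm_GP c
  have n2 : π nn • u = u := by rw [nn, π_ev, ← xv11]; exact fx_word (by omega) (by decide +kernel)
  have n3 : π nn • xv 0 = xv 0 := by rw [nn, π_ev]; exact fx_word (by omega) (by decide +kernel)
  have hr := GP_XX n1 hy
  have r1 : D.B u (π nn • vc (xs 2146 true false)) = 1024 := by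
    rw [← n2, GP_iso n1, c2]; norm_num
  have := geo4 (xv_XX (c := 0) (by omega)) hx hr (nb_B (i := 2) (by omega)).1 (c1.trans (by norm_num)) r1
    (c3.trans (by norm_num)) (by rw [← n3, GP_iso n1, c4]; norm_num) (by
      rw [nn, π_ev]
      simp only [ev_cons, ev_nil, mul_one, mul_smul]
      rw [f3 py c2, t, ← f3 px c1, GP_iso (sm_GP 3), c5]; norm_num)
  have p1 : D.P 2335740 = dl (vc (xs 4300 false true)) * d := by
    rw [dl_xs px, d, cl0, Dat.P, Dat.P, Dat.P, Pu_mul, ← mulK_eq]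
    exact congrArg _ (by decide +kernel)
  have p2 : π nn * D.P 8048336 * (π nn)⁻¹ = dl (π nn • vc (xs 2146 true false)) * d := by
    rw [dl_smul n1 hy, mul_assoc _ _ d, T3 (GP.inv_mem n1) (by rw [inv_smul_eq_iff, n2]), ← mul_assoc,
      mul_assoc (π nn) _ d, dl_xs py, d, cl0, Dat.P, Dat.P, Dat.P, Pu_mul, ← mulK_eq]
    exact congrArg (fun x => π nn * Pu D.cl x * (π nn)⁻¹) (by decide +kernel)
  have d1 : Commute d _ := comm_of_fix (KK_GP d_mem) hx (fix_adj hx (adj_of (c1.trans (by norm_num))))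
  have d2 : Commute d _ := comm_of_fix (KK_GP d_mem) hr (fix_adj hr (adj_of r1))
  have d3 : Commute d (dl (xv 0)) := comm_of_fix (KK_GP d_mem) (xv_XX (by omega))
    (fix_adj (xv_XX (by omega)) (adj_of (nb_B (i := 2) (by omega)).1))
  simp only [map_mul, map_inv, a1, a2, p1, p2, π_ev, ev_cons sm, ev_nil, mul_one, sm11]
  rw [mul_assoc (dl _) d, ← mul_assoc d, d1.eq, mul_assoc _ d d, d_sq, mul_one, this, sm_lt (by omega),
    mul_assoc, ← mul_assoc d, d3.eq, mul_assoc, d_sq, mul_one, dl_sq (xv_XX (by omega))]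

theorem st3 : ∀ r ∈ YBS.R6, ev ee (r.map dm) = 1 := fun r hr => by
  rw [← ev_map]
  refine YBS.der Γ _ (iv_of_sq fun _ => ee_sq _) (fun r hr => ?_) r hr
  rw [ev_map]
  rcases (show ∀ r ∈ YBS.R0, r ∈ YBS.R0.dropLast ∨ r = [1, 4, 0, 4, 1, 4, 0, 4, 2] by decide) r hr with
    h | rfl
  exacts [rel_sound (allL_true.1 cR0 r h), key_rel]

/-! ### The cells -/

noncomputable def eT : ℕ → Γ := wE ee tW

theorem idc_sound {v w : List ℕ} (h : idc v w = true) : ev eT v = ev eT w := by
  rw [eT, ev_fm, ev_fm, ← mul_inv_eq_one, ← ev_rev ee_sq, ← ev_append]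
  simp only [idc, seqL_eq, or2_true, List.any_eq_true] at h
  rcases h with h | ⟨r, hr, h⟩ | h
  exacts [eqR_sound ee_sq ee_cm h, (eqR_sound ee_sq ee_cm h).trans (st3 r hr), rel_sound h]

theorem eT_iv : IvOK eT (ivOf [0, 2, 1]) := fun c => by
  rw [eT, wE, wE, ← ev_rev ee_sq]
  by_cases h : c < 15
  · exact congrArg _ (by revert c; decide +kernel)
  · rw [ivOf, nth_default c (by simp; omega), nth_default _ (by simp [tW]; omega)]; rfl

def TL : List ℕ := 11 :: 12 :: 13 :: 14 :: Br.BL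

theorem T_bd : Bd (gen eT TL) (3968055 * (2 ^ 20 * 36787322880)) :=
  Br.bruhat eT_iv (fun p hp => idc_sound (by
    simp only [List.mem_append] at hp
    rcases hp with h | h | h | h
    exacts [allL_true.1 cId0 p h, allL_true.1 cId1 p h, allL_true.1 cId2 p h, allL_true.1 cId3 p h]))
    has (fun c hc => by
      rw [eT, wE, ee_eq (by revert c; decide +kernel)]; exact ev_mem fun c _ => eA_mem c) E0_bd

theorem ee_T {c : ℕ} (h : c < 15) : ee c ∈ gen eT TL := by
  have k : ∀ v w, eqR cmE (fl v) w = true → (∀ c ∈ v, c ∈ TL) → ev ee w ∈ gen eT TL := fun v w a b => by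
    rw [← eqR_sound ee_sq ee_cm a, fl, ← ev_fm]; exact ev_mem_gen b
  by_cases e : c = 14
  · have := rel_sound c14
    rw [ev_cons, mul_eq_one_iff_eq_inv] at this
    rw [e, this]
    exact Subgroup.inv_mem _ (k [12, 4, 12] _ (by decide +kernel) (by decide))
  · simpa using k (nth [] [[0], [13, 1], [4], [5], [6], [7], [8], [9], [10], [12], [13], [14], [3],
      [3, 11, 3]] c) [c] (by revert e; revert c; decide +kernel) (by clear e; revert c; decide +kernel)

def LA : List ℕ := [0, 1, 2, 3, 4, 5, 6, 7, 8, 9, 10, 11, 12, 14]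

theorem E0_A : gen σ EL ≤ gen eA LA := by
  have m : ∀ c, (20479 : ℕ).testBit c = true → mA c ∈ gen mA LA := fun c hc => mem_gen (by
    have h1 := bit_lt (n := 15) (by decide) hc
    revert hc; revert c; decide)
  have hA : D.P 7968634 ∈ gen mA LA := (mA_P (c := 12) rfl) ▸ mem_gen (by decide)
  have hz : D.z ∈ gen mA LA := by
    obtain ⟨a, b⟩ := and2_true.1 cZ
    have h2 := cw_sound (D := D) _ (fun c hc => (mA_tab c (inM_true a c hc)).2) 7968634
    rw [← inv_mul_eq_iff_eq_mul] at h2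
    have h3 := Subgroup.mul_mem _ (Subgroup.inv_mem _ (mem_of_inM m a))
      (Subgroup.mul_mem _ hA (mem_of_inM m a))
    have h4 := Pu_comm D.cl 7968634 (cw cB zW 7968634)
    rw [b, ← zz_mul, ← mul_inv_eq_iff_eq_mul, ← mul_inv_eq_iff_eq_mul] at h4
    rw [h2] at h3
    rw [Dat.z, ← h4]
    exact Subgroup.mul_mem _ (Subgroup.mul_mem _ (Subgroup.mul_mem _ hA h3) (Subgroup.inv_mem _ hA))
      (Subgroup.inv_mem _ h3)
  have ev := span_sound (fun c hc => ⟨m c hc, (mA_tab c hc).2⟩) hz hA cSp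
  refine gen_le.2 fun c hc => ?_
  have h := allL_true.1 cGW c hc
  simp only [seqL_eq, and2_true, allN_true, bit_eq] at h
  generalize nth [] gW c = w at h
  have a := sm_tab c (by clear h; revert c; decide)
  have b : H29.ev mA w ∈ gen sm EL := by
    rw [← π_gen]; exact ev_mem fun c _ => ⟨_, eA_mem c, rfl⟩
  have b' : H29.ev mA w ∈ D.KK := sm_K (by decide +kernel) b
  have c1 := Subgroup.mul_mem _ (mem_gen (e := sm) hc) (Subgroup.inv_mem _ b)
  obtain ⟨x, hx⟩ := D_ok.of_classes tr (D.KK.mul_mem a.1 (D.KK.inv_mem b')) fun i hi =>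
    (tab_crel a.2 (h.2 i hi)).mul (D.KK.inv_mem b').comm ((CRel.of_eq (cw_sound w
      (fun c hc => (mA_tab c (inM_true h.1 c hc)).2) _) (ceq_iff.2 (ce.refl _))).inv b'.comm)
  replace hx := hx.resolve_right fun e => neg_BB (by
    have := BB.mul_mem (EL_BB c1) (BB.inv_mem (P_BB x))
    rwa [e, ← neg_mul', mul_inv_cancel] at this)
  have c2 : D.P x • u = u := hx ▸ EE_u (gen_EE ▸ gen_mono (by decide) c1)
  rw [P_u] at c2
  have c3 := Subgroup.mul_mem _ (ev x (ax_inj (dom_even p0) (dom_even p0) c2).2) (mem_of_inM m h.1)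
  rw [← hx, inv_mul_cancel_right] at c3
  obtain ⟨y, y1, y2⟩ : sm c ∈ (gen eA LA).map π := by rw [map_gen]; exact c3
  exact E0_inj.eq ((gen_le.2 fun c _ => eA_mem c : gen eA LA ≤ _) y1) (mem_gen hc)
    (y2.trans (π_σ c).symm) ▸ y1

theorem L0_T : gen σ (2 :: EL) ≤ gen eT TL := by
  have a : gen σ EL ≤ gen eT TL := E0_A.trans (gen_le.2 fun c hc => by
    have := ee_T (c := c) (by revert c; decide)
    rwa [ee, if_neg (by rintro rfl; revert hc; decide)] at this)
  refine gen_le.2 fun c hc => ?_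
  rcases List.mem_cons.1 hc with rfl | hc
  · have b := E0_inj.eq (ev_mem fun c _ => eA_mem c) (Subgroup.mul_mem _ (mem_gen (c := 3) (by decide))
      (mem_gen (c := 11) (by decide))) ((chkP_sound cY).trans (by rw [map_mul, π_σ, π_σ, sm_z]; rfl))
    have c := ee_conj (w := powW 2 (13 :: yW.reverse ++ 13 :: yW)) (by decide +kernel)
    rw [b, ← conj_mul, nn, cJ_sound (b := 2) (by decide +kernel),
      cJ_sound (b := 11) (by decide +kernel)] at c
    have e : σ 2 * σ 11 ∈ gen eT TL := c ▸ ev_mem fun c hc => ee_T (by revert c; decide +kernel)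
    exact (Subgroup.mul_mem_cancel_right _ (a (mem_gen (by decide)))).1 e
  · exact a (mem_gen hc)

theorem L_inj : Inj (gen σ (2 :: KL)) :=
  inj_of_bd ((τ_cv (L := 2 :: EL) (by decide +kernel) (by decide)).bd (T_bd.of_le L0_T))
    (by rw [π_gen, gen_LL, card_LL]; norm_num)

end H29.YB
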