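import Mathlib
import Cfsg.Agent.H29.YB.L9

/-!
# The graph on the cosets covers the graph on the axes; the covering is trivial
-/

set_option autoImplicit false
set_option maxRecDepth 100000
set_option linter.all false

namespace H29.YB
open H19 H29.BE H29.BP H29.BP.Dat H29.BM

noncomputable def LH : Subgroup Γ := gen σ (2 :: KL)
abbrev Ω : Type := Γ ⧸ LH
noncomputable def oo : Ω := ((1 : Γ) : Ω)
noncomputable def pp (x : Ω) : VV := π x.out • u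

theorem π_LH {l : Γ} (h : l ∈ LH) : π l ∈ LL := gen_LL ▸ π_mem h
theorem π_GP (γ : Γ) : π γ ∈ GP :=
  (gen_le.2 fun c _ => sm_GP c : gen sm (15 :: NL) ≤ GP) (π_mem (Γ_top ▸ Subgroup.mem_top γ))
theorem of_LL {h : GG} (hh : h ∈ LL) : ∃ l ∈ LH, π l = h := by
  rwa [← gen_LL, ← π_gen] at hh
theorem E_LH : gen σ KL ≤ LH := gen_mono fun c hc => by simp [hc]
theorem smul_oo (γ : Γ) : γ • oo = (γ : Ω) := by
  rw [oo, MulAction.Quotient.smul_coe, smul_eq_mul, mul_one]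
theorem fix_oo {γ : Γ} : γ • oo = oo ↔ γ ∈ LH := by
  rw [smul_oo, oo, eq_comm, QuotientGroup.eq]; simp
theorem ex_oo (x : Ω) : ∃ γ : Γ, γ • oo = x := ⟨x.out, by rw [smul_oo, QuotientGroup.out_eq']⟩
theorem pp_oo' (γ : Γ) : pp (γ • oo) = π γ • u := by
  obtain ⟨l, e⟩ := QuotientGroup.mk_out_eq_mul LH γ
  rw [smul_oo, pp, e, map_mul, mul_smul, (π_LH l.2).2]
theorem pp_oo : pp oo = u := by simpa using pp_oo' 1
theorem pp_smul (γ : Γ) (x : Ω) : pp (γ • x) = π γ • pp x := by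
  obtain ⟨a, rfl⟩ := ex_oo x
  rw [smul_smul, pp_oo', pp_oo', map_mul, mul_smul]
theorem pp_XX (x : Ω) : pp x ∈ XX := GP_XX (π_GP _) u_XX

theorem norm_any {x : Ω} {h : GG} (hh : h ∈ GP) (e : h • pp x = u) : ∃ γ : Γ, γ • x = oo ∧ π γ = h := by
  obtain ⟨a, rfl⟩ := ex_oo x
  obtain ⟨l, hl, e1⟩ := of_LL (h := h * π a) ⟨GP.mul_mem hh (π_GP a), by
    change (h * π a) • u = u
    rw [mul_smul, ← pp_oo', e]⟩
  exact ⟨l * a⁻¹, by rw [mul_smul, inv_smul_smul, fix_oo.2 hl], by simp [e1]⟩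

def gw : List ℕ := [4, 3, 11, 4]
noncomputable def o1 : Ω := ev σ gw • oo
noncomputable def o2 : Ω := ev σ kw • o1

theorem fix_of_cP {w v : List ℕ} (c : cP (v.reverse ++ (w ++ v)) 0 0 = true) :
    ev σ w • ev σ v • oo = ev σ v • oo := by
  have := fix_oo.2 ((gen_mono (by decide) : gen σ HL ≤ LH) (mem_HL' c))
  rwa [ev_append, ev_append, ev_rev σ_sq, mul_smul, mul_smul, inv_smul_eq_iff] at this

theorem fix_of_comm {a b : Γ} (h : a * b = b * a) (ha : a ∈ LH) : a • b • oo = b • oo := by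
  rw [smul_smul, h, mul_smul, fix_oo.2 ha]

theorem E_fix {l : Γ} (h : l ∈ gen σ KL) : l • o1 = o1 := by
  refine (gen_le (H := MulAction.stabilizer Γ o1)).2 (fun c hc => ?_) h
  by_cases c1 : c = 15
  · exact c1 ▸ fix_of_comm (τ_comm (by decide +kernel)) (E_LH (mem_gen (by decide)))
  by_cases c2 : c = 10
  · exact c2 ▸ fix_of_comm (by
      simpa [gw, mul_assoc] using σ_eq (v := [10, 4, 3, 11, 4]) (w := [4, 3, 11, 4, 10]) (by decide +kernel))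
      (E_LH (mem_gen (by decide)))
  · simpa [o1] using fix_of_cP (w := [c]) (v := gw) (by revert c1 c2; revert c; decide +kernel)

theorem pp_o1 : pp o1 = xv 3 := by rw [o1, pp_oo', π_ev]; exact g_u
theorem kw_LH : ev σ kw ∈ LH := ev_mem_gen (by decide)

def Ed (x y : Ω) : Prop := ∃ γ : Γ, x = γ • oo ∧ y = γ • o1

theorem Ed.smul {x y : Ω} (γ : Γ) : Ed x y → Ed (γ • x) (γ • y) := by
  rintro ⟨a, rfl, rfl⟩; exact ⟨γ * a, (mul_smul _ _ _).symm, (mul_smul _ _ _).symm⟩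
theorem Ed_smul {x y : Ω} (γ : Γ) : Ed (γ • x) (γ • y) ↔ Ed x y :=
  ⟨fun h => by simpa using h.smul γ⁻¹, Ed.smul γ⟩
theorem e01 : Ed oo o1 := ⟨1, by simp⟩
theorem Ed.fix {y : Ω} {l : Γ} (h : Ed oo y) (hl : l ∈ LH) : Ed oo (l • y) :=
  fix_oo.2 hl ▸ h.smul l
theorem e02 : Ed oo o2 := e01.fix kw_LH
theorem Ed.symm {x y : Ω} : Ed x y → Ed y x := by
  rintro ⟨a, rfl, rfl⟩
  refine ⟨a * ev σ gw, (mul_smul _ _ _).symm, ?_⟩
  rw [o1, smul_smul, mul_assoc, ← ev_append, σ_eq (w := []) (by decide +kernel), ev_nil, mul_one]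
theorem Ed.B {x y : Ω} : Ed x y → D.B (pp x) (pp y) = 1024 := by
  rintro ⟨a, rfl, rfl⟩
  rw [pp_smul, pp_smul, GP_iso (π_GP a), pp_oo, pp_o1, B_u3]
theorem Ed.lift (x : Ω) {v : VV} (hv : v ∈ XX) (e : D.B (pp x) v = 1024) : ∃ y, Ed x y ∧ pp y = v := by
  obtain ⟨h, hh, e1, e2⟩ := edge (pp_XX x) hv e
  obtain ⟨γ, a, rfl⟩ := norm_any hh e1
  exact ⟨γ⁻¹ • o1, ⟨γ⁻¹, by rw [← a, inv_smul_smul], rfl⟩, by
    rw [pp_smul, pp_o1, ← e2, map_inv, inv_smul_smul]⟩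
theorem Ed.uniq {x y y' : Ω} (a : Ed x y) (b : Ed x y') (e : pp y = pp y') : y = y' := by
  obtain ⟨γ, rfl, rfl⟩ := a
  obtain ⟨δ, e1, rfl⟩ := b
  have h : δ⁻¹ * γ ∈ LH := fix_oo.1 (by rw [mul_smul, e1, inv_smul_smul])
  obtain ⟨l, hl, e2⟩ := of_EE (mem_EE (π_LH h) (by
    rw [pp_smul, pp_smul, pp_o1] at e
    rw [map_mul, map_inv, mul_smul, e, inv_smul_smul]))
  have := E_fix hl
  rwa [L_inj.eq (E_LH hl) h e2, mul_smul, inv_smul_eq_iff] at this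

theorem pp_o2 : pp o2 = xv 0 := by
  refine eq_of_dl (xv_XX (by omega)) (pp_XX _) ?_ (nb_B (i := 2) (by omega)).1 (pp_oo ▸ e02.B)
  rw [o2, pp_smul, pp_o1, dl_smul (π_GP _) (xv_XX (by omega)), ← sm_lt (by omega), ← sm_lt (by omega),
    ← π_σ, ← π_σ, ← cJ_sound (w := kw) (a := 3) (by decide +kernel), map_mul, map_mul, map_inv]

theorem e12 : Ed o1 o2 := by
  have h := e01.fix ((gen_mono (by decide) : gen σ HL ≤ LH)
    (mem_HL' (w := gw ++ kw ++ gw ++ kw ++ gw) (by decide +kernel)))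
  have g2 : ∀ x : Ω, ev σ gw • ev σ gw • x = x := fun x => by
    rw [smul_smul, ← ev_append, σ_eq (w := []) (by decide +kernel), ev_nil, one_smul]
  have := h.smul (ev σ gw)
  simp only [ev_append, mul_smul, o1, g2, fix_oo.2 kw_LH] at this
  exact this

theorem Ed.tri {x y w : Ω} (a : Ed x y) (b : Ed x w) (e : D.B (pp y) (pp w) = 1024) : Ed y w := by
  obtain ⟨γ, rfl, rfl⟩ := a
  obtain ⟨w, rfl⟩ : ∃ w', w = γ • w' := ⟨γ⁻¹ • w, by simp⟩
  rw [Ed_smul] at b ⊢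
  rw [pp_smul, pp_smul, GP_iso (π_GP _), pp_o1] at e
  obtain ⟨h, hh, e1⟩ := nbr_of (pp_XX w) (pp_oo ▸ b.B) (i := 2) (by omega) e
  obtain ⟨l, hl, rfl⟩ := of_EE hh
  rw [b.uniq (e02.fix (E_LH hl)) (by rw [pp_smul, pp_o2]; exact e1.symm), ← E_fix hl]
  exact e12.smul l

theorem U1_0 : ∃ z, ∀ m y, Ed oo m → Ed m y → pp y = u' → y = z := by
  have hA : aA ∈ XX := ⟨0, by omega, aA_X0⟩
  have bA : D.B aA u' = 1024 := by
    have := (nb_B (i := 1) (by omega)).2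
    rw [xv3, neg_B, B_comm] at this
    exact neg_injective this
  obtain ⟨a, a1, a2⟩ := Ed.lift oo hA (pp_oo ▸ (nb_B (i := 1) (by omega)).1)
  obtain ⟨z, z1, z2⟩ := Ed.lift a u'_XX (a2 ▸ bA)
  have f : ∀ l ∈ gen σ KL, l • z = z := fun l hl =>
    (gen_le (H := MulAction.stabilizer Γ z)).2 (fun c hc => by
      obtain ⟨v, hv, b1, b2, b3, b4⟩ := U1_geo hc
      have hE : π (σ c) ∈ EE := gen_EE ▸ π_mem (mem_gen hc)
      obtain ⟨m, m1, rfl⟩ := Ed.lift oo hv (pp_oo ▸ b1)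
      have t1 := a1.tri m1 (a2 ▸ b3)
      have t2 := t1.tri z1 (z2 ▸ b2)
      have t3 := m1.tri (a1.fix (E_LH (mem_gen hc))) (by rw [pp_smul, a2, π_σ, b4])
      have t4 := t3.tri t2 (by rw [pp_smul, a2, z2, ← EE_u' hE, GP_iso (π_GP _), bA])
      exact (z1.smul (σ c)).uniq t4 (by rw [pp_smul, z2, EE_u' hE])) hl
  refine ⟨z, fun m y b c e => ?_⟩
  obtain ⟨h, hh, e1⟩ := nbr_of (pp_XX m) (pp_oo ▸ b.B) (i := 1) (by omega) (by
    rw [xv3, neg_B, B_comm, ← e, c.B]; rfl)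
  obtain ⟨l, hl, rfl⟩ := of_EE hh
  obtain rfl := b.uniq (a1.fix (E_LH hl)) (by rw [pp_smul, a2]; exact e1.symm)
  exact c.uniq (f l hl ▸ z1.smul l) (e.trans z2.symm)

theorem U1 {x m y m' y' : Ω} (a : Ed x m) (b : Ed m y) (a' : Ed x m') (b' : Ed m' y')
    (e : pp y = pp y') (c : D.B (pp x) (pp y) = -1024) : y = y' := by
  obtain ⟨h, hh, e1, e2⟩ := edge (pp_XX x) (neg_XX (pp_XX y)) (by rw [B_neg, c, neg_neg])
  obtain ⟨γ, f, rfl⟩ := norm_any hh e1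
  obtain ⟨z, hz⟩ := U1_0
  rw [smul_neg'', xv3, neg_inj, ← pp_smul] at e2
  exact smul_left_cancel γ ((hz _ _ (f ▸ a.smul γ) (b.smul γ) e2).trans
    (hz _ _ (f ▸ a'.smul γ) (b'.smul γ) (by rw [pp_smul, ← e, ← pp_smul, e2])).symm)

/-! ### The antipode -/

def An (x z : Ω) : Prop := ∃ y m, Ed x y ∧ Ed y m ∧ Ed m z ∧ pp z = - pp x

theorem An.smul {x z : Ω} (γ : Γ) : An x z → An (γ • x) (γ • z) := fun ⟨y, m, a, b, c, e⟩ =>
  ⟨_, _, a.smul γ, b.smul γ, c.smul γ, by rw [pp_smul, pp_smul, e, smul_neg'']⟩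
theorem An.symm {x z : Ω} : An x z → An z x := fun ⟨y, m, a, b, c, e⟩ =>
  ⟨m, y, c.symm, b.symm, a.symm, by rw [e, neg_neg]⟩

theorem An_ex {x y : Ω} (a : Ed x y) : ∃ m z, Ed y m ∧ Ed m z ∧ pp z = - pp x := by
  obtain ⟨γ, rfl, rfl⟩ := a
  obtain ⟨v, hv, b1, b2, -⟩ := M_geo
  obtain ⟨m, m1, rfl⟩ := Ed.lift o1 hv (pp_o1 ▸ b2)
  obtain ⟨z, z1, z2⟩ := Ed.lift m (neg_XX u_XX) (by rw [B_neg, B_comm, b1, neg_neg])
  exact ⟨_, _, m1.smul γ, z1.smul γ, by rw [pp_smul, pp_smul, z2, pp_oo, smul_neg'']⟩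

theorem An_0 : ∃ z, ∀ y, An oo y → y = z := by
  obtain ⟨v, hv, b1, b2, b3⟩ := M_geo
  obtain ⟨m, m1, rfl⟩ := Ed.lift o1 hv (pp_o1 ▸ b2)
  obtain ⟨z, z1, z2⟩ := Ed.lift m (neg_XX u_XX) (by rw [B_neg, B_comm, b1, neg_neg])
  have k : ∀ {y m m' z z'}, Ed oo y → Ed y m → Ed m z → Ed y m' → Ed m' z' → pp z = -u → pp z' = -u →
      z = z' := fun a b c b' c' e e' =>
    U1 b c b' c' (e.trans e'.symm) (by rw [e, B_neg, ← pp_oo, a.symm.B])
  have n : ∀ l ∈ LH, pp (l • z) = -u := fun l hl => by rw [pp_smul, z2, smul_neg'', (π_LH hl).2]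
  have f1 : ∀ l ∈ gen σ KL, l • z = z := fun l hl =>
    k e01 (E_fix hl ▸ m1.smul l) (z1.smul l) m1 z1 (n l (E_LH hl)) z2
  have f2 : ev σ kw • z = z := by
    obtain ⟨m', a1, a2⟩ := Ed.lift o2 hv (pp_o2 ▸ b3)
    obtain rfl := U1 e02 a1 e01 m1 a2 (by rw [pp_oo, a2, b1])
    exact k e02 (m1.smul _) (z1.smul _) a1 z1 (n _ kw_LH) z2
  have f : ∀ l ∈ LH, l • z = z := fun l hl =>
    (gen_le (H := MulAction.stabilizer Γ z)).2 (fun c hc => by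
      rcases List.mem_cons.1 hc with rfl | hc
      · have a : ev σ (kw ++ 1 :: kw) ∈ MulAction.stabilizer Γ z := by
          rw [ev_append, ev_cons]
          exact Subgroup.mul_mem _ f2 (Subgroup.mul_mem _ (f1 _ (mem_gen (by decide))) f2)
        rw [← cJ_sound (w := kw ++ 1 :: kw) (a := 3) (by decide +kernel)]
        exact Subgroup.mul_mem _ (Subgroup.mul_mem _ a (f1 _ (mem_gen (by decide))))
          (Subgroup.inv_mem _ a)
      · exact f1 _ (mem_gen hc)) hl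
  refine ⟨z, ?_⟩
  rintro y ⟨_, m', ⟨l, e1, rfl⟩, b, c, e⟩
  have hl := fix_oo.1 e1.symm
  exact k (e01.fix hl) b c (m1.smul l) (f l hl ▸ z1.smul l) (e.trans (by rw [pp_oo])) z2

theorem An.uniq {x z z' : Ω} (a : An x z) (b : An x z') : z = z' := by
  obtain ⟨γ, rfl⟩ := ex_oo x
  obtain ⟨w, h⟩ := An_0
  exact smul_left_cancel γ⁻¹ ((h _ (by simpa using a.smul γ⁻¹)).trans
    (h _ (by simpa using b.smul γ⁻¹)).symm)

theorem An_tot (x : Ω) : ∃ z, An x z := by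
  obtain ⟨γ, rfl⟩ := ex_oo x
  obtain ⟨m, z, h⟩ := An_ex (e01.smul γ)
  exact ⟨z, _, m, e01.smul γ, h⟩

noncomputable def ν (x : Ω) : Ω := (An_tot x).choose
theorem An_ν (x : Ω) : An x (ν x) := (An_tot x).choose_spec
theorem pp_ν (x : Ω) : pp (ν x) = - pp x := by
  obtain ⟨_, _, _, _, _, e⟩ := An_ν x; exact e
theorem νν (x : Ω) : ν (ν x) = x := (An_ν _).uniq (An_ν x).symm
theorem ν_smul (γ : Γ) (x : Ω) : ν (γ • x) = γ • ν x := (An_ν _).uniq ((An_ν x).smul γ)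
theorem Ed.ν {x y : Ω} (a : Ed x y) : Ed (ν x) (ν y) := by
  obtain ⟨m, z, b, c, e⟩ := An_ex a
  obtain ⟨w, w1, w2⟩ := Ed.lift z (neg_XX (pp_XX y)) (by rw [e, neg_B, B_neg, neg_neg, a.B])
  rwa [(An_ν x).uniq ⟨y, m, a, b, c, e⟩, (An_ν y).uniq ⟨m, z, b, c, w1, w2⟩]

/-! ### Adjacency up to sign -/

def Aj (x y : Ω) : Prop := Ed x y ∨ Ed x (ν y)

theorem Aj.smul {x y : Ω} (γ : Γ) : Aj x y → Aj (γ • x) (γ • y) :=
  Or.imp (Ed.smul γ) fun h => ν_smul γ y ▸ h.smul γ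
theorem Aj.symm {x y : Ω} : Aj x y → Aj y x := Or.imp Ed.symm fun h => (νν y ▸ h.ν).symm
theorem Aj_ν {x y : Ω} : Aj x (ν y) ↔ Aj x y := by rw [Aj, νν, or_comm, Aj]
theorem ν_Aj {x y : Ω} : Aj (ν x) y ↔ Aj x y :=
  ⟨fun h => (Aj_ν.1 h.symm).symm, fun h => (Aj_ν.2 h.symm).symm⟩
theorem Aj.adj {x y : Ω} (h : Aj x y) : adj (pp x) (pp y) :=
  adj_iff.2 (h.imp Ed.B fun h => pp_ν y ▸ h.B)
theorem Aj.lift (x : Ω) {v : VV} (hv : v ∈ XX) (e : BM.adj (pp x) v) : ∃ y, Aj x y ∧ pp y = v := by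
  rcases adj_iff.1 e with e | e
  · obtain ⟨y, a, b⟩ := Ed.lift x hv e
    exact ⟨y, Or.inl a, b⟩
  · obtain ⟨y, a, b⟩ := Ed.lift x (neg_XX hv) e
    exact ⟨ν y, Aj_ν.2 (Or.inl a), by rw [pp_ν, b, neg_neg]⟩
theorem Aj.ed {x y : Ω} (a : Aj x y) (e : D.B (pp x) (pp y) = 1024) : Ed x y :=
  a.resolve_right fun h => by
    have := h.B
    rw [pp_ν, B_neg, e] at this; norm_num at this
theorem Aj.uniq {x y y' : Ω} (a : Aj x y) (b : Aj x y') (e : pp y = pp y') : y = y' := by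
  rcases a with a | a
  · exact a.uniq (b.ed (e ▸ a.B)) e
  · have e' : pp (ν y) = pp (ν y') := by rw [pp_ν, pp_ν, e]
    rw [← νν y, a.uniq ((Aj_ν.2 b).ed (e' ▸ a.B)) e', νν]
theorem Aj.tri {x y w : Ω} (a : Aj x y) (b : Aj x w) (e : BM.adj (pp y) (pp w)) : Aj y w := by
  have k : ∀ {y w}, Ed x y → Ed x w → BM.adj (pp y) (pp w) → Aj y w := fun {y w} a b e => by
    rcases adj_iff.1 e with e | e
    · exact Or.inl (a.tri b e)
    · obtain ⟨z, z1, z2⟩ := Ed.lift y (neg_XX (pp_XX w)) e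
      exact Or.inr ((An_ν w).uniq ⟨x, y, b.symm, a, z1, z2⟩ ▸ z1)
  have n : ∀ {y w}, BM.adj (pp y) (pp w) → BM.adj (pp y) (pp (ν w)) := fun e => by
    rwa [pp_ν, adj_neg]
  rcases a with a | a <;> rcases b with b | b
  exacts [k a b e, Aj_ν.1 (k a b (n e)), ν_Aj.1 (k a b (adj_comm.1 (n (adj_comm.1 e)))),
    ν_Aj.1 (Aj_ν.1 (k a b (n (adj_comm.1 (n (adj_comm.1 e))))))]

/-! ### Paths of length two -/

def Rr (x y : Ω) : Prop := ∃ m, Aj x m ∧ Aj m y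

theorem Rr.symm {x y : Ω} : Rr x y → Rr y x := fun ⟨m, a, b⟩ => ⟨m, b.symm, a.symm⟩
theorem Rr.smul {x y : Ω} (γ : Γ) : Rr x y → Rr (γ • x) (γ • y) :=
  fun ⟨_, a, b⟩ => ⟨_, a.smul γ, b.smul γ⟩
theorem Rr.gd {x y : Ω} : Rr x y → Gd (pp x) (pp y) := fun ⟨m, a, b⟩ => ⟨_, pp_XX m, a.adj, b.adj⟩
theorem Rr.ν {x y : Ω} : Rr x y → Rr x (ν y) := fun ⟨m, a, b⟩ => ⟨m, a, Aj_ν.2 b⟩
theorem Rr.aj {x y : Ω} : Rr x y → adj (pp x) (pp y) → Aj x y := fun ⟨_, a, b⟩ => a.symm.tri b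
theorem Rr.lift (x : Ω) {v : VV} (hv : v ∈ XX) : Gd (pp x) v → ∃ y, Rr x y ∧ pp y = v := by
  rintro ⟨m, hm, a, b⟩
  obtain ⟨m, m1, rfl⟩ := Aj.lift x hm a
  obtain ⟨y, y1, y2⟩ := Aj.lift m hv b
  exact ⟨y, ⟨m, m1, y1⟩, y2⟩
theorem Aj.rr {x y : Ω} (a : Aj x y) : Rr x y := by
  obtain ⟨h, hh, m, hm, e1, e2⟩ := pairs (pp_XX x) (pp_XX y)
  obtain rfl : m = 1 := by
    rw [← adj_std hm, ← e1, ← adj_pm e2, adj_smul hh]; exact a.adj
  obtain ⟨v, hv, b, c⟩ := (Gd_smul hh).1 (e1 ▸ (Gd_pm e2).2 ((Gd_std hm).2 (by omega)))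
  obtain ⟨m, m1, rfl⟩ := Aj.lift x hv b
  exact ⟨m, m1, m1.tri a c⟩

theorem S3_le : LL ⊓ MulAction.stabilizer GG (xv 4) ≤ gen sm (15 :: AL) := by
  have h : gen sm (15 :: AL) ≤ LL ⊓ MulAction.stabilizer GG (xv 4) := gen_le.2 fun c hc =>
    ⟨⟨sm_GP c, sm_u (by revert c; decide +kernel)⟩, fx_sound (by omega) (by revert c; decide +kernel)⟩
  have f : Finite ↥(LL ⊓ MulAction.stabilizer GG (xv 4)) :=
    Finite.of_injective _ (Subgroup.inclusion_injective (inf_le_left.trans inf_le_left : _ ≤ GP))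
  have c : Nat.card (gen sm AL) = 64561751654400 := by
    rw [← π_gen, ← φ1_range, ← MonoidHom.range_comp, ← Fi22.card.1]
    exact (Nat.card_congr (MonoidHom.ofInjective φ1_inj.2).toEquiv).symm
  refine (Subgroup.eq_of_le_of_card_ge h (card_S3.trans ?_)).ge
  have := Finite.of_injective _ (Subgroup.inclusion_injective h)
  have a := ((gen sm AL).subgroupOf (gen sm (15 :: AL))).card_mul_index
  have b := ((gen sm AL).subgroupOf (gen sm (15 :: AL))).index_ne_zero_of_finite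
  have e : ((gen sm AL).subgroupOf (gen sm (15 :: AL))).index ≠ 1 := fun e => om_not (by
    have : (⟨sm 15, mem_gen (by simp)⟩ : gen sm (15 :: AL)) ∈ (gen sm AL).subgroupOf _ :=
      Subgroup.index_eq_one.1 e ▸ Subgroup.mem_top _
    exact (gen_le.2 fun c hc => sm_BB (by revert c; decide) : gen sm AL ≤ BB) this)
  rw [Nat.card_congr (Subgroup.subgroupOfEquivOfLe (gen_mono fun c hc => by simp [hc])).toEquiv, c] at a
  omega

theorem σ4_o2 : σ 4 • o2 = o2 := by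
  simpa [o2, o1, ev_append, mul_smul] using fix_of_cP (w := [4]) (v := kw ++ gw) (by decide +kernel)

theorem U3_0 {y : Ω} (a : Rr oo y) (e : pp y = xv 4) : y = ev σ [11, 4] • oo := by
  have p4 : pp (ev σ [11, 4] • oo) = xv 4 := by
    rw [pp_oo', π_ev]
    simp only [ev_cons, ev_nil, mul_one, mul_smul]
    rw [← xv11, sm_braid (i := 4) (j := 11), sm_sm]
  have e24 : Ed o2 (ev σ [11, 4] • oo) := by
    have := e02.symm.smul (ev σ [11, 4])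
    rwa [show ev σ [11, 4] • o2 = o2 by
      simpa [o2, o1, ev_append, mul_smul] using
        fix_of_cP (w := [11, 4]) (v := kw ++ gw) (by decide +kernel)] at this
  have x4 : D.B u (xv 4) = 256 := xv11 ▸ ipj (i := 11) (j := 4)
  obtain ⟨m, a, b⟩ : ∃ m, Ed oo m ∧ Aj m y := by
    obtain ⟨m, a | a, b⟩ := a
    exacts [⟨m, a, b⟩, ⟨_, a, ν_Aj.2 b⟩]
  have a' : D.B (pp m) u = 1024 := pp_oo ▸ a.symm.B
  have c : D.B (pp m) (xv 4) = 1024 := (adj_iff.1 (e ▸ b.adj)).resolve_right fun c => by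
    obtain ⟨h, hh, e1, e2⟩ := edge (pp_XX m) u_XX a'
    obtain ⟨i, hi, k, hk, e3⟩ := nbr_orb (GP_XX hh (neg_XX gn4.1)) (by rw [← e1, GP_iso hh, c])
    have := (nb_B hi).2
    rw [← GP_iso (EE_GP hk), EE_3 hk, e3, ← e2, GP_iso hh, B_neg, x4] at this
    interval_cases i <;> norm_num [nv] at this
  obtain ⟨h, hh, h1, h2, h3⟩ := path_conj u_XX (pp_XX o2) gn4.1 (pp_oo ▸ e02.symm.B) (p4 ▸ e24.B)
    u_XX (pp_XX m) gn4.1 a' c (i := 4) (by omega) x4 x4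
  obtain ⟨l, hl, rfl⟩ := π_gen _ ▸ S3_le ⟨⟨hh, h1⟩, h3⟩
  have l1 : l ∈ LH := gen_mono (by decide) hl
  have l2 : l * ev σ [11, 4] = ev σ [11, 4] * l := comm_gen (fun c hc => by
    rcases List.mem_cons.1 hc with rfl | hc
    · exact τ_comm (by decide +kernel)
    · simpa [mul_assoc] using σ_eq (v := [c, 11, 4]) (w := [11, 4, c]) (by revert c; decide +kernel)) l hl
  obtain rfl := a.uniq (e02.fix l1) (by rw [pp_smul, h2])
  exact (b.ed (e ▸ c)).uniq (fix_of_comm l2 l1 ▸ e24.smul l) (e.trans p4.symm)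

theorem U4_0 {y y' : Ω} (a : Rr oo y) (a' : Rr oo y') (e : pp y = sy 4) (e' : pp y' = sy 4) :
    y = y' := by
  have s4 : sx 4 = pp oo := vu.trans pp_oo.symm
  obtain ⟨r, r1, r2⟩ := Aj.lift oo (xq_XX 2048 false)
    (s4 ▸ cn (xq_bnd _ _) (xq_bnd _ _) (and2_true.1 cn4).1)
  obtain ⟨z, z1, z2⟩ := Aj.lift r (sy_XX (m := 4) (by omega))
    (r2 ▸ cn (xq_bnd _ _) (xq_bnd _ _) (and2_true.1 cn4).2)
  have k := U4_geo (O := fun v => ∀ m, Aj oo m → pp m = v → Aj m z)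
    (fun v o m a e => ν_Aj.1 (o _ (Aj_ν.2 a) (by rw [pp_ν, e, neg_neg])))
    (fun v v' c c' a o m' b e => by
      obtain ⟨m, m1, rfl⟩ := Aj.lift oo c.1 (s4 ▸ c.2.1)
      exact (m1.tri b (e ▸ a)).tri (o m m1 rfl) (by rw [e, z2]; exact c'.2.2))
    (fun m a e => a.uniq r1 (e.trans r2.symm) ▸ z1)
  have f : ∀ {y}, Rr oo y → pp y = sy 4 → y = z := by
    rintro y ⟨m, a, b⟩ e
    exact b.uniq (k _ ⟨pp_XX m, s4 ▸ a.adj, e ▸ b.adj⟩ m a rfl) (e.trans z2.symm)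
  exact (f a e).trans (f a' e').symm

theorem Rr.uniq {x y y' : Ω} (a : Rr x y) (a' : Rr x y') (e : pp y = pp y') : y = y' := by
  obtain ⟨h, hh, m, hm, e1, e2⟩ := pairs (pp_XX x) (pp_XX y)
  have k : ∀ {y y'}, Rr x y → Rr x y' → pp y = pp y' → h • pp y = sy m → y = y' := by
    intro y y' a a' e e2
    interval_cases m
    · have : ∀ {y}, Rr x y → h • pp y = sy 0 → y = x := by
        rintro y ⟨m, a, b⟩ e
        exact b.uniq a.symm (smul_left_cancel h (e.trans e1.symm))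
      exact (this a e2).trans (this a' (e ▸ e2)).symm
    · have : adj (pp x) (pp y) := by rw [← adj_smul hh, e1, e2, adj_std hm]
      exact (a.aj this).uniq (a'.aj (e ▸ this)) e
    · exact absurd rfl ((Gd_std hm).1 (e1 ▸ e2 ▸ (Gd_smul hh).2 a.gd))
    · obtain ⟨k, hk, k1, k2⟩ := pair3 u_XX gn4.1 (xv11 ▸ ipj (i := 11) (j := 4))
      obtain ⟨γ, f, g⟩ := norm_any (GP.mul_mem (GP.inv_mem hk) hh)
        (by rw [mul_smul, e1, ← k1, inv_smul_smul])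
      have : pp (γ • y) = xv 4 := by rw [pp_smul, g, mul_smul, e2, ← k2, inv_smul_smul]
      exact smul_left_cancel γ ((U3_0 (f ▸ a.smul γ) this).trans (U3_0 (f ▸ a'.smul γ)
        (by rw [pp_smul, ← e, ← pp_smul, this])).symm)
    · obtain ⟨γ, f, rfl⟩ := norm_any hh (e1.trans vu)
      exact smul_left_cancel γ (U4_0 (f ▸ a.smul γ) (f ▸ a'.smul γ) (by rw [pp_smul, e2])
        (by rw [pp_smul, ← e, e2]))
  rcases e2 with e2 | e2
  · exact k a a' e e2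
  · rw [← νν y, k a.ν a'.ν (by rw [pp_ν, pp_ν, e]) (by rw [pp_ν, smul_neg'', e2, neg_neg]), νν]

theorem Rr.step {w y y' : Ω} (a : Rr w y) (b : Aj y y') (c : Gd (pp w) (pp y')) : Rr w y' := by
  rcases geoG (pp_XX w) (pp_XX y) (pp_XX y') b.adj a.gd c with h | h | ⟨p, hp, q, hq, h1, h2, h3, h4, h5⟩
  · exact ⟨y, a.aj h, b⟩
  · obtain ⟨z, z1, z2⟩ := Aj.lift w (pp_XX y') h
    obtain ⟨v, v1, v2⟩ := Aj.lift z (pp_XX y) (z2 ▸ b.symm.adj)
    obtain rfl := a.uniq ⟨z, z1, v1⟩ v2.symm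
    exact v1.symm.uniq b z2 ▸ z1.rr
  · obtain ⟨p, p1, rfl⟩ := Aj.lift w hp h1
    obtain ⟨q, q1, rfl⟩ := Aj.lift w hq h3
    obtain ⟨v, v1, v2⟩ := Aj.lift p (pp_XX y) h2
    obtain rfl := a.uniq ⟨p, p1, v1⟩ v2.symm
    rcases h5 with h5 | h5
    · exact ⟨p, p1, v1.symm.tri b (h5 ▸ h4)⟩
    · obtain ⟨z, z1, z2⟩ := Aj.lift q (pp_XX y') h4
      exact Rr.uniq ⟨q, p1.tri q1 h5, z1⟩ ⟨y, v1, b⟩ z2 ▸ ⟨q, q1, z1⟩

/-! ### Short closed walks lift to closed walks -/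

def Wk (n : ℕ) (x y : Ω) : Prop := ∃ l : List VV, l.length ≤ n ∧ (∀ s ∈ l, s ∈ XX) ∧
  ∀ w, (∀ s ∈ l, Gd s (pp w)) → Rr w x → Rr w y

theorem Wk.trans {n m : ℕ} {x y z : Ω} : Wk n x y → Wk m y z → Wk (n + m) x z :=
  fun ⟨l, a1, a2, a3⟩ ⟨k, b1, b2, b3⟩ => ⟨l ++ k, by simp; omega,
    fun s hs => (List.mem_append.1 hs).elim (a2 s) (b2 s),
    fun w h r => b3 w (fun s hs => h s (by simp [hs])) (a3 w (fun s hs => h s (by simp [hs])) r)⟩
theorem Aj.wk {x y : Ω} (a : Aj x y) : Wk 1 x y :=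
  ⟨[pp y], le_rfl, by simp [pp_XX], fun w h r => r.step a (h _ (by simp)).symm⟩
theorem Rr.wk {x y : Ω} : Rr x y → Wk 2 x y := fun ⟨_, a, b⟩ => a.wk.trans b.wk
theorem Wk.eq {n : ℕ} {x y : Ω} (h : Wk n x y) (hn : n ≤ 19) (e : pp x = pp y) : x = y := by
  obtain ⟨l, a1, a2, a3⟩ := h
  obtain ⟨v, hv, c⟩ := exists_gd (pp x :: l) (List.forall_mem_cons.2 ⟨pp_XX x, a2⟩) (by simp; omega)
  obtain ⟨w, w1, rfl⟩ := Rr.lift x hv (c _ (by simp))
  exact w1.symm.uniq (a3 w (fun s hs => c s (by simp [hs])) w1.symm) e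

theorem near {x : Ω} (h : Relation.ReflTransGen Aj oo x) : Wk 4 oo x := by
  have k : ∀ v ∈ XX, ∃ y, Wk 4 oo y ∧ Wk 4 y oo ∧ pp y = v := fun v hv => by
    obtain ⟨w, hw, c⟩ := exists_gd [pp oo, v] (by simp [pp_XX, hv]) (by simp)
    obtain ⟨w, w1, rfl⟩ := Rr.lift oo hw (c _ (by simp))
    obtain ⟨y, y1, y2⟩ := Rr.lift w hv (c _ (by simp)).symm
    exact ⟨y, w1.wk.trans y1.wk, y1.symm.wk.trans w1.symm.wk, y2⟩
  induction h with
  | refl => exact ⟨[], by simp, by simp, fun _ _ r => r⟩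
  | @tail x y _ a ih =>
    obtain ⟨z, z1, z2, z3⟩ := k _ (pp_XX y)
    exact ((z2.trans ih).trans a.wk).eq (by omega) z3 ▸ z1

theorem reach (γ : Γ) : Relation.ReflTransGen Aj oo (γ • oo) := by
  have m : ∀ (γ : Γ) {x y}, Relation.ReflTransGen Aj x y → Relation.ReflTransGen Aj (γ • x) (γ • y) :=
    fun γ _ _ h => h.lift (γ • ·) fun _ _ => Aj.smul γ
  let S : Subgroup Γ :=
    { carrier := {γ | Relation.ReflTransGen Aj oo (γ • oo)}
      one_mem' := by simp [Relation.ReflTransGen.refl]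
      mul_mem' := fun {a b} ha hb => by
        change Relation.ReflTransGen _ _ _
        rw [mul_smul]; exact ha.trans (m a hb)
      inv_mem' := fun {a} ha => by
        have := m a⁻¹ ha
        rw [inv_smul_smul] at this
        exact Relation.ReflTransGen.mono (fun _ _ => Aj.symm) _ _ this.swap }
  refine (gen_le (H := S)).2 (fun c hc => ?_) (Γ_top ▸ Subgroup.mem_top γ)
  change Relation.ReflTransGen _ _ _
  by_cases e : c = 4
  · subst e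
    exact (Relation.ReflTransGen.single (r := Aj) (Or.inl e02)).tail
      (Or.inl (by simpa only [σ4_o2] using e02.symm.smul (σ 4)))
  · rw [fix_oo.2 (mem_gen (by revert e; revert c; decide))]

theorem π_inj : Function.Injective π := (injective_iff_map_eq_one π).2 fun γ h =>
  L_inj γ (fix_oo.1 ((near (reach γ)).eq (by omega) (by rw [pp_smul, h, one_smul])).symm) h

theorem isB_PY : Cfsg.IsB Cfsg.Spor.BabyMonster := by
  have i : Function.Injective π0 := fun x y h => ι_inj (π_inj (by rw [π_ι, π_ι, h]))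
  have h : π0.range = BB := by
    rw [MonoidHom.range_eq_map, ← PY_top, map_gen, ← gen_BB]
    exact gen_congr fun c hc => π0_e (by revert c; decide)
  have e : PY.G ≃* BB := (MonoidHom.ofInjective i).trans (MulEquiv.subgroupCongr h)
  have := isB.1
  exact ⟨e.isSimpleGroup, (Nat.card_congr e.toEquiv).trans isB.2⟩

end H29.YB
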