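import Mathlib
import Cfsg.Agent.H29.YB.E1

/-!
# The centraliser of two commuting nodes embeds
-/

set_option autoImplicit false
set_option maxRecDepth 100000
set_option linter.all false

namespace H29.YB
open H19 H29.BE H29.BP H29.BP.Dat H29.BM

def UL : List ℕ := [0, 1, 3, 5, 6, 7, 8, 9, 11, 12]
def VL : List ℕ := [0, 1, 3, 5, 6, 8, 9, 11, 12]
def EL : List ℕ := 10 :: UL

/-! ### The order of the unitary group -/

noncomputable def S23 : Subgroup Fi23.P.G := gen Fi23.P.e Fi23T.hcols ⊓ stab Fi23.ρ 26622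
instance : Finite Fi23.P.G := Fi23.bd.1

theorem S23_bd : Bd (S23.map φ2) 36787322880 := by
  have := card_mul_le_of_orbit (ρ := Fi23.ρ) (K := gen Fi23.P.e Fi23T.hcols) (K' := S23) inf_le_left
    (b := 26622) (n := 3510) (fun g hg => hg.2) (ncard_orbit_of_chk (k := 15) (r := 8) Fi23T.hn
      (fun c _ => Fi23.hρ c) (by decide +kernel)).ge
  rw [show Nat.card (gen Fi23.P.e Fi23T.hcols) = _ from Fi23.cardH] at this
  exact ⟨Finite.of_surjective _ (φ2.subgroupMap_surjective S23),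
    (Nat.card_le_card_of_surjective _ (φ2.subgroupMap_surjective S23)).trans (by omega)⟩

theorem S23_w {w : List ℕ} (c : and2 (cP w 0 0) (cP w 26622 26622) = true) :
    ev σ w ∈ S23.map φ2 :=
  ⟨_, ⟨(Fi23.cm.mem _).1 (cP_ρ (and2_true.1 c).1).2, (cP_ρ (and2_true.1 c).2).2⟩,
    (cP_ρ (and2_true.1 c).1).1⟩

theorem U_le : gen σ UL ≤ S23.map φ2 := gen_le.2 fun c hc => by
  simpa using S23_w (w := [c]) (by revert c; decide +kernel)
theorem U_bd : Bd (gen σ UL) 36787322880 := S23_bd.of_le U_le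
theorem U_inj : Inj (gen σ UL) := φ2_inj.1.mono (U_le.trans (Subgroup.map_le_range _ _))
theorem U_c {c : ℕ} (h : (7147 : ℕ).testBit c = true) : σ c ∈ gen σ UL := by
  have h1 := bit_lt (n := 13) (by decide) h
  exact mem_gen (by revert h; revert c; decide)
theorem U_w {w : List ℕ} (h : inM 7147 w = true) : ev σ w ∈ gen σ UL :=
  ev_mem fun c hc => U_c (inM_true h c hc)
theorem sm_K {L : List ℕ} (h : inM 65515 L = true) : gen sm L ≤ D.KK :=
  gen_le.2 fun c hc => (sm_tab c (inM_true h c hc)).1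
theorem π_mem {L : List ℕ} {x : Γ} (h : x ∈ gen σ L) : π x ∈ gen sm L := π_gen L ▸ ⟨x, h, rfl⟩
theorem U_K {x : Γ} (h : x ∈ gen σ UL) : π x ∈ D.KK := sm_K (by decide +kernel) (π_mem h)
theorem crel_w {w : List ℕ} (h : inM 65515 w = true) {x y : ℕ} (c : ceq (cw tm w x) y = true) :
    CRel D (π (ev σ w)) x y := by
  rw [π_ev]
  exact CRel.of_eq (cw_sound w (fun a ha => (sm_tab a (inM_true h a ha)).2) x) c

def xo : ℕ := 541531
theorem fo0 : f32 foV 0 = xo := by decide +kernel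

theorem V_card : 26127360 ≤ Nat.card (gen sm VL) := by
  have h0 : ∀ c, (7019 : ℕ).testBit c = true → sm c ∈ gen sm VL := fun c hc => mem_gen (by
    have h1 := bit_lt (n := 13) (by decide) hc
    revert hc; revert c; decide)
  have c0 := Fx_lev sm_tab h0 vc0a vc0b vc0c
  have c1 := Fx_lev sm_tab h0 vc1a vc1b vc1c
  have c2 := Fx_lev sm_tab h0 vc2a vc2b vc2c
  have c3 := card_Fx4 (sm_z ▸ (gen sm VL).mul_mem (h0 3 rfl) (h0 11 rfl)) (sm11 ▸ h0 11 rfl)
    [f32 vc2V 0, f32 vc1V 0, f32 vc0V 0]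
  have : Finite (gen sm VL) :=
    Finite.of_injective _ (Subgroup.inclusion_injective (sm_K (by decide +kernel)))
  have c4 := Subgroup.card_le_of_le (Fx_le' (H := gen sm VL) (bs := []))
  omega

theorem V_le : gen sm VL ≤ Fx (gen sm UL) [xo] := gen_le.2 fun c hc =>
  ⟨⟨mem_gen (by revert c; decide), (sm_tab c (by revert c; decide)).1⟩, fun b hb => by
    rw [List.mem_singleton.1 hb]
    exact tab_crel (sm_tab c (by revert c; decide)).2 (by revert c; decide +kernel)⟩

/-! ### The element `X` -/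

def ws : List ℕ := [4, 3, 11, 4, 0, 1, 5, 0, 6, 5, 8, 0, 1, 9, 8, 0, 5, 6, 12, 9, 8, 0, 5, 1, 0, 8, 9,
  12, 6, 5]
noncomputable def X : Γ := ev σ ws * τ
noncomputable def xa : ℕ → ℕ := ivOf [0, 1, 2, 11, 4, 5, 6, 7, 8, 9, 13, 3, 12, 10]

theorem X_σ0 {c : ℕ} (h : (8043 : ℕ).testBit c = true) : X * σ c * X⁻¹ = σ (xa c) := by
  have h1 := bit_lt (n := 13) (by decide) h
  have : cJ ws (ta c) (xa c) = true := by revert h; revert c; decide +kernel
  rw [← cJ_sound this, ← τ_σ (by omega), X]; group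

theorem X_sq : X * X = 1 := by
  have e : X * X = ev σ (ws ++ ws.map ta) := by
    rw [ev_append, ← conj_ev (e := σ) (x := τ) (w := ws) (σ := ta) fun c hc => τ_σ (by revert c; decide),
      τ_inv, X]; group
  have e1 := φ2_w (w := ws ++ ws.map ta) (by decide +kernel)
  have : ev fe (ws ++ ws.map ta) ∈ Subgroup.center Fi23.P.G := Subgroup.mem_center_iff.2 fun g =>
    comm_gen (L := Fi23T.cols) (fun c hc => (Function.Injective.of_comp (f := π) (g := φ2) φ2_inj.2) (by
      have hc' : c < 10 := by revert c; decide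
      rw [map_mul, map_mul, e1, φ2_e hc', eq_comm, ← mul_inv_eq_iff_eq_mul]
      by_cases a : c = 0 ∨ c = 5 ∨ c = 9
      · exact cJ_sound (by rcases a with rfl | rfl | rfl <;> decide +kernel)
      · have : (8043 : ℕ).testBit (m23 c) = true ∧ (8043 : ℕ).testBit (xa (m23 c)) = true ∧
          xa (xa (m23 c)) = m23 c := by revert a; clear hc; revert c; decide +kernel
        have a1 := X_σ0 this.2.1
        rw [this.2.2, ← X_σ0 this.1] at a1
        exact Eq.trans (by rw [← e]; group) a1)) g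
      (Fi23.top ▸ Subgroup.mem_top g)
  have hs := Fi23.simple
  rw [center_eq_bot_of_simple (by rw [Fi23.card.1]; norm_num), Subgroup.mem_bot] at this
  rw [e, ← e1, this, map_one]
theorem X_inv : X⁻¹ = X := inv_eq_of_mul_eq_one_right X_sq

theorem X_σ {c : ℕ} (h : (16235 : ℕ).testBit c = true) : X * σ c * X⁻¹ = σ (xa c) := by
  by_cases e : c = 13
  · rw [e, show σ 13 = _ from (X_σ0 (c := 10) rfl).symm, X_inv]
    calc _ = X * X * σ 10 * (X * X) := by group
      _ = _ := by rw [X_sq, one_mul, mul_one]; rfl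
  · have h1 := bit_lt (n := 14) (by decide) h
    exact X_σ0 (by revert h e; revert c; decide)

noncomputable def ZZ : Subgroup Γ := gen σ [3, 11]
theorem Z_le : ZZ ≤ gen σ UL := gen_mono (by decide)
theorem U_Z {h z : Γ} (hh : h ∈ gen σ UL) (hz : z ∈ ZZ) : z * h = h * z :=
  comm_gen (fun c hc => (comm_gen (fun a ha => comm_of_cox (n := 14) σ_sq σ_cox a c (by
    revert c; revert a; decide +kernel)) h hh).symm) z hz
theorem U_Z' {h z : Γ} (hh : h ∈ gen σ UL) (hz : z ∈ ZZ) : h⁻¹ * z * h = z := by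
  rw [mul_assoc, U_Z hh hz, inv_mul_cancel_left]
theorem X_Z {z : Γ} (hz : z ∈ ZZ) : X * z * X ∈ ZZ := by
  have := conj_gen (t := X) (H := ZZ) (fun c hc => by
    rw [X_σ (by revert c; decide)]; exact mem_gen (by revert c; decide +kernel)) z hz
  rwa [X_inv] at this

noncomputable def xc (h : Γ) : Γ := h⁻¹ * X * h
theorem xc_sq (h : Γ) : xc h * xc h = 1 := by
  calc _ = h⁻¹ * (X * X) * h := by rw [xc]; group
    _ = 1 := by rw [X_sq]; simp
theorem xc_mul (h k : Γ) : xc (h * k) = k⁻¹ * xc h * k := by rw [xc, xc]; group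
theorem xc_Z {h z : Γ} (hh : h ∈ gen σ UL) (hz : z ∈ ZZ) : xc h * z * xc h ∈ ZZ := by
  have := X_Z hz
  rw [← U_Z' hh this, ← U_Z' ((gen σ UL).inv_mem hh) hz] at this
  rwa [show xc h * z * xc h = h⁻¹ * (X * (h⁻¹⁻¹ * z * h⁻¹) * X) * h by rw [xc]; group]

theorem V_X {v : Γ} (hv : v ∈ gen σ VL) : X * xc v ∈ ZZ := by
  let S : Subgroup Γ :=
    { carrier := {v | v ∈ gen σ UL ∧ X * xc v ∈ ZZ}
      one_mem' := ⟨Subgroup.one_mem _, by simp [xc, X_sq]⟩
      mul_mem' := fun {a b} ha hb => ⟨Subgroup.mul_mem _ ha.1 hb.1, by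
        have := ZZ.mul_mem hb.2 ha.2
        rw [← U_Z' hb.1 ha.2, xc] at this
        rwa [xc_mul, show X * (b⁻¹ * xc a * b) = X * (b⁻¹ * X * b) * (b⁻¹ * (X⁻¹ * xc a) * b) by group,
          X_inv]⟩
      inv_mem' := fun {a} ha => ⟨Subgroup.inv_mem _ ha.1, by
        have := ZZ.inv_mem ha.2
        rw [← U_Z' ((gen σ UL).inv_mem ha.1) this, xc] at this
        rwa [xc, show X * (a⁻¹⁻¹ * X * a⁻¹) = a⁻¹⁻¹ * (X⁻¹ * (a⁻¹ * X⁻¹ * a))⁻¹ * a⁻¹ by group,
          X_inv]⟩ }
  refine ((gen_le (H := S)).2 (fun c hc => ⟨mem_gen (by revert c; decide), ?_⟩) hv).2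
  have := X_σ (c := c) (by revert c; decide)
  rw [xc, σ_inv, ← mul_assoc, ← mul_assoc, ← X_inv, X_inv, ← X_inv, X_inv]
  rw [X_inv] at this
  rw [this]
  by_cases e : c = 3 ∨ c = 11
  · rcases e with rfl | rfl <;> exact ZZ.mul_mem (mem_gen (by decide +kernel)) (mem_gen (by decide))
  · rw [show xa c = c by clear this; revert e; revert c; decide +kernel, σ_sq]; exact ZZ.one_mem

/-! ### Relations inside a conjugate of `Fi22` -/

def k1 : List ℕ := [0, 5, 6, 1, 0, 5, 2, 1, 0, 3, 2, 1, 4, 3, 2, 11, 4, 3]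
def ml : List (List ℕ) := [[1], [8], [9], [0, 5, 6, 12, 6, 5, 0], [13], [10], [3], [11]]
noncomputable def A2 : Subgroup Γ := cjg (ev σ k1) (gen σ AL)
noncomputable def mx : ℕ → ℕ := nth 0 [0, 1, 2, 3, 5]
noncomputable def ex (w : List ℕ) : List ℕ := w.flatMap (nth [] ml)
theorem ev_ex : ∀ w : List ℕ, ev (wE σ ml) w = ev σ (ex w)
  | [] => rfl
  | c :: w => by rw [ev_cons, ev_ex w, ex, ex, List.flatMap_cons, ev_append, wE]

theorem A2_of {w v : List ℕ} {c : ℕ} (h : and2 (inM 26599 w) (cJ (v ++ k1 ++ w) 0 c) = true) :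
    (ev σ v)⁻¹ * σ c * ev σ v ∈ A2 := by
  have a : ev σ w ∈ gen σ AL := ev_mem fun c hc => A1_c (inM_true (and2_true.1 h).1 c hc)
  rw [A2, mem_cjg, ← cJ_sound (and2_true.1 h).2, ev_append, ev_append]
  convert Subgroup.mul_mem _ (Subgroup.mul_mem _ a (A1_c (c := 0) rfl)) (Subgroup.inv_mem _ a) using 1
  group

theorem A2_c (c : ℕ) : wE σ ml c ∈ A2 := by
  have a : ∀ {w c}, and2 (inM 26599 w) (cJ ([] ++ k1 ++ w) 0 c) = true → ev σ [c] ∈ A2 :=
    fun h => by simpa using A2_of h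
  refine nth_forall (p := fun w => ev σ w ∈ A2) (Subgroup.one_mem _) ?_ c
  simp only [ml, List.forall_mem_cons]
  refine ⟨a (w := [5, 6, 0, 5]) (by decide +kernel),
    a (w := [8, 0, 5, 1, 0, 8, 6, 5, 2, 1]) (by decide +kernel),
    a (w := [8, 9, 0, 8]) (by decide +kernel), ?_,
    a (w := [5, 6, 0, 5, 1, 0, 8, 7, 6, 5, 2, 1]) (by decide +kernel), ?_,
    a (w := []) (by decide +kernel), a (w := [1, 2, 0, 1]) (by decide +kernel), by simp⟩
  · have := A2_of (w := [1, 0, 8, 5, 2, 1]) (v := [6, 5, 0]) (c := 12) (by decide +kernel)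
    rw [← ev_rev σ_sq] at this
    simpa [mul_assoc] using this
  · rw [A2, mem_cjg, ← ev_rev σ_sq, ← ev_append, ← ev_append, σ_eq (w := [10]) (by decide +kernel)]
    simpa using A1_c (c := 10) rfl

theorem wE_sq (c : ℕ) : wE σ ml c * wE σ ml c = 1 := by
  refine nth_forall (p := fun w => ev σ w * ev σ w = 1) (by simp) (fun w hw => ?_) c
  rw [← ev_append]
  exact σ_eq (w := []) (by revert w; decide +kernel)

noncomputable def sdw (a b c : List ℕ) : List ℕ :=
  a.reverse.map mx ++ (a ++ b.reverse) ++ (b ++ c.reverse).map mx ++ c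
noncomputable def chkSd (a b c : List ℕ) : Bool := and2 (inM 31 (a ++ b ++ c))
  (and2 (inM 32767 (ex (sdw a b c)))
    (or2 (chkT 65515 tm (ex (sdw a b c)) tI) (chkT 65515 tm (ex (sdw a b c)) tl11)))

theorem seed {a b c : List ℕ} (h : chkSd a b c = true) :
    X * xc (ev σ (ex a)) * xc (ev σ (ex b)) * xc (ev σ (ex c)) ∈ ZZ := by
  simp only [chkSd, and2_true, or2_true] at h
  have cx : ∀ w, (∀ y ∈ w, y ∈ a ++ b ++ c) → ev (wE σ ml) (w.map mx) = X * ev (wE σ ml) w * X :=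
    fun w hw => by
      rw [← conj_ev (x := X) fun y hy => ?_, X_inv]
      have h1 := bit_lt (n := 5) (by decide) (inM_true h.1 y (hw y hy))
      clear hy
      rw [wE, wE, conj_ev (e := σ) (σ := xa) fun c hc => X_σ (by revert c; revert y; decide +kernel)]
      interval_cases y <;> rfl
  have e : X * xc (ev σ (ex a)) * xc (ev σ (ex b)) * xc (ev σ (ex c)) = ev σ (ex (sdw a b c)) := by
    rw [← ev_ex, ← ev_ex, ← ev_ex, ← ev_ex, sdw, ev_append, ev_append, ev_append, cx _ (by simp; tauto),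
      cx _ (by simp; tauto), ev_append, ev_append, ev_rev wE_sq, ev_rev wE_sq, ev_rev wE_sq, xc, xc, xc]
    group
  have m : ev σ (ex (sdw a b c)) ∈ A2 := ev_ex _ ▸ ev_mem fun c _ => A2_c c
  have z2 : ZZ ≤ A2 := gen_le.2 (by
    simp only [List.forall_mem_cons]
    exact ⟨mul_one (σ 3) ▸ A2_c 6, mul_one (σ 11) ▸ A2_c 7, by simp⟩)
  have key : ∀ {M} v, ev σ v ∈ ZZ → ev sm v ∈ BB → chkT 65515 tm v M = true →
      chkT 65515 tm (ex (sdw a b c)) M = true → ev σ (ex (sdw a b c)) ∈ ZZ := fun v h1 h2 h3 h4 => by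
    have a1 := tab_of_chk sm_tab h3
    have a2 := tab_of_chk sm_tab h4
    have h5 : ev σ [3, 11] ∈ ZZ := ev_mem_gen (by decide)
    rcases eq_of_tab_BB a2.1 a1.1 (ev_mem fun c hc =>
      sm_BB (bit_lt (by decide) (inM_true h.2.1 c hc))) h2 (Tab.same a2.2 a1.2) with e | e
    · rwa [(A1_inj.cjg _).eq m (z2 h1) (by rw [π_ev, π_ev, e])]
    · rw [(A1_inj.cjg _).eq m (z2 (ZZ.mul_mem h5 h1)) (by
        rw [map_mul, π_ev, π_ev, π_ev, e, ← sm_z]; simp)]
      exact ZZ.mul_mem h5 h1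
  rw [e]
  rcases h.2.2 with h1 | h1
  · exact key [] ZZ.one_mem BB.one_mem (by decide +kernel) h1
  · exact key [11] (ev_mem_gen (by decide)) (ev_mem fun c hc => sm_BB (by simp at hc; omega))
      (by decide +kernel) h1

/-! ### The orbit of `X` -/

def RC (y : ℕ) (h : Γ) : Prop := h ∈ gen σ UL ∧ CRel D (π h) xo y
theorem RC.word {y y' : ℕ} {h : Γ} (a : RC y h) {w : List ℕ} (h1 : inM 7147 w = true)
    (h2 : ceq (cw tm w y) y' = true) : RC y' (h * ev σ w) :=
  ⟨Subgroup.mul_mem _ a.1 (U_w h1), by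
    rw [map_mul]
    exact a.2.mul (U_K (U_w h1)).comm (crel_w (allL_true.2 fun c hc => by
      rw [tb_eq]; exact sub_true (a := 7147) (by decide) (inM_true h1 c hc)) h2)⟩
theorem RC.one : RC xo 1 := ⟨Subgroup.one_mem _, by rw [map_one]; exact CRel.one _⟩
theorem RC.ex {w : List ℕ} {y : ℕ}
    (h : and2 (allL (ex w) (tb 15339)) (ceq (cw tm (ex w) xo) y) = true) : RC y (ev σ (ex w)) :=
  ⟨ev_mem fun c hc => by
    have h1 := inM_true (and2_true.1 h).1 c hc
    by_cases e : c = 13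
    · rw [e, σ_def]; exact U_w (by decide +kernel)
    · have h2 := bit_lt (n := 14) (by decide) h1
      exact U_c (by clear hc; revert h1 e; revert c; decide),
  crel_w (allL_true.2 fun c hc => by
    rw [tb_eq]; exact sub_true (a := 15339) (by decide) (inM_true (and2_true.1 h).1 c hc))
    (and2_true.1 h).2⟩

theorem forest : ∀ i < 1408, ∃ h, RC (f32 foV i) h ∧ X * xc h * X * xc h ∈ ZZ := by
  refine for_sound (Q := fun y => ∃ h, RC y h ∧ X * xc h * X * xc h ∈ ZZ) foa (fun i hi => ?_) ?_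
  · have s : ∀ {w}, chkSd w [] w = true → X * xc (ev σ (ex w)) * X * xc (ev σ (ex w)) ∈ ZZ :=
      fun h => by simpa [xc, ex] using seed h
    interval_cases i
    · exact ⟨1, fo0 ▸ RC.one, by simp [xc, X_sq, mul_assoc]⟩
    · exact ⟨_, RC.ex (w := [4]) (by decide +kernel), s (by decide +kernel)⟩
    · exact ⟨_, RC.ex (w := [4, 2, 1, 3, 2, 4]) (by decide +kernel), s (by decide +kernel)⟩
  · rintro _ hM x y ⟨h, h1, h2⟩ e
    obtain ⟨c, hc, rfl⟩ := List.mem_map.1 hM
    clear hM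
    refine ⟨_, h1.word (w := [c]) (by clear e; revert c; decide +kernel) e, ?_⟩
    have a := X_σ (c := c) (by clear e; revert c; decide)
    rw [show xa c = c by clear e a; revert c; decide +kernel, mul_inv_eq_iff_eq_mul] at a
    rw [← U_Z' (U_c (c := c) (by clear e a; revert c; decide)) h2] at h2
    rw [ev_cons, ev_nil, mul_one, xc_mul]
    convert h2 using 1
    calc _ = (σ c)⁻¹ * (σ c * X) * (σ c)⁻¹ * xc h * (σ c * X) * (σ c)⁻¹ * xc h * σ c := by group
      _ = _ := by rw [← a]; group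

theorem U_count : gen sm VL = Fx (gen sm UL) [xo] ∧ 36787322880 ≤ Nat.card (gen σ UL) ∧
    ∀ h ∈ gen σ UL, ∃ i < 1408, CRel D (π h) xo (f32 foV i) := by
  have h : ∀ i < 1408, ∃ h ∈ Fx (gen sm UL) [], CRel D h (f32 foV 0) (f32 foV i) := fun i hi => by
    obtain ⟨h, h1, -⟩ := forest i hi
    exact ⟨π h, ⟨⟨π_mem h1.1, U_K h1.1⟩, by simp⟩, fo0 ▸ h1.2⟩
  have c1 := Fx_step foc h
  have c2 := card_le_of_bd U_bd
  have c3 := U_bd.2
  rw [π_gen] at c2
  have : Finite (gen sm UL) :=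
    Finite.of_injective _ (Subgroup.inclusion_injective (sm_K (by decide +kernel)))
  have c4 := Subgroup.card_le_of_le (Fx_le' (H := gen sm UL) (bs := []))
  have c5 := V_card
  have c6 := Subgroup.card_le_of_le V_le
  have c7 := Fx_full foc h
  rw [fo0] at c1 c7
  exact ⟨Subgroup.eq_of_le_of_card_ge V_le (by omega), by omega, fun k hk =>
    c7 (by omega) _ ⟨⟨π_mem hk, U_K hk⟩, by simp⟩⟩

theorem U_of {w : List ℕ} (c : and2 (cP w 0 0) (cP w 26622 26622) = true) : ev σ w ∈ gen σ UL := by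
  have := S23_bd.1
  rw [Subgroup.eq_of_le_of_card_ge U_le (S23_bd.2.trans U_count.2.1)]
  exact S23_w c

theorem same {y : ℕ} {h k : Γ} (a : RC y h) (b : RC y k) : ∃ z ∈ ZZ, xc k = xc h * z := by
  have m := (gen σ UL).mul_mem b.1 ((gen σ UL).inv_mem a.1)
  have : π (k * h⁻¹) ∈ gen sm VL := U_count.1 ▸ ⟨⟨π_mem m, U_K m⟩, fun x hx => by
    rw [List.mem_singleton.1 hx, map_mul, map_inv]
    exact b.2.mul (D.KK.inv_mem (U_K a.1)).comm (a.2.inv (U_K a.1).comm)⟩
  obtain ⟨v, hv, e⟩ := π_gen VL ▸ this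
  obtain rfl := U_inj.eq (gen_mono (by decide) hv) m e
  refine ⟨_, V_X hv, ?_⟩
  rw [← U_Z' a.1 (V_X hv), xc, xc, xc]
  calc _ = h⁻¹ * X⁻¹ * X * (h * k⁻¹ * X * k * h⁻¹) * h := by group
    _ = _ := by rw [X_inv]; group

theorem xc_comm {h k : Γ} (hh : h ∈ gen σ UL) (hk : k ∈ gen σ UL) :
    xc h * xc k * xc h * xc k ∈ ZZ := by
  have m := (gen σ UL).mul_mem hk ((gen σ UL).inv_mem hh)
  obtain ⟨i, hi, c⟩ := U_count.2.2 _ m
  obtain ⟨a, h1, h2⟩ := forest i hi
  obtain ⟨z, hz, e⟩ := same h1 ⟨m, c⟩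
  have h3 := ZZ.mul_mem (ZZ.mul_mem h2 (xc_Z h1.1 (X_Z hz))) hz
  rw [← U_Z' hh h3] at h3
  convert h3 using 1
  have e1 : xc k = h⁻¹ * (xc a * z) * h := by rw [← e, xc_mul]; group
  rw [e1, xc]
  calc _ = h⁻¹ * (X * xc a * 1 * 1 * z * X * xc a * z) * h := by group
    _ = _ := by
      nth_rewrite 1 [← X_sq]
      calc _ = h⁻¹ * (X * xc a * X * 1 * X * z * X * xc a * z) * h := by group
        _ = _ := by rw [← xc_sq a]; group

/-! ### The extraspecial group -/

open Classical in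
noncomputable def eb (i : ℕ) : Γ := if i = 0 then σ 3 else if i = 1 then σ 11 else
  if h : ∃ h, RC (f32 kv (i - 2)) h then xc h.choose else 1
noncomputable def H0 : Subgroup Γ := gen eb (List.range 23)

theorem eb_cases (i : ℕ) : (eb i ∈ ZZ ∧ eb i * eb i = 1) ∨ ∃ h ∈ gen σ UL, eb i = xc h := by
  rw [eb]
  split_ifs with h1 h2 h3
  exacts [Or.inl ⟨mem_gen (by decide), σ_sq _⟩, Or.inl ⟨mem_gen (by decide), σ_sq _⟩,
    Or.inr ⟨_, h3.choose_spec.1, rfl⟩, Or.inl ⟨ZZ.one_mem, one_mul 1⟩]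

theorem eb_Z : gen eb [0, 1] = ZZ := le_antisymm (gen_le.2 (by
    simp only [List.forall_mem_cons]
    exact ⟨mem_gen (e := σ) (c := 3) (by decide), mem_gen (e := σ) (c := 11) (by decide), by simp⟩))
  (gen_le.2 (by
    simp only [List.forall_mem_cons]
    exact ⟨mem_gen (e := eb) (c := 0) (by decide), mem_gen (e := eb) (c := 1) (by decide), by simp⟩))
theorem Z_H0 : ZZ ≤ H0 := eb_Z ▸ gen_mono (by decide)

theorem H0_cv : Cv H0 ZZ (2 ^ 21) := by
  have hn : ∀ i, ∀ z ∈ ZZ, eb i * z * eb i ∈ ZZ := fun i z hz => by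
    rcases eb_cases i with h | ⟨h, hh, e⟩
    · exact ZZ.mul_mem (ZZ.mul_mem h.1 hz) h.1
    · rw [e]; exact xc_Z hh hz
  refine cv_two eb_Z (fun i => ?_) hn (fun i j => ?_) 21
  · rcases eb_cases i with h | ⟨h, hh, e⟩
    exacts [h.2, e ▸ xc_sq h]
  · rcases eb_cases j with h | ⟨h, hh, e⟩
    · exact ZZ.mul_mem (hn i _ h.1) h.1
    rcases eb_cases i with k | ⟨k, hk, e'⟩
    · simpa [mul_assoc] using ZZ.mul_mem k.1 (hn j _ k.1)
    · rw [e, e']; exact xc_comm hk hh

def Kn (y : ℕ) : Prop := ∀ h, RC y h → xc h ∈ H0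
theorem Kn.of {y : ℕ} {h : Γ} (a : RC y h) (b : xc h ∈ H0) : Kn y := fun k c => by
  obtain ⟨z, hz, e⟩ := same a c
  exact e ▸ H0.mul_mem b (Z_H0 hz)

def sh4 : List (List (List ℕ)) := [[[], [4, 2, 1, 3, 2, 4], [4, 2, 3, 1, 2, 4],
  [4, 2, 1, 3, 0, 2, 3, 4, 2, 1, 3, 0]], [[], [4], [4, 2, 3, 0, 1, 3, 2], [4, 2, 3, 0, 1, 3, 2, 4]]]

theorem known : ∀ i < 210, Kn (f32 kv i) := by
  intro i
  induction i using Nat.strong_induction_on with
  | _ i ih =>
    intro hi
    have := allN_true.1 stp_ok i hi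
    generalize nth (0, 0, [], []) stp (Nat.sub i 21) = x at this
    obtain ⟨s, p, w, js⟩ := x
    simp only [or2_true, ble_true, and2_true, allN_true, lit_e] at this
    rcases this with h | ⟨⟨hs, hp, hw⟩, h⟩
    · intro k hk
      have c : ∃ h, RC (f32 kv (i + 2 - 2)) h := ⟨k, hk⟩
      refine Kn.of c.choose_spec ?_ k hk
      have := mem_gen (e := eb) (l := List.range 23) (c := i + 2) (by simp; omega)
      rwa [eb, if_neg (by omega), if_neg (by omega), dif_pos c] at this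
    · have r : ∀ m < 4, RC (f32 kv (nth 0 js m)) (ev σ (ex (nth [] (nth [] sh4 s) m)) * ev σ w) :=
        fun m hm => (RC.ex (by clear h; revert m; revert s; decide +kernel)).word hw (h m hm).2
      have e : nth 0 js p = i := by
        have := (h p (by omega)).1
        rw [beq_true.2 rfl] at this
        exact beq_true.1 this
      refine Kn.of (e ▸ r p (by omega)) (four_mem
        (f := fun m => xc (ev σ (ex (nth [] (nth [] sh4 s) m)) * ev σ w)) (Z_H0 ?_) hp
        fun m hm c => ?_)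
      · have : X * xc (ev σ (ex (nth [] (nth [] sh4 s) 1))) * xc (ev σ (ex (nth [] (nth [] sh4 s) 2))) *
            xc (ev σ (ex (nth [] (nth [] sh4 s) 3))) ∈ ZZ :=
          seed (by clear h r; revert s; decide +kernel)
        rw [← U_Z' (U_w hw) this] at this
        have e0 : xc (ev σ (ex (nth [] (nth [] sh4 s) 0))) = X := by
          rw [show nth [] (nth [] sh4 s) 0 = [] by clear h r this; revert s; decide +kernel]
          simp [xc, ex]
        simp only [xc_mul, e0]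
        convert this using 1
        group
      · have := (h m hm).1
        rw [show Nat.beq m p = false from Bool.eq_false_iff.2 fun h => c (beq_true.1 h)] at this
        have a : nth 0 js m < i := ble_true.1 this
        exact ih _ a (by omega) _ (r m hm)

theorem H0_norm {h : Γ} (hh : h ∈ gen σ UL) : ∀ a ∈ H0, h * a * h⁻¹ ∈ H0 := by
  let S : Subgroup Γ :=
    { carrier := {h | (∀ a ∈ H0, h * a * h⁻¹ ∈ H0) ∧ ∀ a ∈ H0, h⁻¹ * a * h ∈ H0}
      one_mem' := by simp
      mul_mem' := fun {x y} hx hy => ⟨fun a ha => by simpa [mul_assoc] using hx.1 _ (hy.1 a ha),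
        fun a ha => by simpa [mul_assoc] using hy.2 _ (hx.2 a ha)⟩
      inv_mem' := fun {x} hx => ⟨by simpa using hx.2, by simpa using hx.1⟩ }
  refine ((gen_le (H := S)).2 (fun c hc => ?_) hh).1
  have : ∀ a ∈ H0, σ c * a * (σ c)⁻¹ ∈ H0 := conj_gen fun i hi => by
    rw [eb]
    have z : ∀ z ∈ ZZ, σ c * z * (σ c)⁻¹ ∈ H0 := fun z hz => by
      rw [← U_Z (mem_gen hc) hz, mul_inv_cancel_right]; exact Z_H0 hz
    split_ifs with h1 h2 h3
    · exact z _ (mem_gen (by decide))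
    · exact z _ (mem_gen (by decide))
    · have a := allL_true.1 (allN_true.1 tgt_ok (i - 2) (by simp at hi; omega)) c hc
      rw [lit_e] at a
      obtain ⟨j, hj, e⟩ := anyN_true a
      have := known j hj _ (h3.choose_spec.word (w := [c]) (by clear a e z; revert c; decide +kernel) e)
      rw [ev_cons, ev_nil, mul_one, xc_mul, σ_inv] at this
      rwa [σ_inv]
    · exact z _ ZZ.one_mem
  exact ⟨this, by simpa [σ_inv] using this⟩

theorem E0_bd : Bd (gen σ EL) (2 ^ 20 * 36787322880) := by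
  let W : Subgroup Γ :=
    { carrier := {g | ∃ a ∈ H0, a⁻¹ * g ∈ gen σ UL}
      one_mem' := ⟨1, H0.one_mem, by simp⟩
      mul_mem' := by
        rintro x y ⟨a, ha, hx⟩ ⟨b, hb, hy⟩
        exact ⟨_, H0.mul_mem ha (H0_norm hx b hb), by
          convert Subgroup.mul_mem _ hx hy using 1; group⟩
      inv_mem' := by
        rintro x ⟨a, ha, hx⟩
        exact ⟨_, H0_norm (Subgroup.inv_mem _ hx) _ (H0.inv_mem ha), by
          convert Subgroup.inv_mem _ hx using 1; group⟩ }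
  have hX : X ∈ H0 := by
    simpa [xc] using known 0 (by omega) 1 ((show f32 kv 0 = xo by decide +kernel) ▸ RC.one)
  have cv : Cv W (gen σ UL) (2 ^ 21) := by
    obtain ⟨C, h⟩ := H0_cv
    refine ⟨C, ?_⟩
    rintro g ⟨a, ha, hg⟩
    exact (h a ha).imp fun j hj => ⟨hj.1, by
      simpa [mul_assoc] using Subgroup.mul_mem _ (Z_le hj.2) hg⟩
  refine bd_half (W := W) (x := X) (gen_le.2 fun c hc => ?_) ⟨X, hX, by simp⟩ (fun h => ?_)
    ((cv.bd U_bd).mono (by norm_num))
  · rcases List.mem_cons.1 hc with rfl | hc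
    · have a : σ 13 ∈ gen σ UL := by rw [σ_def]; exact U_w (by decide +kernel)
      refine ⟨_, H0.mul_mem hX (H0_norm a X hX), ?_⟩
      rw [show σ 10 = _ from (X_σ (c := 13) rfl).symm, X_inv]
      convert a using 1; group
    · exact ⟨1, H0.one_mem, by simpa using mem_gen hc⟩
  · have a := comm_gen (t := σ 11) (fun c hc => comm_of_cox (n := 14) σ_sq σ_cox c 11 (by
      revert c; decide +kernel)) X h
    rw [← mul_inv_eq_iff_eq_mul, X_σ rfl] at a
    have b := congrArg π a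
    rw [π_σ, π_σ] at b
    exact zz_ne _ (sm_z.symm.trans ((congrArg (· * sm 11) b).trans (sm_sq 11)))

theorem τ_gen {L : List ℕ} (h : allL L (fun c => and2 (Nat.ble c 14) (memL (ta c) L)) = true) :
    ∀ k ∈ gen σ L, τ * k * τ ∈ gen σ L := fun k hk => by
  have := conj_gen (t := τ) (H := gen σ L) (fun c hc => by
    have := and2_true.1 (allL_true.1 h c hc)
    rw [τ_σ (Nat.lt_succ_of_le (ble_true.1 this.1))]
    exact mem_gen (memL_true.1 this.2)) k hk
  rwa [τ_inv] at this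

theorem τ_cv {L L' : List ℕ} (h : allL L (fun c => and2 (Nat.ble c 14) (memL (ta c) L)) = true)
    (h' : ∀ c ∈ L', c ∈ L ∨ c = 15) : Cv (gen σ L') (gen σ L) 2 :=
  (Cv.refl _).dbl τ_sq (τ_gen h) (dichotomy τ_sq (τ_gen h) fun c hc => (h' c hc).imp mem_gen
    fun e => by rw [e, σ15, τ_sq]; exact Subgroup.one_mem _)

theorem E_inj : Inj (gen σ KL) :=
  inj_of_bd ((τ_cv (by decide +kernel) (by decide)).bd E0_bd) (by rw [π_gen, gen_EE, card_EE]; norm_num)

end H29.YB
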