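import Mathlib
import Cfsg.Agent.H29.BM.G5
import Cfsg.Agent.H29.Tau

/-!
# Tools for computing with axes and their involutions
-/

set_option autoImplicit false
set_option maxRecDepth 100000
set_option linter.all false

namespace H29.YB
open H19 H29.BE H29.BP H29.BP.Dat H29.BM

def ck (X q : ℕ) : ℕ :=
  Nat.land (Nat.shiftRight X (Nat.mul (nat_lit 1024) q)) (ones (nat_lit 1024))
/-- Fields of 8 bits, read through blocks. -/
noncomputable def f8 (X i : ℕ) : ℕ := lit (Nat.shiftRight i (nat_lit 7)) fun q =>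
  Nat.land (Nat.shiftRight (ck X q) (Nat.mul (nat_lit 8) (Nat.land i (nat_lit 127)))) (nat_lit 255)
/-- Fields of 16 bits, read through blocks. -/
noncomputable def f16 (X i : ℕ) : ℕ := lit (Nat.shiftRight i (nat_lit 6)) fun q =>
  fld (ck X q) (Nat.land i (nat_lit 63))

theorem f16_eq (X : ℕ) : f16 X = fld X := by
  funext i
  rw [f16, lit_e, fld_eq, fld_eq]
  apply Nat.eq_of_testBit_eq
  intro r
  simp only [testBit_ent, ck, land_eq, shr_eq, Nat.testBit_and, Nat.testBit_shiftRight, testBit_ones]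
  have e1 : i &&& nat_lit 63 = i % 64 := Nat.and_two_pow_sub_one_eq_mod i 6
  have e2 : i >>> nat_lit 6 = i / 64 := Nat.shiftRight_eq_div_pow i 6
  rw [e1, e2]
  by_cases h : r < 16
  · have : Nat.mul (nat_lit 1024) (i / 64) + (16 * (i % 64) + r) = 16 * i + r := by
      change 1024 * (i / 64) + _ = _; omega
    rw [this, decide_eq_true h, decide_eq_true (show 16 * (i % 64) + r < nat_lit 1024 by
      change _ < 1024; omega)]
    simp
  · simp [h]

/-- `u` maps the vectors `l` where `v` maps the vectors `l'`. -/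
noncomputable def cL (l l' : List (ℕ → ℕ)) (u v : List ℕ) : Bool :=
  chkG E S0 7 (Nat.succ l.length) (f16 z0 :: l) (f16 z1 :: l') u v
    fun P F t F' t' => eqv P P.b E.n F t F' t'

theorem cL_sound {l l' : List (ℕ → ℕ)} {u v : List ℕ} (h : cL l l' u v = true) (i : ℕ)
    (hi : i < l.length) :
    ev g u • vc (l.getD i fun _ => 0) = ev g v • vc (l'.getD i fun _ => 0) := by
  obtain ⟨P, F, t1, F', t2, hP, hC, h, h1, h2⟩ := chkG_sound E_ok S0_wf h
  rw [← mul_one P.b] at h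
  have := eqv_sound hP h1 h2 h i (by rw [hC]; simp; omega)
  rw [add_comm 1 i] at this
  exact this

theorem cL1 {a b : ℕ → ℕ} {u v : List ℕ} (h : cL [a] [b] u v = true) :
    ev g u • vc a = ev g v • vc b := cL_sound h 0 (by simp)
theorem cL2 {a b a' b' : ℕ → ℕ} {u v : List ℕ} (h : cL [a, b] [a', b'] u v = true) :
    ev g u • vc a = ev g v • vc a' ∧ ev g u • vc b = ev g v • vc b' :=
  ⟨cL_sound h 0 (by simp), cL_sound h 1 (by simp)⟩

noncomputable def cI (a b : ℕ → ℕ) (p q : ℕ) : Bool :=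
  Nat.beq (Nat.add (sumN 4371 fun i => lit (a i) fun x => lit (b i) fun y =>
      Nat.mul (f16 W0 i) (Nat.add (Nat.mul (Nat.sub 256 x) (Nat.sub 256 y)) (Nat.mul x y))) (Nat.mul 2 q))
    (Nat.add 144048128 (Nat.mul 2 p))

def bnd8 (a : ℕ → ℕ) : Prop := ∀ i < 4371, a i ≤ 256

theorem f8_bnd (X : ℕ) : bnd8 (f8 X) := fun i _ => by
  rw [f8, lit_e, land_eq]
  exact Nat.and_le_right.trans (by decide)

theorem cI_sound {a b : ℕ → ℕ} (ha : bnd8 a) (hb : bnd8 b) {p q : ℕ} (h : cI a b p q = true) :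
    D.B (vc a) (vc b) = (p : ℚ) - q := by
  have hW : sumN 4371 (f16 W0) = 4396 := by decide +kernel
  simp only [cI, beq_true, sumN_eq, Nat.add_eq, Nat.mul_eq, f16_eq, fld_eq, lit_e, Nat.sub_eq] at h hW
  have h2 := congrArg (Nat.cast : ℕ → ℚ) h
  have h3 := congrArg (Nat.cast : ℕ → ℚ) hW
  push_cast at h2 h3
  have : 2 * D.B (vc a) (vc b) + 32768 * ∑ i ∈ Finset.range 4371, (ent 16 W0 i : ℚ) =
      ∑ i ∈ Finset.range 4371, (ent 16 W0 i : ℚ) *
        (((256 - a i : ℕ) : ℚ) * ((256 - b i : ℕ) : ℚ) + a i * b i) := by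
    rw [Dat.B, form, Finset.mul_sum, Finset.mul_sum, ← Finset.sum_add_distrib]
    refine Finset.sum_congr rfl fun i hi => ?_
    rw [vc, vc, ext_vec _ (Finset.mem_range.1 hi), ext_vec _ (Finset.mem_range.1 hi),
      Nat.cast_sub (ha i (Finset.mem_range.1 hi)), Nat.cast_sub (hb i (Finset.mem_range.1 hi))]
    change 2 * ((ent 16 W0 i : ℚ) * _) + _ = _
    push_cast; ring
  rw [h3] at this
  linarith

theorem xq_bnd (k : ℕ) (c : Bool) : bnd8 (xq k c) := fun i _ => by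
  have h : allN 23 (fun j => sub (Ψ j) (Nat.mul (gone 16 4371) 255)) = true := by decide +kernel
  rw [xq, xr, rec_ite, rec_ite]
  split_ifs
  · by_cases c1 : Nat.sub i 4348 < 23
    · have h1 := allN_true.1 h _ c1
      rw [fld_eq, ← beq_true.1 h1, land_eq, ent_land, gone_eq (by omega), Nat.mul_eq, cst_mul,
        ent_cst (by norm_num)]
      refine Nat.and_le_right.trans ?_
      split_ifs <;> omega
    · rw [Ψ, nth_default _ (by simpa using c1), fld_eq]; simp [ent]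
  all_goals omega

noncomputable def w16 : ℕ → ℕ → ℕ :=
  nth (xq 4304 false) [xq 4304 false, f16 wl1, f16 wl2, f16 wl3, f16 wl4]
theorem w16_eq : w16 = wr := by simp only [w16, f16_eq]; rfl
theorem vc_w16 (j : ℕ) : vc (w16 j) = wv j := by rw [w16_eq]; rfl

theorem w16_bnd {j : ℕ} (hj : j < 5) : bnd8 (w16 j) := fun i hi => by
  have h : allN 5 (fun m => allN 4371 fun i => Nat.ble (w16 m i) 256) = true := by decide +kernel
  exact ble_true.1 (allN_true.1 (allN_true.1 h j hj) i hi)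

theorem vc_ng {a : ℕ → ℕ} (h : bnd8 a) : vc (ngr a) = - vc a := by
  refine eq_of_ext fun i hi => ?_
  rw [ext_neg, vc, vc, ext_vec _ hi, ext_vec _ hi, ngr, Nat.sub_eq, Nat.cast_sub (h i hi)]
  push_cast; ring

/-! ### Pairs of axes -/

theorem fix_of_adj {x y : VV} (hx : x ∈ XX) (hy : y ∈ XX) (a : adj x y) : dl x • y = y := by
  obtain ⟨h, hh, rfl⟩ := XX_orb hx
  have := fix_adj (GP_XX (GP.inv_mem hh) hy) (by rw [← adj_smul hh, smul_inv_smul]; exact a)
  rw [dl_u hh, mul_smul, mul_smul, this, smul_inv_smul]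

theorem dl_fix {x : VV} (hx : x ∈ XX) : dl x • x = x := by
  obtain ⟨h, hh, rfl⟩ := XX_orb hx
  rw [dl_u hh, mul_smul, mul_smul, inv_smul_smul, d_u]

theorem dl_inv {x : VV} (hx : x ∈ XX) : (dl x)⁻¹ = dl x := inv_eq_of_mul_eq_one_right (dl_sq hx)

theorem comm_of_fix {h : GG} (hh : h ∈ GP) {y : VV} (hy : y ∈ XX) (e : h • y = y) :
    h * dl y = dl y * h := by
  have := dl_smul hh hy
  rw [e, eq_mul_inv_iff_mul_eq] at this
  exact this.symm

theorem pm_of_comm {h : GG} (hh : h ∈ GP) {y : VV} (hy : y ∈ XX) (e : h * dl y = dl y * h) :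
    h • y = y ∨ h • y = -y :=
  dl_inj hy (GP_XX hh hy) (by rw [dl_smul hh hy, e, mul_inv_cancel_right])

theorem adj_of {x y : VV} (h : D.B x y = 1024) : adj x y := by rw [adj, h]
theorem adj_of' {x y : VV} (h : D.B x y = -1024) : adj x y := by rw [adj, h]; norm_num
theorem B_comm (x y : VV) : D.B x y = D.B y x := form_comm _ _
theorem B_neg (x y : VV) : D.B x (-y) = - D.B x y := form_neg_right _ _
theorem neg_B (x y : VV) : D.B (-x) y = - D.B x y := form_neg_left _ _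
theorem adj_comm {x y : VV} : adj x y ↔ adj y x := by rw [adj, adj, B_comm]

theorem ord2 {x y : VV} (hx : x ∈ XX) (hy : y ∈ XX) (a : adj x y) : (dl x * dl y) ^ 2 = 1 := by
  have := comm_of_fix (dl_GP hx) hy (fix_of_adj hx hy a)
  rw [sq, mul_assoc, ← mul_assoc (dl y), ← this, mul_assoc, dl_sq hy, mul_one, dl_sq hx]

theorem sx3 : sx 3 = ax (16 * 2048) false := vc_xq (by omega) false
theorem sx_XX {m : ℕ} (hm : m < 5) : sx m ∈ XX := by
  have a : ∀ k c, pt k → vc (xq k c) ∈ XX := fun k c hk => by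
    rw [vc_xq hk.2]; exact ax_XX (dom_even hk) c
  interval_cases m
  exacts [a _ _ p0, a _ _ p0, a _ _ ⟨by omega, by omega⟩, a _ _ ⟨by omega, by omega⟩, a _ _ p0]

theorem pair3 {x y : VV} (hx : x ∈ XX) (hy : y ∈ XX) (e : D.B x y = 256) :
    ∃ h ∈ GP, h • x = sx 3 ∧ h • y = sy 3 := by
  obtain ⟨h, hh, m, hm, e1, e2⟩ := pairs hx hy
  obtain ⟨h0, h1, h2, h3, h4⟩ := B_std
  rw [← GP_iso hh, e1] at e
  rcases e2 with e2 | e2 <;> rw [e2] at e
  · interval_cases m <;> first | exact ⟨h, hh, e1, e2⟩ | linarith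
  · rw [B_neg] at e
    interval_cases m <;> linarith

theorem braid {x y : VV} (hx : x ∈ XX) (hy : y ∈ XX) (e : D.B x y = 256) :
    dl x • y = dl y • x := by
  obtain ⟨h, hh, e1, e2⟩ := pair3 hx hy e
  have c : cL [w16 2] [xq 2048 false] [10] [25, 10, 25] = true := by decide +kernel
  have c1 := cL1 c
  rw [vc_w16, vc_xq (by omega), ← sx3] at c1
  have a1 : dl (sx 3) = s := (dl_x 2048).trans cl_s
  have a2 : dl (sy 3) = _ := dl_w2
  have c2 : dl (sx 3) • sy 3 = dl (sy 3) • sx 3 := by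
    rw [a1, a2, show sy 3 = wv 2 from rfl]; simpa [s, t, mul_assoc] using c1
  rw [← e1, ← e2, dl_smul hh hx, dl_smul hh hy] at c2
  simpa [mul_smul] using c2

theorem braid' {x y : VV} (hx : x ∈ XX) (hy : y ∈ XX) (e : D.B x y = 256) :
    dl x * dl y * dl x = dl y * dl x * dl y := by
  have := congrArg dl (braid hx hy e)
  rwa [dl_smul (dl_GP hx) hy, dl_smul (dl_GP hy) hx, dl_inv hx, dl_inv hy] at this

theorem ord3 {x y : VV} (hx : x ∈ XX) (hy : y ∈ XX) (e : D.B x y = 256) :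
    (dl x * dl y) ^ 3 = 1 := by
  calc (dl x * dl y) ^ 3 = dl x * dl y * dl x * (dl y * dl x * dl y) := by simp [pow_succ, mul_assoc]
    _ = dl y * (dl x * (dl y * dl y) * dl x) * dl y := by rw [braid' hx hy e]; group
    _ = 1 := by rw [dl_sq hy, mul_one, dl_sq hx, mul_one, dl_sq hy]

/-! ### Elements of `KK` and their tables -/

theorem comm_P {h : GG} (hz : h * D.z = D.z * h) (e : ∀ i < 22, h * D.P (2 ^ i) = D.P (2 ^ i) * h)
    (x : ℕ) : h * D.P x = D.P x * h := by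
  refine Pu_induction D.cl (p := fun a => h * a = a * h) (by simp) (fun i hi a ha => ?_) x
  have : h * Pu D.cl (2 ^ i) = Pu D.cl (2 ^ i) * h := by
    by_cases c : i < 22
    · exact e i c
    · obtain rfl : i = 22 := by omega
      exact hz
  rw [← mul_assoc, this, mul_assoc, ha, mul_assoc]

theorem eq_of_tab {a b : GG} (ha : a ∈ D.KK) (hb : b ∈ D.KK)
    (e : ∀ i < 22, ∃ y, D.P (2 ^ i) * a = a * D.P y ∧ D.P (2 ^ i) * b = b * D.P y) :
    ∃ c, a * b⁻¹ = D.P (zb c) ∨ a * b⁻¹ = - D.P (zb c) := by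
  have h := D.KK.mul_mem ha (D.KK.inv_mem hb)
  refine D_ok.centQ tr h (comm_P h.comm fun i hi => ?_)
  obtain ⟨y, e1, e2⟩ := e i hi
  rw [← mul_assoc, e1, mul_assoc, mul_assoc]
  congr 1
  rw [inv_mul_eq_iff_eq_mul, ← mul_assoc, ← e2, mul_inv_cancel_right]

/-- An axis that is moved by the central involution. -/
def Gn (y : VV) : Prop := y ∈ XX ∧ qz y ≠ 7168 ∧ qz y ≠ -7168

theorem gn_of {j : ℕ} (h2 : 2 ≤ j) (h5 : j < 5) {y : VV} (hy : y ∈ XO j) : Gn y := by
  refine ⟨⟨j, h5, hy⟩, ?_⟩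
  interval_cases j
  · rw [qz_of zw2 _ hy]; norm_num
  · rw [qz_of zw3 _ hy]; norm_num
  · rw [qz_of zw4 _ hy]; norm_num

theorem P_zb_false : D.P (zb false) = 1 := Pu_zero _

theorem eq_of_tab_fix {a b : GG} (ha : a ∈ D.KK) (hb : b ∈ D.KK)
    (e : ∀ i < 22, ∃ y, D.P (2 ^ i) * a = a * D.P y ∧ D.P (2 ^ i) * b = b * D.P y)
    {y : VV} (hy : Gn y) (f : a • y = b • y) : a = b := by
  have h1 : (a * b⁻¹) • b • y = b • y := by rw [mul_smul, inv_smul_smul, f]
  have h2 := B_self (GP_XX (KK_GP hb) hy.1)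
  have h3 := qz_smul hb y
  obtain ⟨c, hc | hc⟩ := eq_of_tab ha hb e <;> rw [hc] at h1 <;> cases c
  · rw [P_zb_false] at hc; exact mul_inv_eq_one.1 hc
  · exact absurd (by rw [← h3, qz]; exact (congrArg _ h1).trans h2) hy.2.1
  · rw [P_zb_false, neg_one_smul''] at h1
    nth_rewrite 2 [← h1] at h2
    rw [B_neg, B_self (GP_XX (KK_GP hb) hy.1)] at h2
    norm_num at h2
  · refine absurd ?_ hy.2.2
    rw [neg_smul'', neg_eq_iff_eq_neg] at h1
    rw [← h3, qz]
    exact (congrArg _ h1).trans (by rw [B_neg, h2])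

/-- In the simple group the sign is fixed. -/
theorem eq_of_tab_BB {a b : GG} (ha : a ∈ D.KK) (hb : b ∈ D.KK) (ha' : a ∈ BB) (hb' : b ∈ BB)
    (e : ∀ i < 22, ∃ y, D.P (2 ^ i) * a = a * D.P y ∧ D.P (2 ^ i) * b = b * D.P y) :
    a = b ∨ a = D.z * b := by
  obtain ⟨c, hc | hc⟩ := eq_of_tab ha hb e
  · cases c
    · rw [P_zb_false] at hc; exact Or.inl (mul_inv_eq_one.1 hc)
    · exact Or.inr (mul_inv_eq_iff_eq_mul.1 hc)
  · have := BB.mul_mem (BB.mul_mem ha' (BB.inv_mem hb')) (BB.inv_mem (P_BB (zb c)))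
    rw [hc, ← neg_mul', mul_inv_cancel] at this
    exact absurd this neg_BB

noncomputable def chkT (m : ℕ) (cm : ℕ → ℕ) (w : List ℕ) (M : ℕ) : Bool :=
  and2 (inM m w) (allN 23 fun r => Nat.beq (cw cm w (bit r)) (f32 M r))

theorem bit_eq (r : ℕ) : bit r = 2 ^ r := by rw [bit, shl_eq, Nat.one_shiftLeft]

theorem tab_of_chk {e : ℕ → GG} {m : ℕ} {cm : ℕ → ℕ}
    (h : ∀ c, m.testBit c = true → e c ∈ D.KK ∧ Tab D (e c) (cm c)) {w : List ℕ} {M : ℕ}
    (c : chkT m cm w M = true) : ev e w ∈ D.KK ∧ Tab D (ev e w) M := by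
  simp only [chkT, and2_true, allN_true, beq_true, bit_eq] at c
  exact ⟨mem_of_inM (fun a ha => (h a ha).1) c.1, fun i hi => by
    rw [← c.2 i hi]; exact cw_sound w (fun a ha => (h a (inM_true c.1 a ha)).2) _⟩

theorem km_tab (c : ℕ) (h : km.testBit c = true) : g c ∈ D.KK ∧ Tab D (g c) (cm c) :=
  ⟨(lok_all c h).1, (lok_all c h).2.2⟩

theorem Tab.same {a b : GG} {M : ℕ} (ha : Tab D a M) (hb : Tab D b M) :
    ∀ i < 22, ∃ y, D.P (2 ^ i) * a = a * D.P y ∧ D.P (2 ^ i) * b = b * D.P y :=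
  fun i hi => ⟨_, ha i (by omega), hb i (by omega)⟩

def w1 : List ℕ := [22, 21, 15, 30]

theorem dl_w1' : dl (wv 1) = ev g w1 := by
  have h : ∀ c k, ev g [25, c] = ev g (k ++ [25]) → t * g c = ev g k * t := fun c k h => by
    rw [← tc_conj h, inv_mul_cancel_right]
  have e : ev g [19, 18, 12, 11, 22, 21, 19, 18, 13, 12, 30, 31, 32, 33, 22, 21, 13, 12, 11, 31, 34, 35, 36, 22, 14, 13, 11, 32, 34, 37, 38, 22, 13, 12, 11, 30, 35, 37, 39, 22, 15, 14, 30, 33, 36, 38, 39] = ev g w1 := eqM (by decide +kernel)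
  rw [dl_w1, show D.P (D.cl 3072) = ev g [19, 18, 12, 11, 9, 8, 7, 6, 5] by
    rw [← ev_pw', show pw (D.cl 3072) = [19, 18, 12, 11, 9, 8, 7, 6, 5] by decide +kernel], ← e]
  simp only [ev_cons _ _ (_ :: _), ev_cons _ 5 [], ev_nil, mul_one, ← mul_assoc]
  rw [h _ _ tc19, mul_assoc _ t, h _ _ tc18, ← mul_assoc, mul_assoc _ t, h _ _ tc12, ← mul_assoc,
    mul_assoc _ t, h _ _ tc11, ← mul_assoc, mul_assoc _ t, h _ _ tc9, ← mul_assoc, mul_assoc _ t,
    h _ _ tc8, ← mul_assoc, mul_assoc _ t, h _ _ tc7, ← mul_assoc, mul_assoc _ t, h _ _ tc6,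
    ← mul_assoc, mul_assoc _ t, h _ _ tc5, ← mul_assoc, mul_assoc _ t, t_sq]
  simp only [ev_cons, ev_nil, mul_one, mul_assoc]

noncomputable def chkR (k : List ℕ) (I M : ℕ) : Bool :=
  and2 (inM km k) (allN 23 fun r => lit (f32 I r) fun y => and2 (Nat.beq (cw cm k y) (bit r))
    (Nat.beq (cw cm (w1 ++ k) y) (f32 M r)))

/-- An axis of the second orbit, with the table of its involution. -/
theorem red1 {a : ℕ → ℕ} {k : List ℕ} {I M : ℕ} (h : cL [a] [w16 1] k [] = true)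
    (c : chkR k I M = true) : vc a ∈ XO 1 ∧ dl (vc a) ∈ D.KK ∧ Tab D (dl (vc a)) M := by
  simp only [chkR, and2_true, allN_true, beq_true, bit_eq, lit_e] at c
  have h1 := cL1 h
  rw [ev_nil, one_smul, vc_w16] at h1
  have hk := km_mem c.1
  have h2 : vc a ∈ XO 1 := (smul_XO hk).1 (h1 ▸ wv_mem 1)
  have h3 := dl_smul (KK_GP hk) (x := vc a) ⟨1, by omega, h2⟩
  have hw : inM km w1 = true := by decide +kernel
  rw [h1, dl_w1', eq_mul_inv_iff_mul_eq] at h3
  refine ⟨h2, ?_, fun i hi => ?_⟩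
  · rw [show dl (vc a) = (ev g k)⁻¹ * (ev g w1 * ev g k) by rw [h3]; simp]
    exact D.KK.mul_mem (D.KK.inv_mem hk) (D.KK.mul_mem (km_mem hw) hk)
  · have a1 := Ctx.cj (C := C) c.1 (f32 I i)
    have a2 := Ctx.cj (C := C) (w := w1 ++ k) (allL_true.2 fun x hx =>
      (List.mem_append.1 hx).elim (allL_true.1 hw x) (allL_true.1 c.1 x)) (f32 I i)
    change _ * ev g _ = ev g _ * D.P (cw cm _ _) at a1 a2
    rw [(c.2 i hi).1] at a1
    rw [(c.2 i hi).2, ev_append, h3, ← mul_assoc, a1, mul_assoc, mul_assoc, mul_right_inj] at a2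
    exact a2

theorem redj {a : ℕ → ℕ} {k : List ℕ} {j : ℕ} (h : cL [a] [w16 j] k [] = true)
    (c : inM km k = true) : vc a ∈ XO j := by
  have h1 := cL1 h
  rw [ev_nil, one_smul, vc_w16] at h1
  exact (smul_XO (km_mem c)).1 (h1 ▸ wv_mem j)

/-- Two involutions of axes with the same table. -/
theorem dl_eq_of_tab {x y : VV} (hx : x ∈ XX) (hy : y ∈ XO 1) (h1 : dl x ∈ D.KK) (h2 : dl y ∈ D.KK)
    {M : ℕ} (a : Tab D (dl x) M) (b : Tab D (dl y) M) : dl x = dl y :=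
  (eq_of_tab_BB h1 h2 (dl_BB hx) (dl_BB ⟨1, by omega, hy⟩) (Tab.same a b)).resolve_right
    (not_X1 hy hx)

end H29.YB
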