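import Mathlib
import Cfsg.Agent.H29.YB.A0

/-!
# Orbits on classes, lower bounds for subgroups of `KK`, all positions of a pair of axes
-/

set_option autoImplicit false
set_option maxRecDepth 100000
set_option linter.all false

namespace H29.YB
open H19 H29.BE H29.BP H29.BP.Dat H29.BM

noncomputable def chkTree (Ms : List ℕ) (V Pp Gg n : ℕ) : Bool :=
  allN n fun i => or2 (Nat.beq i 0) (lit (fld Pp i) fun p => lit (fld Gg i) fun c =>
    and2 (Nat.ble (Nat.succ p) i) (and2 (Nat.ble (Nat.succ c) Ms.length)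
      (lit (f32 V p) fun x => ceq (cj (nth 0 Ms c) x) (f32 V i))))

theorem tab_crel {h : GG} {M x y : ℕ} (a : Tab D h M) (e : ceq (cj M x) y = true) : CRel D h x y :=
  CRel.of_eq (a.cj x) e

theorem tree_sound {H : Subgroup GG} (hH : H ≤ D.KK) {Ms : List ℕ}
    (hM : ∀ M ∈ Ms, ∃ h ∈ H, Tab D h M) {V Pp Gg n : ℕ} (c : chkTree Ms V Pp Gg n = true) :
    ∀ i < n, ∃ h ∈ H, CRel D h (f32 V 0) (f32 V i) := by
  intro i
  induction i using Nat.strong_induction_on with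
  | _ i ih =>
    intro hi
    have := allN_true.1 c i hi
    simp only [or2_true, beq_true, lit_e, and2_true, ble_true] at this
    rcases this with rfl | ⟨h1, h2, h3⟩
    · exact ⟨1, H.one_mem, CRel.one _⟩
    · obtain ⟨h, hh, a⟩ := ih _ h1 (by omega)
      obtain ⟨k, hk, b⟩ := hM (nth 0 Ms (fld Gg i)) (by
        rw [nth_eq, List.getD_eq_getElem _ _ h2]; exact List.getElem_mem _)
      exact ⟨h * k, H.mul_mem hh hk, a.mul (hH hk).comm (tab_crel b h3)⟩

noncomputable def chkSort (V S n : ℕ) : Bool :=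
  allN n fun j => lit (fld S j) fun a => and2 (Nat.ble (Nat.succ a) n) (or2 (Nat.beq (Nat.succ j) n)
    (Nat.ble (Nat.succ (Nat.land (f32 V a) 4194303)) (Nat.land (f32 V (fld S (Nat.succ j))) 4194303)))

theorem ce_land {x y : ℕ} (e : ce x y) : Nat.land x 4194303 = Nat.land y 4194303 := by
  apply Nat.eq_of_testBit_eq
  intro r
  rw [land_eq, land_eq, show 4194303 = 2 ^ 22 - 1 from rfl]
  simp only [Nat.testBit_and, Nat.testBit_two_pow_sub_one]
  by_cases c : r < 22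
  · rw [ce_iff.1 e r c]
  · simp [c]

theorem sort_sound {V S n : ℕ} (c : chkSort V S n = true) : (∀ j < n, fld S j < n) ∧
    ∀ i < n, ∀ j < n, ce (f32 V (fld S i)) (f32 V (fld S j)) → i = j := by
  simp only [chkSort, allN_true, lit_e, and2_true, ble_true, or2_true, beq_true] at c
  refine ⟨fun j hj => (c j hj).1, ?_⟩
  have h2 : ∀ j < n, ∀ i < j, Nat.land (f32 V (fld S i)) 4194303 <
      Nat.land (f32 V (fld S j)) 4194303 := by
    intro j hj
    induction j with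
    | zero => intro i hi; omega
    | succ j ih =>
      intro i hi
      have := ((c j (by omega)).2.resolve_left (by omega))
      rcases Nat.lt_succ_iff_lt_or_eq.1 hi with c | rfl
      · exact (ih (by omega) i c).trans this
      · exact this
  intro i hi j hj e
  have := ce_land e
  rcases lt_trichotomy i j with c | c | c
  · have := h2 j hj i c; omega
  · exact c
  · have := h2 i hi j c; omega

theorem sort_surj {V S n : ℕ} (c : chkSort V S n = true) {i j : ℕ} (hi : i < n) (hj : j < n)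
    (e : ce (f32 V i) (f32 V j)) : i = j := by
  obtain ⟨h1, h2⟩ := sort_sound c
  let f : Fin n → Fin n := fun j => ⟨fld S j, h1 j j.2⟩
  have hf : Function.Injective f := fun a b h => Fin.ext (h2 a a.2 b b.2 (by
    rw [show fld S a = fld S b from congrArg Fin.val h]; exact ce.refl _))
  obtain ⟨a, ha⟩ := Finite.surjective_of_injective hf ⟨i, hi⟩
  obtain ⟨b, hb⟩ := Finite.surjective_of_injective hf ⟨j, hj⟩
  have ha' : fld S a = i := congrArg Fin.val ha
  have hb' : fld S b = j := congrArg Fin.val hb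
  rw [← ha', ← hb', h2 a a.2 b b.2 (by rw [ha', hb']; exact e)]

/-- The elements of `H` that fix the classes of the list. -/
def Fx (H : Subgroup GG) (bs : List ℕ) : Subgroup GG where
  carrier := {h | (h ∈ H ∧ h ∈ D.KK) ∧ ∀ b ∈ bs, CRel D h b b}
  one_mem' := ⟨⟨H.one_mem, D.KK.one_mem⟩, fun _ _ => CRel.one _⟩
  mul_mem' := fun a b => ⟨⟨H.mul_mem a.1.1 b.1.1, D.KK.mul_mem a.1.2 b.1.2⟩,
    fun x hx => (a.2 x hx).mul b.1.2.comm (b.2 x hx)⟩
  inv_mem' := fun a => ⟨⟨H.inv_mem a.1.1, D.KK.inv_mem a.1.2⟩, fun x hx => (a.2 x hx).inv a.1.2.comm⟩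

theorem Fx_le {H : Subgroup GG} {bs : List ℕ} : Fx H bs ≤ D.KK := fun _ h => h.1.2
theorem Fx_le' {H : Subgroup GG} {bs : List ℕ} : Fx H bs ≤ H := fun _ h => h.1.1
instance (H : Subgroup GG) (bs : List ℕ) : Finite (Fx H bs) :=
  Finite.of_injective _ (Subgroup.inclusion_injective Fx_le)

theorem Fx_step {H : Subgroup GG} {bs : List ℕ} {V S n : ℕ} (c : chkSort V S n = true)
    (h : ∀ i < n, ∃ h ∈ Fx H bs, CRel D h (f32 V 0) (f32 V i)) :
    n * Nat.card (Fx H (f32 V 0 :: bs)) ≤ Nat.card (Fx H bs) := by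
  choose f hf1 hf2 using h
  let φ : Fin n × Fx H (f32 V 0 :: bs) → Fx H bs := fun x => ⟨x.2.1 * f x.1 x.1.2,
    (Fx H bs).mul_mem ⟨x.2.2.1, fun b hb => x.2.2.2 b (by simp [hb])⟩ (hf1 _ _)⟩
  have : Function.Injective φ := by
    rintro ⟨i, a⟩ ⟨j, b⟩ e
    have e1 : a.1 * f i i.2 = b.1 * f j j.2 := congrArg Subtype.val e
    have a1 := (a.2.2 _ (by simp)).mul (hf1 i i.2).1.2.comm (hf2 i i.2)
    have b1 := (b.2.2 _ (by simp)).mul (hf1 j j.2).1.2.comm (hf2 j j.2)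
    rw [e1] at a1
    obtain rfl : i = j := Fin.ext (sort_surj c i.2 j.2 (a1.uniq b1))
    rw [Subtype.ext (mul_right_cancel e1)]
  simpa using Nat.card_le_card_of_injective φ this

/-- One level: words with their tables. -/
noncomputable def chkLv (m hm : ℕ) (cm : ℕ → ℕ) (bs : List ℕ) (ws : List (List ℕ × ℕ)) : Bool :=
  allL ws fun x => and2 (inM hm x.1) (and2 (chkT m cm x.1 x.2) (allL bs fun b => ceq (cj x.2 b) b))

theorem Fx_lev {e : ℕ → GG} {m hm : ℕ} {cm : ℕ → ℕ}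
    (h : ∀ c, m.testBit c = true → e c ∈ D.KK ∧ Tab D (e c) (cm c)) {H : Subgroup GG}
    (hH : ∀ c, hm.testBit c = true → e c ∈ H) {bs : List ℕ} {ws : List (List ℕ × ℕ)}
    {V Pp Gg S n : ℕ} (c1 : chkLv m hm cm bs ws = true)
    (c2 : chkTree (ws.map Prod.snd) V Pp Gg n = true) (c3 : chkSort V S n = true) :
    n * Nat.card (Fx H (f32 V 0 :: bs)) ≤ Nat.card (Fx H bs) := by
  refine Fx_step c3 (tree_sound Fx_le (fun M hM => ?_) c2)
  obtain ⟨x, hx, rfl⟩ := List.mem_map.1 hM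
  have := allL_true.1 c1 x hx
  simp only [and2_true, allL_true] at this
  obtain ⟨a, b⟩ := tab_of_chk h this.2.1
  exact ⟨_, ⟨⟨mem_of_inM hH this.1, a⟩, fun y hy => tab_crel b (this.2.2 y hy)⟩, b⟩

theorem P_ax (x : ℕ) {p : ℕ} (hp : dom p) (c : Bool) :
    D.P x • ax p c = ax p (xor c (sp x (D.cl (p / 16)))) := by
  rw [ax, ax, BP.x1, BP.x1, smul_add', (D_ok.rel_P x hp).1, smul_smul', smul_smul']
  change _ + _ • _ • PL D.cl x _ = _
  rw [PL_bv_pt _ _ hp.2.1 hp.2.2, smul_comm (64 : ℚ), smul_smul, sn_xor]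

theorem P_u (x : ℕ) : D.P x • u = ax (16 * 4304) (x.testBit 0) := by
  rw [P_ax x (dom_even p0), div_even, cl0, sp_pow_hi x (j := 0) (by omega), Bool.false_xor]

/-- The stabiliser of the first axis in `KK`. -/
noncomputable def EE : Subgroup GG := D.KK ⊓ MulAction.stabilizer GG u

theorem card_EE : Nat.card EE = 18393661440 * 2 ^ 22 := by
  have h1 := card_orbit_stab D.KK u
  rw [card_KK, u, ← wv0, show MulAction.orbit D.KK (wv 0) = XO 0 from rfl, card_X0, wv0] at h1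
  change _ = _ * Nat.card EE at h1
  omega

theorem P_even {H : Subgroup GG} (hz : D.z ∈ H) (h : ∀ i < 22, i ≠ 0 → D.P (2 ^ i) ∈ H) {x : ℕ}
    (hx : x.testBit 0 = false) : D.P x ∈ H := by
  have : ∀ n ≤ 23, D.P (x % 2 ^ n) ∈ H := by
    intro n hn
    induction n with
    | zero => simpa [Nat.mod_one, Dat.P, Pu_zero] using H.one_mem
    | succ i ih =>
      rw [mod_succ_bit]
      split_ifs with c
      · rw [Dat.P, ← Pu_pow_mul]
        refine H.mul_mem ?_ (ih (by omega))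
        by_cases c1 : i < 22
        · exact h i c1 (by rintro rfl; simp_all)
        · obtain rfl : i = 22 := by omega
          exact hz
      · exact ih (by omega)
  rw [Dat.P, ← Pu_mod]; exact this 23 le_rfl

theorem card_Fx {H : Subgroup GG} (h : ∀ x, x.testBit 0 = false → D.P x ∈ H) (bs : List ℕ) :
    2 ^ 22 ≤ Nat.card (Fx H bs) := by
  let φ : Fin (2 ^ 22) → Fx H bs := fun i => ⟨D.P (2 * i), ⟨h _ (by simp), D_ok.P_mem _⟩,
    fun b _ => CRel.P _ _⟩
  have : Function.Injective φ := fun i j e => by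
    have e1 := Pu_inj _ (congrArg Subtype.val e)
    have := eq_of_parts (by have := i.2; omega) (by have := j.2; omega) e1.1 e1.2.1 e1.2.2
    exact Fin.ext (by omega)
  simpa using Nat.card_le_card_of_injective φ this

noncomputable def chkSpan (m : ℕ) (cm : ℕ → ℕ) (x : ℕ) (ws ls : List (List ℕ)) : Bool :=
  and2 (allL ws (inM m)) (allN 22 fun i => or2 (Nat.beq i 0)
    (ceq (bit i) (xorL (fun k => cw cm (nth [] ws k) x) (nth [] ls i))))

theorem span_sound {e : ℕ → GG} {m : ℕ} {cm : ℕ → ℕ} {H : Subgroup GG}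
    (h : ∀ c, m.testBit c = true → e c ∈ H ∧ Tab D (e c) (cm c)) (hz : D.z ∈ H) {x : ℕ}
    (hx : D.P x ∈ H) {ws ls : List (List ℕ)} (c : chkSpan m cm x ws ls = true) (y : ℕ)
    (hy : y.testBit 0 = false) : D.P y ∈ H := by
  simp only [chkSpan, and2_true, allN_true, allL_true, or2_true, beq_true, bit_eq, ceq_iff] at c
  refine P_even hz (fun i hi h0 => P_mem_of_ce hz ((c.2 i hi).resolve_left h0)
    (P_xorL hz _ fun k _ => ?_)) hy
  have h1 : inM m (nth [] ws k) = true := nth_forall (p := fun w => inM m w = true) rfl c.1 k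
  have h2 := cw_sound (D := D) _ (fun a ha => (h a (inM_true h1 a ha)).2) x
  have h3 := mem_of_inM (fun a ha => (h a ha).1) h1
  rw [← inv_mul_eq_iff_eq_mul] at h2
  rw [← h2]
  exact H.mul_mem (H.inv_mem h3) (H.mul_mem hx h3)

/-! ### The thirty positions -/

def cases : List (ℕ × ℕ) := [(0, 2048), (0, 2052), (0, 4304), (1, 2048), (1, 3072), (1, 3184),
  (2, 2048), (2, 3072), (2, 4304), (3, 2048), (3, 3072), (3, 3184), (4, 2048), (4, 2052), (4, 4304)]

theorem canon1 {j p : ℕ} (hj : j < 5) (hp : dom p) : ∃ l, (j, l) ∈ cases ∧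
    ∃ h ∈ HP j, D.Rel h p (16 * l) := by
  interval_cases j
  · obtain ⟨o, ho, c⟩ := orb_cov pc0 hp
    simp only [ob0, List.mem_cons, List.not_mem_nil, or_false] at ho
    rcases ho with rfl | rfl | rfl
    exacts [⟨_, by decide, Ctx.cover hpw0 pv0_0 p c hp⟩, ⟨_, by decide, Ctx.cover hpw0 pv0_1 p c hp⟩,
      ⟨_, by decide, Ctx.cover hpw0 pv0_2 p c hp⟩]
  · obtain ⟨o, ho, c⟩ := orb_cov pc1 hp
    simp only [ob1, List.mem_cons, List.not_mem_nil, or_false] at ho
    rcases ho with rfl | rfl | rfl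
    exacts [⟨_, by decide, Ctx.cover hpw1 pv1_0 p c hp⟩, ⟨_, by decide, Ctx.cover hpw1 pv1_1 p c hp⟩,
      ⟨_, by decide, Ctx.cover hpw1 pv1_2 p c hp⟩]
  · obtain ⟨o, ho, c⟩ := orb_cov pc2 hp
    simp only [ob2, List.mem_cons, List.not_mem_nil, or_false] at ho
    rcases ho with rfl | rfl | rfl
    exacts [⟨_, by decide, Ctx.cover hpw2 pv2_0 p c hp⟩, ⟨_, by decide, Ctx.cover hpw2 pv2_1 p c hp⟩,
      ⟨_, by decide, Ctx.cover hpw2 pv2_2 p c hp⟩]
  · obtain ⟨o, ho, c⟩ := orb_cov pc3 hp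
    simp only [ob3, List.mem_cons, List.not_mem_nil, or_false] at ho
    rcases ho with rfl | rfl | rfl
    exacts [⟨_, by decide, Ctx.cover hpw3 pv3_0 p c hp⟩, ⟨_, by decide, Ctx.cover hpw3 pv3_1 p c hp⟩,
      ⟨_, by decide, Ctx.cover hpw3 pv3_2 p c hp⟩]
  · obtain ⟨o, ho, c⟩ := orb_cov pc4 hp
    simp only [ob4, List.mem_cons, List.not_mem_nil, or_false] at ho
    rcases ho with rfl | rfl | rfl
    exacts [⟨_, by decide, Ctx.cover hpw4 pv4_0 p c hp⟩, ⟨_, by decide, Ctx.cover hpw4 pv4_1 p c hp⟩,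
      ⟨_, by decide, Ctx.cover hpw4 pv4_2 p c hp⟩]

theorem canon2 {x y : VV} (hx : x ∈ XO 0) {j : ℕ} (hj : j < 5) (hy : y ∈ XO j) :
    ∃ k ∈ D.KK, ∃ l c, (j, l) ∈ cases ∧ k • x = ax (16 * l) c ∧ (k • y = wv j ∨ k • y = - wv j) := by
  obtain ⟨k, hk, rfl⟩ := mem_XO.1 hy
  obtain ⟨p, c, hp, e⟩ := mem_X0.1 ((smul_XO (D.KK.inv_mem hk)).2 hx)
  obtain ⟨l, hl, h, hh, a⟩ := canon1 hj hp
  obtain ⟨f, hf⟩ := a.inv.x1
  have hh' := (HP j).inv_mem hh
  exact ⟨h⁻¹ * k⁻¹, D.KK.mul_mem hh'.1 (D.KK.inv_mem hk), l, xor c f, hl,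
    by rw [mul_smul, e]; exact hf c, by simpa [mul_smul] using hh'.2⟩

/-- The positions of adjacent axes. -/
theorem canon_adj {y : VV} (hy : y ∈ XX) (a : adj u y) : ∃ k ∈ D.KK, ∃ j l c,
    (j, l, c) ∈ [(0, 2048, false), (0, 2048, true), (0, 4304, true), (1, 3072, false),
      (1, 3072, true), (2, 4304, false), (4, 4304, true)] ∧
    k • u = ax (16 * l) c ∧ (k • y = wv j ∨ k • y = - wv j) := by
  obtain ⟨j, hj, hy⟩ := hy
  obtain ⟨k, hk, l, c, hl, e1, e2⟩ := canon2 (ax_X0 (dom_even p0) false) hj hy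
  refine ⟨k, hk, j, l, c, ?_, e1, e2⟩
  rw [← adj_smul (KK_GP hk), e1, adj_pm e2] at a
  simp only [cases, List.mem_cons, List.not_mem_nil, or_false, Prod.mk.injEq] at hl
  rcases hl with ⟨rfl, rfl⟩ | ⟨rfl, rfl⟩ | ⟨rfl, rfl⟩ | ⟨rfl, rfl⟩ | ⟨rfl, rfl⟩ | ⟨rfl, rfl⟩ |
    ⟨rfl, rfl⟩ | ⟨rfl, rfl⟩ | ⟨rfl, rfl⟩ | ⟨rfl, rfl⟩ | ⟨rfl, rfl⟩ | ⟨rfl, rfl⟩ | ⟨rfl, rfl⟩ |
    ⟨rfl, rfl⟩ | ⟨rfl, rfl⟩ <;> cases c
  exacts [by decide, by decide, absurd (nd2.adj.1 a) (by omega), absurd (nd3.adj.1 a) (by omega), absurd (nd4.adj.1 a) (by omega), by decide, absurd (nd6.adj.1 a) (by omega), absurd (nd7.adj.1 a) (by omega), by decide, by decide, absurd (nd10.adj.1 a) (by omega), absurd (nd11.adj.1 a) (by omega), absurd (nd12.adj.1 a) (by omega), absurd (nd13.adj.1 a) (by omega), absurd (nd14.adj.1 a) (by omega), absurd (nd15.adj.1 a) (by omega), by decide, absurd (nd17.adj.1 a) (by omega), absurd (nd18.adj.1 a) (by omega), absurd (nd19.adj.1 a)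 (by omega), absurd (nd20.adj.1 a) (by omega), absurd (nd21.adj.1 a) (by omega), absurd (nd22.adj.1 a) (by omega), absurd (nd23.adj.1 a) (by omega), absurd (nd24.adj.1 a) (by omega), absurd (nd25.adj.1 a) (by omega), absurd (nd26.adj.1 a) (by omega), absurd (nd27.adj.1 a) (by omega), absurd (nd28.adj.1 a) (by omega), by decide]

end H29.YB
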