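import Mathlib
import Cfsg.Agent.H29.YB.M6
import Cfsg.Agent.H29.Fi22
import Cfsg.Agent.H29.Quo

/-!
# The presented group extended by the symmetry of the diagram; subgroups that embed in the model
-/

set_option autoImplicit false
set_option maxRecDepth 100000
set_option linter.all false

namespace H29.YB
open H19 H29.BE H29.BP H29.BP.Dat H29.BM

def sgn {G : Type*} [Group G] (t : G) (h : t * t = 1) : ℤˣ →* G where
  toFun v := if v = 1 then 1 else t
  map_one' := by simp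
  map_mul' a b := by
    rcases Int.units_eq_one_or a with rfl | rfl <;> rcases Int.units_eq_one_or b with rfl | rfl <;>
      simp [h]

theorem PY_ext {G : Type*} [Group G] {f f' : PY.G →* G} (h : ∀ c < 11, f (PY.e c) = f' (PY.e c)) :
    f = f' := MonoidHom.eq_of_eqOn_dense (s := PY.e '' {c | c ∈ NL}) PY_top (by
  rintro _ ⟨c, hc, rfl⟩; exact h c (by change c ∈ NL at hc; revert c; decide))

noncomputable def θ : PY.G →* PY.G := PY_yr.tau.hom.choose
theorem θ_e {c : ℕ} (h : c < 11) : θ (PY.e c) = PY.e (ta c) := PY_yr.tau.hom.choose_spec c h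
theorem θθ : θ.comp θ = MonoidHom.id _ := PY_ext fun c hc => by
  have : ∀ c < 11, ta c < 11 ∧ ta (ta c) = c := by decide +kernel
  rw [MonoidHom.comp_apply, θ_e hc, θ_e (this c hc).1, (this c hc).2]; rfl
noncomputable def θe : MulAut PY.G := θ.toMulEquiv θ θθ θθ
theorem θe_sq : θe * θe = 1 := MulEquiv.ext fun x => DFunLike.congr_fun θθ x

def Γ : Type := PY.G ⋊[sgn θe θe_sq] ℤˣ
noncomputable instance : Group Γ := inferInstanceAs (Group (PY.G ⋊[sgn θe θe_sq] ℤˣ))
noncomputable def ι : PY.G →* Γ := SemidirectProduct.inl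
noncomputable def ι' : ℤˣ →* Γ := SemidirectProduct.inr
noncomputable def τ : Γ := ι' (-1)
theorem ι_inj : Function.Injective ι := SemidirectProduct.inl_injective
theorem τ_sq : τ * τ = 1 := by
  rw [τ, ← map_mul]; simp
theorem τ_ι (x : PY.G) : τ * ι x * τ⁻¹ = ι (θ x) := by
  have := SemidirectProduct.inl_aut (φ := sgn θe θe_sq) (-1) x
  rw [map_inv] at this
  exact this.symm

noncomputable def π0 : PY.G →* GG := sm_yr.hom.choose
theorem π0_e {c : ℕ} (h : c < 11) : π0 (PY.e c) = sm c := sm_yr.hom.choose_spec c h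
noncomputable def π : Γ →* GG := SemidirectProduct.lift π0 (sgn om om_sq) fun v => by
  rcases Int.units_eq_one_or v with rfl | rfl
  · simp only [map_one]; rfl
  · refine PY_ext fun c hc => ?_
    have : ∀ c < 11, ta c < 11 := by decide +kernel
    change π0 (θ (PY.e c)) = om * π0 (PY.e c) * om⁻¹
    rw [θ_e hc, π0_e hc, π0_e (this c hc), om_sm (by omega)]
theorem π_ι (x : PY.G) : π (ι x) = π0 x := SemidirectProduct.lift_inl _ _ _ x
theorem π_τ : π τ = om := SemidirectProduct.lift_inr _ _ _ _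

noncomputable def σ0 (c : ℕ) : Γ := ι (PY.e c)
noncomputable def dw : List (List ℕ) := [powW 9 [6, 5, 0, 1, 2, 3, 8], wl ++ 0 :: wl.reverse,
  powW 5 [0, 1, 8, 5, 6, 7], powW 5 [0, 1, 5, 8, 9, 10]]
/-- The letters. -/
noncomputable def σ (c : ℕ) : Γ :=
  if c < 11 then σ0 c else if c = 15 then τ else ev σ0 (nth [] dw (c - 11))

theorem σ_lt {c : ℕ} (h : c < 11) : σ c = σ0 c := if_pos h
theorem σ15 : σ 15 = τ := rfl
theorem ev_σ {w : List ℕ} (h : allL w (fun c => Nat.ble c 10) = true) : ev σ w = ev σ0 w :=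
  ev_congr fun c hc => σ_lt (Nat.lt_succ_of_le (ble_true.1 (allL_true.1 h c hc)))
theorem σ_def {c : ℕ} (h : 11 ≤ c ∧ c < 15 := by omega) : σ c = ev σ (nth [] dw (c - 11)) := by
  rw [σ, if_neg (by omega), if_neg (by omega), ev_σ]
  obtain ⟨h1, h2⟩ := h
  interval_cases c <;> decide +kernel

theorem σ0_yr : YR σ0 := by
  have m : ∀ w, ev PY.e w = 1 → ev σ0 w = 1 := fun w h => by
    have := map_ev ι PY.e w
    rw [h, map_one] at this; exact this.symm
  exact ⟨fun c => by rw [σ0, ← map_mul, PY_yr.sq, map_one], fun r hr => m r (PY_yr.cox r hr),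
    m _ PY_yr.sp, m _ PY_yr.f2, m _ PY_yr.f3⟩

theorem π_σ (c : ℕ) : π (σ c) = sm c := by
  have h0 : ∀ c < 11, π (σ0 c) = sm c := fun c hc => by rw [σ0, π_ι, π0_e hc]
  have h1 : ∀ w, allL w (fun c => Nat.ble c 10) = true → π (ev σ0 w) = ev sm w := fun w h => by
    rw [map_ev]
    exact ev_congr fun c hc => h0 c (Nat.lt_succ_of_le (ble_true.1 (allL_true.1 h c hc)))
  rw [σ]
  split_ifs with c1 c2
  · exact h0 c c1
  · rw [c2, π_τ, sm15]
  by_cases c3 : c < 15
  · have : 11 ≤ c := by omega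
    interval_cases c <;> rw [h1 _ (by decide +kernel)]
    exacts [rel_f1, by
      rw [sm12, ← ev_rev sm_sq]; exact (ev_append _ _ _).trans (by rw [ev_cons, mul_assoc]),
      sm13.symm, sm14.symm]
  · rw [nth_default _ (by simp [dw]; omega), ev_nil, map_one, sm, if_neg c3, if_neg c2]

theorem π_ev (w : List ℕ) : π (ev σ w) = ev sm w := by
  rw [map_ev]; exact ev_congr fun c _ => π_σ c
theorem π_gen (L : List ℕ) : (gen σ L).map π = gen sm L := by
  rw [map_gen]; exact gen_congr fun c _ => π_σ c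

theorem Γ_top : gen σ (15 :: NL) = ⊤ := by
  have h : ∀ x, ι x ∈ gen σ (15 :: NL) := fun x => by
    have : (gen PY.e NL).map ι ≤ gen σ (15 :: NL) := by
      rw [map_gen]
      exact gen_le.2 fun c hc => by
        have := mem_gen (e := σ) (List.mem_cons_of_mem 15 hc)
        rwa [σ_lt (by clear this; revert c; decide)] at this
    exact this ⟨x, (show gen PY.e NL = ⊤ from PY_top) ▸ Subgroup.mem_top x, rfl⟩
  refine top_unique fun x _ => ?_
  rw [← SemidirectProduct.inl_left_mul_inr_right x]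
  refine Subgroup.mul_mem _ (h _) ?_
  rcases Int.units_eq_one_or x.right with e | e <;> rw [e]
  · rw [map_one]; exact Subgroup.one_mem _
  · exact mem_gen (e := σ) (c := 15) (by simp)

/-! ### Subgroups that embed -/

def Inj (H : Subgroup Γ) : Prop := ∀ x ∈ H, π x = 1 → x = 1

theorem Inj.eq {H : Subgroup Γ} (h : Inj H) {x y : Γ} (hx : x ∈ H) (hy : y ∈ H) (e : π x = π y) :
    x = y := mul_inv_eq_one.1 (h _ (H.mul_mem hx (H.inv_mem hy)) (by simp [e]))
theorem Inj.mono {H K : Subgroup Γ} (h : Inj H) (hK : K ≤ H) : Inj K := fun x hx => h x (hK hx)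
/-- The conjugate subgroup. -/
noncomputable def cjg (k : Γ) (H : Subgroup Γ) : Subgroup Γ := H.comap (MulAut.conj k⁻¹).toMonoidHom
theorem mem_cjg {k x : Γ} {H : Subgroup Γ} : x ∈ cjg k H ↔ k⁻¹ * x * k ∈ H := by simp [cjg]
theorem Inj.cjg {H : Subgroup Γ} (h : Inj H) (k : Γ) : Inj (cjg k H) := fun x hx e => by
  have := h _ (mem_cjg.1 hx) (by simp [e])
  rwa [mul_assoc, inv_mul_eq_one, eq_comm, mul_eq_right] at this

theorem sm0_ne : sm 0 ≠ 1 := fun h => by
  have h1 := sm_braid (i := 0) (j := 1)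
  have h2 := GP_iso (sm_GP 1) (xv 0) (xv 1)
  rw [← h1, h, one_smul, fx_sound (c := 1) (by omega) (by decide +kernel), ipj (i := 0) (j := 1),
    B_self (xv_XX (by omega))] at h2
  norm_num at h2

theorem inj_of_simple {S : Type*} [Group S] (hS : IsSimpleGroup S) (φ : S →* Γ) {s : S}
    (h : φ s = σ 0) : Inj φ.range ∧ Function.Injective (π.comp φ) := by
  have : Function.Injective (π.comp φ) := by
    rw [← MonoidHom.ker_eq_bot_iff]
    refine (hS.eq_bot_or_eq_top_of_normal _ inferInstance).resolve_right fun e => sm0_ne ?_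
    have : s ∈ (π.comp φ).ker := e ▸ Subgroup.mem_top s
    rwa [MonoidHom.mem_ker, MonoidHom.comp_apply, h, π_σ] at this
  refine ⟨?_, this⟩
  rintro _ ⟨x, rfl⟩ e
  rw [(map_eq_one_iff _ this).1 e, map_one]

noncomputable def φ2 : Fi23.P.G →* Γ := σ0_yr.fi23.choose
theorem φ2_e {c : ℕ} (h : c < 10) : φ2 (Fi23.P.e c) = σ (m23 c) := by
  rw [σ_lt (by revert c; decide +kernel)]; exact σ0_yr.fi23.choose_spec c h
theorem φ2_inj : Inj φ2.range ∧ Function.Injective (π.comp φ2) :=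
  inj_of_simple Fi23.simple φ2 (φ2_e (c := 3) (by omega))

noncomputable def m24 : ℕ → ℕ := nth 0 [7, 6, 5, 0, 1, 2, 3, 8, 9, 4, 11]
theorem φ2_ez {w : List ℕ} (h : allL w (fun c => Nat.ble c 10) = true) :
    φ2 (ev ez w) = ev σ (w.map m24) := by
  rw [map_ev, ← ev_map]
  refine ev_congr fun c hc => ?_
  have h1 := ble_true.1 (allL_true.1 h c hc)
  by_cases e : c = 10
  · rw [e, ez10, map_ev, ev_congr (e' := fun c => σ (m23 c))
      (fun c hc => φ2_e (by revert c; decide +kernel)), ev_map]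
    exact (σ_def (c := 11)).symm
  · rw [ez_lt (by omega), φ2_e (by omega)]
    interval_cases c <;> first | rfl | omega

noncomputable def mi : ℕ → ℕ := nth 0 [3, 4, 5, 6, 9, 2, 1, 0, 7, 8]
noncomputable def trl : List (List ℕ) := [[3], [4], [5], [6], [9], [2], [1], [0], [7], [8], [], [10],
  (nth [] dw 1).map mi, (nth [] dw 2).map mi]
noncomputable def fe : ℕ → Fi23.P.G := wE ez trl
noncomputable def gn : ℕ → Net := wNets Fi23Z.nx trl
theorem gn_ok : NetsOK 31671 gn := Fi23Z.hn.wNets _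
theorem ρ_fe (c : ℕ) : Fi23.ρ (fe c) = sg gn c := map_wE (Fi23Z.map Fi23.hρ) _ c
theorem φ2_fe {c : ℕ} (h : (15359 : ℕ).testBit c = true) : φ2 (fe c) = σ c := by
  have h1 := bit_lt (n := 14) (by decide) h
  rw [fe, wE, φ2_ez (by clear h; revert c; decide +kernel)]
  interval_cases c
  iterate 10 exact mul_one _
  exacts [absurd h (by decide), mul_one _, (σ_def (c := 12)).symm, (σ_def (c := 13)).symm]
theorem φ2_w {w : List ℕ} (h : inM 15359 w = true) : φ2 (ev fe w) = ev σ w := by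
  rw [map_ev]; exact ev_congr fun c hc => φ2_fe (inM_true h c hc)
theorem F2_w {w : List ℕ} (h : inM 15359 w = true) : ev σ w ∈ φ2.range := ⟨_, φ2_w h⟩
theorem F2_c {c : ℕ} (h : (15359 : ℕ).testBit c = true) : σ c ∈ φ2.range := ⟨_, φ2_fe h⟩

theorem τ_lt {c : ℕ} (h : c < 11) : τ * σ c * τ⁻¹ = σ (ta c) := by
  rw [σ_lt h, σ_lt (by revert c; decide +kernel), σ0, τ_ι, θ_e h, σ0]

theorem τ_σ {c : ℕ} (h : c < 15) : τ * σ c * τ⁻¹ = σ (ta c) := by
  by_cases c1 : c < 11
  · exact τ_lt c1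
  have h1 : τ * σ c * τ⁻¹ = ev σ ((nth [] dw (c - 11)).map ta) := by
    rw [σ_def (c := c)]
    exact conj_ev fun a ha => τ_lt (by
      have : 11 ≤ c := by omega
      interval_cases c <;> (revert a; decide +kernel))
  have h2 : π (τ * σ c * τ⁻¹) = π (σ (ta c)) := by
    rw [map_mul, map_mul, map_inv, π_τ, π_σ, π_σ, om_sm h]
  have : 11 ≤ c := by omega
  interval_cases c
  · exact φ2_inj.1.eq (h1 ▸ F2_w (by decide +kernel)) (F2_c (by decide +kernel)) h2
  · exact φ2_inj.1.eq (h1 ▸ F2_w (by decide +kernel)) (F2_c (by decide +kernel)) h2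
  · exact h1.trans (σ_def (c := 14)).symm
  · exact h1.trans (σ_def (c := 13)).symm

theorem τ_inv : τ⁻¹ = τ := inv_eq_of_mul_eq_one_right τ_sq
theorem F3_c {c : ℕ} (h : (24447 : ℕ).testBit c = true) : σ c ∈ cjg τ φ2.range := by
  have h1 := bit_lt (n := 15) (by decide) h
  have := τ_σ h1
  rw [mem_cjg, τ_inv]
  rw [τ_inv] at this
  exact this ▸ F2_c (by clear this; revert h; revert c; decide +kernel)

theorem F3_w {w : List ℕ} (h : inM 24447 w = true) : ev σ w ∈ cjg τ φ2.range :=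
  ev_mem fun c hc => F3_c (inM_true h c hc)

theorem σ_sq (c : ℕ) : σ c * σ c = 1 := by
  have h : π (σ c * σ c) = 1 := by rw [map_mul, π_σ, sm_sq]
  by_cases c1 : c < 16
  · interval_cases c
    iterate 10 exact φ2_inj.1 _ (Subgroup.mul_mem _ (F2_c rfl) (F2_c rfl)) h
    · exact (φ2_inj.1.cjg τ) _ (Subgroup.mul_mem _ (F3_c rfl) (F3_c rfl)) h
    iterate 3 exact φ2_inj.1 _ (Subgroup.mul_mem _ (F2_c rfl) (F2_c rfl)) h
    · exact (φ2_inj.1.cjg τ) _ (Subgroup.mul_mem _ (F3_c rfl) (F3_c rfl)) h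
    · exact τ_sq
  · rw [σ, if_neg (by omega), if_neg (by omega), nth_default _ (by simp [dw]; omega)]; simp
theorem σ_iv : IvOK σ (ivOf []) := iv_of_sq σ_sq
theorem σ_inv (c : ℕ) : (σ c)⁻¹ = σ c := inv_eq_of_mul_eq_one_right (σ_sq c)

theorem σ_yr : YR σ := ⟨σ_sq, fun r hr => (ev_σ (by revert r; decide +kernel)).trans (σ0_yr.cox r hr),
  (ev_σ (by decide +kernel)).trans σ0_yr.sp, (ev_σ (by decide +kernel)).trans σ0_yr.f2,
  (ev_σ (by decide +kernel)).trans σ0_yr.f3⟩

noncomputable def m22 : ℕ → ℕ := nth 0 [7, 6, 5, 0, 8, 9, 10, 1, 2]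
theorem exists_φ1 : ∃ φ : Fi22.P.G →* Γ, ∀ c < 9, φ (Fi22.P.e c) = σ (m22 c) :=
  PData.exists_hom Fi22.coh Fi22.hg (σ := fun c => σ (m22 c)) (iv_of_sq fun _ => σ_sq _)
    (σ_yr.sub (X := [powW 10 [0, 5, 6, 0, 8, 9, 0, 1, 2], powW 9 [7, 6, 5, 0, 8, 9, 1],
      powW 9 [6, 5, 0, 8, 9, 10, 1]]) (by
      simp only [List.forall_mem_cons]
      refine ⟨σ_yr.pow [2, 1, 0] σ_yr.sp (by decide +kernel),
        φ2_inj.1 _ (F2_w (by decide +kernel)) ?_,
        φ2_inj.1.cjg τ _ (F3_w (by decide +kernel)) ?_, by simp⟩ <;>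
      rw [π_ev] <;>
      exact eq_of_chk (w := []) (M := tI) (by decide +kernel) (by decide +kernel) (by decide +kernel))
      (by decide +kernel))
noncomputable def φ1 : Fi22.P.G →* Γ := exists_φ1.choose
theorem φ1_e {c : ℕ} (h : c < 9) : φ1 (Fi22.P.e c) = σ (m22 c) := exists_φ1.choose_spec c h
theorem φ1_inj : Inj φ1.range ∧ Function.Injective (π.comp φ1) :=
  inj_of_simple Fi22.simple φ1 (φ1_e (c := 3) (by omega))
def AL : List ℕ := [7, 6, 5, 0, 8, 9, 10, 1, 2]
theorem φ1_range : φ1.range = gen σ AL := by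
  rw [MonoidHom.range_eq_map, ← Fi22.top, map_gen, gen_congr (e' := fun c => σ (m22 c))
    fun c hc => φ1_e (by revert c; decide), gen_relabel]
  rfl
theorem A1_inj : Inj (gen σ AL) := φ1_range ▸ φ1_inj.1
theorem A1_c {c : ℕ} (h : (26599 : ℕ).testBit c = true) : σ c ∈ gen σ AL := by
  have h1 := bit_lt (n := 15) (by decide) h
  by_cases c1 : c < 11
  · exact mem_gen (by revert h; clear h1; revert c; decide)
  · rw [σ_def (c := c)]
    exact ev_mem_gen (by revert h c1; revert c; decide +kernel)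

theorem σ_cox : ∀ r ∈ coxR 15, ev σ r = 1 := fun r hr => by
  have : or2 (inM 15359 r) (or2 (inM 24447 r) (inM 26599 r)) = true := by revert r; decide +kernel
  have h := (π_ev r).trans (sm_cox r hr)
  simp only [or2_true] at this
  rcases this with a | a | a
  exacts [φ2_inj.1 _ (F2_w a) h, φ2_inj.1.cjg τ _ (F3_w a) h,
    A1_inj _ (ev_mem fun c hc => A1_c (inM_true a c hc)) h]

theorem σ_eq {v w : List ℕ} (c : eqR (cmN 14) v w = true) : ev σ v = ev σ w :=
  eqR_sound σ_sq (comm_of_cox σ_sq σ_cox) c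

/-! ### Points of the graph of `Fi23` -/

def TT (p : ℕ) (x : Γ) : Prop := ∃ g, Fi23.ρ g 0 = p ∧ x = φ2 g * σ 11 * (φ2 g)⁻¹

theorem TT.uniq {p : ℕ} {x y : Γ} (h1 : TT p x) (h2 : TT p y) : x = y := by
  obtain ⟨a, ha, rfl⟩ := h1
  obtain ⟨b, hb, rfl⟩ := h2
  have := congrArg φ2 (IsT.unique Fi23.cm (t := ez 10) (comm_gen fun c hc => ez_comm (by
    revert c; decide)) ⟨a, ha, rfl⟩ ⟨b, hb, rfl⟩)
  have e : φ2 (ez 10) = σ 11 := (mul_one _).symm.trans ((map_ev φ2 ez [10]).symm.trans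
    ((φ2_ez rfl).trans (mul_one _)))
  simpa only [map_mul, map_inv, e] using this

noncomputable def cP (w : List ℕ) (p q : ℕ) : Bool := and2 (inM 15359 w) (chkPt gn w p q)
theorem cP_ρ {w : List ℕ} {p q : ℕ} (c : cP w p q = true) :
    φ2 (ev fe w) = ev σ w ∧ Fi23.ρ (ev fe w) p = q :=
  ⟨φ2_w (and2_true.1 c).1, by
    rw [map_ev_sg fun c _ => ρ_fe c]; exact pt_of_chk gn_ok (and2_true.1 c).2⟩

theorem TT.word {p q : ℕ} {x : Γ} (h : TT p x) {w : List ℕ} (c : cP w p q = true) :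
    TT q (ev σ w * x * (ev σ w)⁻¹) := by
  obtain ⟨a, ha, rfl⟩ := h
  obtain ⟨h1, h2⟩ := cP_ρ c
  exact ⟨ev fe w * a, by rw [map_mul, Equiv.Perm.mul_apply, ha, h2], by rw [map_mul, h1]; group⟩

noncomputable def pt' : ℕ → ℕ :=
  nth 0 [8580, 16798, 23797, 26622, 29147, 16801, 23799, 26623, 16800, 23798, 0, 0, 279, 6062]

theorem tt {c : ℕ} (h : (15359 : ℕ).testBit c = true) : TT (pt' c) (σ c) := by
  have st : ∀ {a b}, TT (pt' a) (σ a) → and2 (memLL [a, b, a, b, a, b] (coxR 15))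
      (cP [a, b] (pt' a) (pt' b)) = true → TT (pt' b) (σ b) := fun h c =>
    (braid_conj σ_iv (σ_cox _ (memLL_true (and2_true.1 c).1))).1 ▸ h.word (and2_true.1 c).2
  have h11 : TT (pt' 11) (σ 11) := ⟨1, by simp; rfl, by simp⟩
  have h4 : TT (pt' 4) (σ 4) := st h11 (by decide +kernel)
  have h3 : TT (pt' 3) (σ 3) := st h4 (by decide +kernel)
  have h2 : TT (pt' 2) (σ 2) := st h3 (by decide +kernel)
  have h1 : TT (pt' 1) (σ 1) := st h2 (by decide +kernel)
  have h0 : TT (pt' 0) (σ 0) := st h1 (by decide +kernel)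
  have h5 : TT (pt' 5) (σ 5) := st h0 (by decide +kernel)
  have h6 : TT (pt' 6) (σ 6) := st h5 (by decide +kernel)
  have h7 : TT (pt' 7) (σ 7) := st h6 (by decide +kernel)
  have h8 : TT (pt' 8) (σ 8) := st h0 (by decide +kernel)
  have h9 : TT (pt' 9) (σ 9) := st h8 (by decide +kernel)
  have h12 : TT (pt' 12) (σ 12) := st h9 (by decide +kernel)
  have h13 : TT (pt' 13) (σ 13) := st h9 (by decide +kernel)
  have hc := bit_lt (n := 14) (by decide) h
  interval_cases c <;> first | assumption | exact absurd h (by decide)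

noncomputable def cJ (w : List ℕ) (a b : ℕ) : Bool :=
  and2 (inM 15359 [a, b]) (cP w (pt' a) (pt' b))
theorem cJ_sound {w : List ℕ} {a b : ℕ} (c : cJ w a b = true) :
    ev σ w * σ a * (ev σ w)⁻¹ = σ b :=
  ((tt (inM_true (and2_true.1 c).1 a (by simp))).word (and2_true.1 c).2).uniq
    (tt (inM_true (and2_true.1 c).1 b (by simp)))

def HL : List ℕ := [7, 6, 5, 0, 1, 2, 3, 8, 9]
theorem φ2_H : (gen Fi23.P.e Fi23T.hcols).map φ2 = gen σ HL := by
  rw [map_gen, gen_congr (e' := fun c => σ (m23 c)) fun c hc => φ2_e (by revert c; decide),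
    gen_relabel]
  rfl
theorem mem_HL' {w : List ℕ} (c : cP w 0 0 = true) : ev σ w ∈ gen σ HL :=
  φ2_H ▸ ⟨_, (Fi23.cm.mem _).1 (cP_ρ c).2, (cP_ρ c).1⟩

end H29.YB
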