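import Mathlib
import Cfsg.Agent.H29.YB.I0

/-!
# Checkers for orbits of classes; coverings by cosets
-/

set_option autoImplicit false
set_option maxRecDepth 100000
set_option linter.all false

namespace H29.YB
open H19 H29.BE H29.BP H29.BP.Dat H29.BM

noncomputable def chkFor (Ms : List ℕ) (V Pp Gg k n : ℕ) : Bool :=
  allN n fun i => or2 (Nat.ble (Nat.succ i) k) (lit (fld Pp i) fun p => lit (fld Gg i) fun c =>
    and2 (Nat.ble (Nat.succ p) i) (and2 (Nat.ble (Nat.succ c) Ms.length)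
      (lit (f32 V p) fun x => ceq (cj (nth 0 Ms c) x) (f32 V i))))

theorem for_sound {Q : ℕ → Prop} {Ms : List ℕ} {V Pp Gg k n : ℕ} (c : chkFor Ms V Pp Gg k n = true)
    (h0 : ∀ i < k, Q (f32 V i)) (h : ∀ M ∈ Ms, ∀ x y, Q x → ceq (cj M x) y = true → Q y) :
    ∀ i < n, Q (f32 V i) := by
  intro i
  induction i using Nat.strong_induction_on with
  | _ i ih =>
    intro hi
    have := allN_true.1 c i hi
    simp only [or2_true, lit_e, and2_true, ble_true] at this
    rcases this with h1 | ⟨h1, h2, h3⟩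
    · exact h0 i h1
    · exact h _ (by rw [nth_eq, List.getD_eq_getElem _ _ h2]; exact List.getElem_mem _) _ _
        (ih _ h1 (by omega)) h3

theorem Fx_full {H : Subgroup GG} {bs : List ℕ} {V S n : ℕ} (c : chkSort V S n = true)
    (h : ∀ i < n, ∃ h ∈ Fx H bs, CRel D h (f32 V 0) (f32 V i))
    (hc : Nat.card (Fx H bs) ≤ n * Nat.card (Fx H (f32 V 0 :: bs))) :
    ∀ k ∈ Fx H bs, ∃ i < n, CRel D k (f32 V 0) (f32 V i) := by
  choose f hf1 hf2 using h
  let φ : Fin n × Fx H (f32 V 0 :: bs) → Fx H bs := fun x => ⟨x.2.1 * f x.1 x.1.2,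
    (Fx H bs).mul_mem ⟨x.2.2.1, fun b hb => x.2.2.2 b (by simp [hb])⟩ (hf1 _ _)⟩
  have : Function.Injective φ := by
    rintro ⟨i, a⟩ ⟨j, b⟩ e
    have e1 : a.1 * f i i.2 = b.1 * f j j.2 := congrArg Subtype.val e
    have a1 := (a.2.2 _ (by simp)).mul (hf1 i i.2).1.2.comm (hf2 i i.2)
    have b1 := (b.2.2 _ (by simp)).mul (hf1 j j.2).1.2.comm (hf2 j j.2)
    rw [e1] at a1
    obtain rfl : i = j := Fin.ext (sort_surj c i.2 j.2 (a1.uniq b1))
    rw [Subtype.ext (mul_right_cancel e1)]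
  intro k hk
  obtain ⟨⟨i, a⟩, e⟩ := (this.bijective_of_nat_card_le (by simpa using hc)).2 ⟨k, hk⟩
  have e1 : a.1 * f i i.2 = k := congrArg Subtype.val e
  exact ⟨i, i.2, e1 ▸ (a.2.2 _ (by simp)).mul (hf1 i i.2).1.2.comm (hf2 i i.2)⟩

theorem card_Fx4 {H : Subgroup GG} (hz : D.z ∈ H) (hd : d ∈ H) (bs : List ℕ) :
    4 ≤ Nat.card (Fx H bs) := by
  let φ : Bool × Bool → Fx H bs := fun x => ⟨D.P ((if x.1 then 2 ^ 11 else 0) ^^^ zb x.2), ⟨by
    refine P_mem_of_ce hz (ce_zb _ _) ?_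
    split_ifs
    · rw [← cl0]; exact hd
    · rw [Dat.P, Pu_zero]; exact H.one_mem, D_ok.P_mem _⟩, fun b _ => CRel.P _ _⟩
  have : Function.Injective φ := fun i j e => by
    have e1 := Pu_inj _ (congrArg Subtype.val e)
    clear e; revert i j; decide +kernel
  simpa using Nat.card_le_card_of_injective φ this

noncomputable def anyN (n : ℕ) (f : ℕ → Bool) : Bool :=
  Bool.rec true false (allN n fun j => Bool.rec true false (f j))
theorem anyN_true {n : ℕ} {f : ℕ → Bool} (h : anyN n f = true) : ∃ j < n, f j = true := by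
  by_contra c
  rw [anyN, allN_true.2 fun j hj => by
    cases e : f j
    · rfl
    · exact absurd ⟨j, hj, e⟩ c] at h
  cases h

noncomputable def chkSt (S : List (List ℕ)) (V : ℕ) (st : List (ℕ × ℕ × List ℕ × List ℕ)) (n : ℕ) :
    Bool := allN n fun i => or2 (Nat.ble i 20) (Prod.rec (fun s x => Prod.rec (fun p x =>
      Prod.rec (fun w js => and2 (and2 (Nat.ble s 1) (and2 (Nat.ble p 3) (inM 7147 w)))
        (allN 4 fun m => lit (nth 0 js m) fun j => and2
          (Bool.rec (Nat.ble (Nat.succ j) i) (Nat.beq j i) (Nat.beq m p))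
          (ceq (cw tm w (nth 0 (nth [] S s) m)) (f32 V j)))) x) x)
      (nth (0, 0, [], []) st (Nat.sub i 21)))

noncomputable def chkTg (V n : ℕ) : Bool :=
  allN 21 fun i => allL [0, 1, 3, 5, 6, 7, 8, 9, 11, 12] fun c =>
    lit (cj (tm c) (f32 V i)) fun y => anyN n fun j => ceq y (f32 V j)

section Cov
variable {G : Type*} [Group G]

/-- `A` lies in `n` cosets of `B`. -/
def Cv (A B : Subgroup G) (n : ℕ) : Prop := ∃ C : ℕ → G, ∀ a ∈ A, ∃ j < n, (C j)⁻¹ * a ∈ B

theorem Cv.bd {A B : Subgroup G} {n m : ℕ} (h : Cv A B n) (hB : Bd B m) : Bd A (n * m) := by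
  obtain ⟨C, h⟩ := h
  exact bd_of_cover (fun j => (C j : G ⧸ B)) (fun a ha => (h a ha).imp fun j hj =>
    ⟨hj.1, (QuotientGroup.eq.2 hj.2).symm⟩) hB

theorem Cv.dbl {A S Z : Subgroup G} {n : ℕ} (h : Cv S Z n) {t : G} (h2 : t * t = 1)
    (hn : ∀ z ∈ Z, t * z * t ∈ Z) (hA : ∀ a ∈ A, a ∈ S ∨ a * t ∈ S) : Cv A Z (2 * n) := by
  obtain ⟨C, h⟩ := h
  refine ⟨fun j => if j < n then C j else C (j - n) * t, fun a ha => ?_⟩
  rcases hA a ha with c | c <;> obtain ⟨j, hj, e⟩ := h _ c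
  · exact ⟨j, by omega, by simp only [if_pos hj]; exact e⟩
  · refine ⟨n + j, by omega, ?_⟩
    have := hn _ e
    beta_reduce
    rw [if_neg (by omega), Nat.add_sub_cancel_left, mul_inv_rev, inv_eq_of_mul_eq_one_right h2]
    rwa [show t * ((C j)⁻¹ * (a * t)) * t = t * (C j)⁻¹ * a * (t * t) by group, h2, mul_one] at this

theorem Cv.refl (A : Subgroup G) : Cv A A 1 := ⟨fun _ => 1, fun a ha => ⟨0, by omega, by simpa⟩⟩

theorem conj_gen {e : ℕ → G} {L : List ℕ} {H : Subgroup G} {t : G}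
    (h : ∀ c ∈ L, t * e c * t⁻¹ ∈ H) : ∀ k ∈ gen e L, t * k * t⁻¹ ∈ H := fun _ hk =>
  (gen_le (H := H.comap (MulAut.conj t).toMonoidHom)).2 h hk

/-- Involutions that commute modulo `Z`. -/
theorem cv_two {e : ℕ → G} {Z : Subgroup G} (h0 : gen e [0, 1] = Z) (h2 : ∀ i, e i * e i = 1)
    (hn : ∀ i, ∀ z ∈ Z, e i * z * e i ∈ Z) (hc : ∀ i j, e i * e j * e i * e j ∈ Z) :
    ∀ n, Cv (gen e (List.range (n + 2))) Z (2 ^ n)
  | 0 => by rw [show List.range (0 + 2) = [0, 1] from rfl, h0]; exact Cv.refl Z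
  | n + 1 => by
    have hi := inv_eq_of_mul_eq_one_right (h2 (n + 2))
    rw [pow_succ']
    refine (cv_two h0 h2 hn hc n).dbl (h2 (n + 2)) (hn _) (dichotomy (h2 _) (fun k hk => ?_)
      fun c hc => ?_)
    · have := conj_gen (t := e (n + 2)) (H := gen e (List.range (n + 2))) (fun c hc' => by
        have a : Z ≤ gen e (List.range (n + 2)) := h0 ▸ gen_mono fun c hc => by
          simp at hc ⊢; omega
        have := Subgroup.mul_mem _ (a (hc (n + 2) c)) (mem_gen hc')
        rw [mul_assoc, h2, mul_one] at this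
        rwa [hi]) k hk
      rwa [hi] at this
    · rcases Nat.lt_succ_iff_lt_or_eq.1 (List.mem_range.1 hc) with a | rfl
      · exact Or.inl (mem_gen (List.mem_range.2 a))
      · exact Or.inr (h2 _ ▸ Subgroup.one_mem _)

theorem bd_half {K W : Subgroup G} {m : ℕ} (h : K ≤ W) {x : G} (h1 : x ∈ W) (h2 : x ∉ K)
    (hW : Bd W (2 * m)) : Bd K m := by
  have := hW.1
  refine ⟨(hW.of_le h).1, ?_⟩
  have a := (K.subgroupOf W).card_mul_index
  have b := (K.subgroupOf W).index_ne_zero_of_finite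
  have c : (K.subgroupOf W).index ≠ 1 := fun e => h2 (by
    have : (⟨x, h1⟩ : W) ∈ K.subgroupOf W := Subgroup.index_eq_one.1 e ▸ Subgroup.mem_top _
    exact this)
  rw [Nat.card_congr (Subgroup.subgroupOfEquivOfLe h).toEquiv] at a
  have := hW.2
  nlinarith [show 2 ≤ (K.subgroupOf W).index by omega]

theorem four_mem {H : Subgroup G} {f : ℕ → G} (h : f 0 * f 1 * f 2 * f 3 ∈ H) {p : ℕ} (hp : p ≤ 3)
    (h' : ∀ m < 4, m ≠ p → f m ∈ H) : f p ∈ H := by
  interval_cases p
  · rwa [H.mul_mem_cancel_right (h' 3 (by omega) (by omega)), H.mul_mem_cancel_right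
      (h' 2 (by omega) (by omega)), H.mul_mem_cancel_right (h' 1 (by omega) (by omega))] at h
  · rwa [H.mul_mem_cancel_right (h' 3 (by omega) (by omega)), H.mul_mem_cancel_right
      (h' 2 (by omega) (by omega)), H.mul_mem_cancel_left (h' 0 (by omega) (by omega))] at h
  · rwa [H.mul_mem_cancel_right (h' 3 (by omega) (by omega)), H.mul_mem_cancel_left
      (H.mul_mem (h' 0 (by omega) (by omega)) (h' 1 (by omega) (by omega)))] at h
  · rwa [H.mul_mem_cancel_left (H.mul_mem (H.mul_mem (h' 0 (by omega) (by omega))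
      (h' 1 (by omega) (by omega))) (h' 2 (by omega) (by omega)))] at h

end Cov

theorem inj_of_bd {H : Subgroup Γ} {n : ℕ} (h : Bd H n) (hn : Nat.card (H.map π) = n) : Inj H := by
  have := h.1
  have a : Function.Bijective (π.subgroupMap H) := (π.subgroupMap_surjective H).bijective_of_nat_card_le
    (hn ▸ h.2)
  intro x hx e
  exact congrArg Subtype.val (a.1 (a₁ := ⟨x, hx⟩) (a₂ := 1) (Subtype.ext (by simpa using e)))

theorem card_le_of_bd {H : Subgroup Γ} {n : ℕ} (h : Bd H n) : Nat.card (H.map π) ≤ Nat.card H :=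
  have := h.1
  Nat.card_le_card_of_surjective _ (π.subgroupMap_surjective H)

end H29.YB
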