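import Mathlib
import Cfsg.Agent.H29.YB.E0
import Cfsg.Agent.H29.YBW

/-!
# Bruhat cells for a diagram of type F4
-/

set_option autoImplicit false
set_option maxRecDepth 100000
set_option linter.all false
set_option synthInstance.maxSize 4000
set_option synthInstance.maxHeartbeats 200000

namespace H29.YB.Br
open H19

def Ul (i : ℕ) : List ℕ := [[3], [4], [5, 6, 7], [8, 9, 10]].getD i []
def BL : List ℕ := [0, 1, 2, 3, 4, 5, 6, 7, 8, 9, 10]
def Rl (i : ℕ) : List (List ℕ) := [] :: (Ul i).map fun c => [c]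
def Ml (i k : ℕ) : List ℕ := 0 :: 1 :: 2 :: (Ul i ++ Ul k)
def CJ : List (ℕ × ℕ × List ℕ) := [(0, 1, [1]), (0, 1, [1, 0]), (0, 2, [2]), (0, 3, [3]), (1, 0, [0]),
  (1, 0, [0, 1]), (1, 2, [2, 1, 2]), (1, 3, [3]), (2, 0, [0]), (2, 1, [1]), (2, 1, [1, 2, 1]),
  (2, 3, [3, 2]), (3, 0, [0]), (3, 1, [1]), (3, 2, [2, 3])]
def pm (i j : ℕ) : ℕ :=
  ([[1, 0, 2, 3, 7, 5, 8, 4, 6, 10, 9, 13, 14, 11, 12, 16, 15, 18, 17, 19, 20, 21, 23, 22],
  [0, 2, 1, 4, 3, 6, 5, 7, 8, 11, 12, 9, 10, 14, 13, 15, 19, 17, 20, 16, 18, 22, 21, 23],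
  [0, 1, 3, 2, 4, 5, 9, 7, 10, 6, 8, 11, 15, 13, 16, 12, 14, 17, 18, 19, 21, 20, 22, 23],
  [0, 1, 2, 5, 6, 3, 4, 8, 7, 9, 10, 11, 12, 13, 14, 17, 18, 15, 16, 20, 19, 21, 22, 23]].getD i []).getD j 0
def F (i j : ℕ) : Bool := ([8034941, 10987435, 14580215, 15335071].getD i 0).testBit j
def bd (j : ℕ) : ℕ := [1, 2, 4, 16, 32, 64, 128, 64, 256, 512, 1024, 1024, 2048, 2048, 4096, 8192, 16384,
  32768, 65536, 32768, 131072, 524288, 1048576, 2097152].getD j 0
def up (v : List ℕ) : List ℕ := v.map (11 + ·)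

/-- The list of identities contains what is needed. -/
def Has (I : List (List ℕ × List ℕ)) : Prop :=
  (∀ r ∈ [11, 11] :: [12, 12] :: [13, 13] :: [14, 14] :: YBW.R0.map up, (r, []) ∈ I) ∧
  (∀ i < 4, ∀ c ∈ BL, ∀ r ∈ Rl i, ∃ r' ∈ Rl i, ∃ p ∈ I,
    p.1 = (11 + i) :: (r' ++ c :: r ++ [11 + i]) ∧ ∀ a ∈ p.2, a ∈ BL) ∧
  (∀ i < 4, ∀ c ∈ Ul i, ∃ p ∈ I, p.1 = [11 + i, c, 11 + i] ++ (p.1.drop 3).dropLast ++ [11 + i] ∧
    (∀ a ∈ (p.1.drop 3).dropLast, a ∈ Ml i i) ∧ ∀ a ∈ p.2, a ∈ BL) ∧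
  (∀ x ∈ CJ, ∀ c ∈ Ul x.1, ∃ p ∈ I, p.1 = (up x.2.2).reverse ++ c :: up x.2.2 ∧
    ∀ a ∈ p.2, a ∈ Ml x.1 x.2.1) ∧
  (∀ i < 4, ∀ c < 3, ∃ p ∈ I, p.1 = [11 + i, c, 11 + i] ∧ ∀ a ∈ p.2, a ∈ [0, 1, 2])
instance (I : List (List ℕ × List ℕ)) : Decidable (Has I) := by unfold Has; infer_instance

theorem encard_cov {G X : Type*} [Group G] [MulAction G X] (S : Set X) : ∀ l : List G,
    {y | ∃ a ∈ l, ∃ x ∈ S, y = a • x}.encard ≤ l.length * S.encard
  | [] => by simp
  | a :: l => by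
    have e : {y | ∃ b ∈ a :: l, ∃ x ∈ S, y = b • x} =
        (a • ·) '' S ∪ {y | ∃ b ∈ l, ∃ x ∈ S, y = b • x} := by
      ext y; simp [eq_comm]
    rw [e, List.length_cons, Nat.cast_succ, add_mul, one_mul, add_comm]
    exact (Set.encard_union_le _ _).trans (add_le_add (Set.encard_image_le _ _) (encard_cov S l))

theorem encard_un {X : Type*} (S : ℕ → Set X) (b : ℕ → ℕ) : ∀ n, (∀ j < n, (S j).encard ≤ b j) →
    {y | ∃ j < n, y ∈ S j}.encard ≤ (∑ j ∈ Finset.range n, b j : ℕ)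
  | 0, _ => by simp
  | n + 1, h => by
    have e : {y | ∃ j < n + 1, y ∈ S j} = {y | ∃ j < n, y ∈ S j} ∪ S n := by
      ext y; simp only [Nat.lt_succ_iff_lt_or_eq, or_and_right, exists_or, Set.mem_setOf_eq, Set.mem_union,
        exists_eq_left]
    rw [e, Finset.sum_range_succ, Nat.cast_add]
    exact (Set.encard_union_le _ _).trans (add_le_add (encard_un S b n fun j hj => h j (by omega))
      (h n (by omega)))

theorem gen_ind {G : Type*} [Group G] {e : ℕ → G} {iv : ℕ → ℕ} (h : IvOK e iv) {L : List ℕ}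
    (hL : ∀ c ∈ L, iv c ∈ L) {p : G → Prop} (h1 : p 1) (h2 : ∀ c ∈ L, ∀ b, p b → p (e c * b)) :
    ∀ b ∈ gen e L, p b := fun b hb => by
  refine Subgroup.closure_induction_left (p := fun b _ => p b) h1 ?_ ?_ hb
  · rintro _ ⟨c, hc, rfl⟩ y _ a; exact h2 c hc y a
  · rintro _ ⟨c, hc, rfl⟩ y _ a; exact h c ▸ h2 _ (hL c hc) y a

theorem bruhat {G : Type} [Group G] {e : ℕ → G} (hiv : IvOK e (ivOf [0, 2, 1]))
    {I : List (List ℕ × List ℕ)} (hI : ∀ p ∈ I, ev e p.1 = ev e p.2) (H : Has I) {P : Subgroup G}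
    (hP : ∀ c ∈ 12 :: 13 :: 14 :: BL, e c ∈ P) {m : ℕ} (hm : Bd P m) :
    Bd (gen e (11 :: 12 :: 13 :: 14 :: BL)) (3968055 * m) := by
  obtain ⟨h0, hA, hB, hC, hD⟩ := H
  let s : ℕ → G := fun i => if i < 4 then e (11 + i) else 1
  have s_lt : ∀ i < 4, s i = e (11 + i) := fun i hi => if_pos hi
  have ss : ∀ i, s i * s i = 1 := fun i => by
    by_cases c : i < 4
    · simpa [s_lt i c] using hI _ (h0 [11 + i, 11 + i] (by revert i; decide))
    · simp [s, c]
  have si : ∀ i, (s i)⁻¹ = s i := fun i => inv_eq_of_mul_eq_one_right (ss i)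
  have ev_up : ∀ v : List ℕ, (∀ c ∈ v, c < 4) → ev e (up v) = ev s v := fun v hv => by
    rw [up, ← ev_map]; exact ev_congr fun c hc => (s_lt c (hv c hc)).symm
  let x : ℕ → G ⧸ P := TCData.coset s P YBW.T
  have act : ∀ v : List ℕ, (∀ c ∈ v, c < 4) → ∀ j < 24, ev s v • x j = x (v.foldr pm j) ∧
      v.foldr pm j < 24 := fun v hv j hj => by
    induction v with
    | nil => simp [hj]
    | cons c v ih =>
      obtain ⟨a, b⟩ := ih fun c hc => hv c (by simp [hc])
      have hc := hv c (by simp)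
      have c1 : ∀ i < 4, ∀ j < 24, chkPt (nth Net.nil YBW.nl) [i] j (pm i j) = true ∧ pm i j < 24 := by
        decide +kernel
      have := YBW.ok.ev_smul (e := s) (iv_of_sq ss) (fun r hr => (ev_up r (by revert r; decide)).symm.trans
        (hI _ (h0 _ (by simp; exact Or.inr (Or.inr (Or.inr (Or.inr ⟨r, hr, rfl⟩))))))) (H := P)
        (fun c hc => by
          rw [s_lt c (by revert c; decide)]; exact hP _ (by revert c; decide))
        (w := [c]) (by clear ih hv; revert c; decide) b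
      rw [show ev (sg YBW.T.nets) [c] _ = _ from pt_of_chk YBW.hn (c1 c hc _ b).1] at this
      rw [ev_cons, mul_smul, a]
      exact ⟨by simpa using this, (c1 c hc _ b).2⟩
  have act1 : ∀ i < 4, ∀ j < 24, s i • x j = x (pm i j) := fun i hi j hj => by
    simpa using (act [i] (by simpa) j hj).1
  have x0 : ∀ a ∈ P, a • x 0 = x 0 := fun a ha => by
    rw [show x 0 = _ from TCData.coset_zero _ _ _, MulAction.Quotient.smul_coe, eq_comm,
      QuotientGroup.eq]
    simpa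
  have fixH : ∀ j < 24, ∀ a ∈ gen e [0, 1, 2], a • x j = x j := by
    intro j
    induction j using Nat.strong_induction_on with
    | _ j ih =>
      intro hj
      refine fun a ha => (gen_le (H := MulAction.stabilizer G (x j))).2 (fun c hc => ?_) ha
      rcases (show ∀ j < 24, j = 0 ∨ ∃ i < 4, ∃ k < j, pm i k = j by decide +kernel) j hj with
        rfl | ⟨i, hi, k, hk, rfl⟩
      · exact x0 _ (hP c (by revert c; decide))
      · obtain ⟨p, hp, e1, e2⟩ := hD i hi c (by revert c; decide)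
        have := ih k hk (by omega) _ (hI p hp ▸ ev_mem_gen e2)
        rw [e1, ev_cons, ev_cons, ev_cons, ev_nil, mul_one, ← s_lt i hi, mul_smul, mul_smul,
          ← eq_inv_smul_iff, si, act1 i hi k (by omega)] at this
        exact this
  let Fx : ℕ → ℕ → Prop := fun i j => ∀ c ∈ Ul i, e c • x j = x j
  have fixM : ∀ {i k j}, j < 24 → Fx i j → Fx k j → ∀ a ∈ gen e (Ml i k), a • x j = x j :=
    fun {i k j} hj a b _ ha => (gen_le (H := MulAction.stabilizer G (x j))).2 (fun c hc => by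
      simp only [Ml, List.mem_cons, List.mem_append] at hc
      rcases hc with rfl | rfl | rfl | hc | hc
      exacts [fixH j hj _ (mem_gen (by decide)), fixH j hj _ (mem_gen (by decide)),
        fixH j hj _ (mem_gen (by decide)), a c hc, b c hc]) ha
  have fx : ∀ j < 24, ∀ i < 4, F i j = true → Fx i j := by
    intro j
    induction j using Nat.strong_induction_on with
    | _ j ih =>
      intro hj i hi hF c hc
      rcases (show ∀ j < 24, ∀ i < 4, F i j = true → j = 0 ∨ ∃ y ∈ CJ, ∃ k < j, y.1 = i ∧ y.2.1 < 4 ∧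
          F i k = true ∧ F y.2.1 k = true ∧ y.2.2.foldr pm k = j ∧ ∀ c ∈ y.2.2, c < 4 by
          decide +kernel) j hj i hi hF with rfl | ⟨y, hy, k, hk, rfl, a1, a2, a3, rfl, a4⟩
      · exact x0 _ (hP c (by clear ih hF; revert c; revert i; decide))
      · obtain ⟨p, hp, e1, e2⟩ := hC y hy c hc
        have := fixM (by omega) (ih k hk (by omega) _ hi a2) (ih k hk (by omega) _ a1 a3) _
          (hI p hp ▸ ev_mem_gen e2)
        rw [e1, ev_append, ev_cons, up, ← List.map_reverse, ← up, ← up, ev_up _ a4,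
          ev_up _ (by simpa using a4), ev_rev ss, mul_smul, mul_smul, inv_smul_eq_iff,
          (act _ a4 k (by omega)).1] at this
        exact this
  have rB : ∀ i < 4, ∀ r ∈ Rl i, ev e r ∈ gen e BL ∧ ev e r ∈ gen e (Ml i i) ∧ (ev e r)⁻¹ = ev e r :=
    fun i hi r hr => ⟨ev_mem_gen (by revert r; revert i; decide), ev_mem_gen (by revert r; revert i; decide),
      by rw [← ev_invW hiv]; exact congrArg _ (by revert r; revert i; decide +kernel)⟩
  have dec : ∀ i < 4, ∀ b ∈ gen e BL, ∃ r ∈ Rl i, s i * (ev e r * b) * s i ∈ gen e BL := fun i hi =>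
    gen_ind hiv (by decide +kernel) ⟨[], by simp [Rl], by simp [ss]⟩ (by
      rintro c hc b ⟨r, hr, a⟩
      obtain ⟨r', hr', p, hp, e1, e2⟩ := hA i hi c hc r hr
      have := hI p hp ▸ ev_mem_gen e2
      rw [e1, ev_cons, ev_append, ev_append, ev_cons, ev_cons, ev_nil, ← s_lt i hi] at this
      refine ⟨r', hr', ?_⟩
      convert Subgroup.mul_mem _ this a using 1
      calc _ = s i * (ev e r' * (e c * ev e r)) * (s i)⁻¹ * s i * ((ev e r)⁻¹ * b) * s i := by group
        _ = _ := by rw [si, (rB i hi r hr).2.2]; group)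
  have dec' : ∀ i < 4, ∀ b ∈ gen e BL, ∃ r ∈ Rl i, s i * (b * ev e r) * s i ∈ gen e BL :=
    fun i hi b hb => by
      obtain ⟨r, hr, a⟩ := dec i hi _ (Subgroup.inv_mem _ hb)
      refine ⟨r, hr, ?_⟩
      simpa [si, (rB i hi r hr).2.2, mul_assoc] using Subgroup.inv_mem _ a
  let C : ℕ → Set (G ⧸ P) := fun j => {y | ∃ b ∈ gen e BL, y = b • x j}
  have cl : ∀ i < 4, ∀ j < 24, ∀ y ∈ C j, ∃ k < 24, s i • y ∈ C k := by
    rintro i hi j hj _ ⟨b, hb, rfl⟩
    obtain ⟨r, hr, a⟩ := dec' i hi b hb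
    have e1 : ∀ y : G ⧸ P, s i • b • y = (s i * (b * ev e r) * s i) • s i • ev e r • y := fun y => by
      rw [smul_smul, smul_smul, smul_smul]
      congr 1
      calc _ = s i * (b * ev e r) * s i * (s i)⁻¹ * (ev e r)⁻¹ := by group
        _ = _ := by rw [si, (rB i hi r hr).2.2]
    rcases (show ∀ i < 4, ∀ j < 24, pm i j < 24 ∧ F i j = true ∨ ∃ k < 24, F i k = true ∧ pm i k = j by
      decide +kernel) i hi j hj with ⟨c1, c2⟩ | ⟨k, hk, c2, rfl⟩
    · have f := fx j hj i hi c2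
      exact ⟨_, c1, _, a, by rw [e1, fixM hj f f _ (rB i hi r hr).2.1, act1 i hi j hj]⟩
    · have f := fx k hk i hi c2
      rcases List.mem_cons.1 hr with rfl | hr'
      · exact ⟨k, hk, _, a, by rw [e1, ev_nil, one_smul, ← act1 i hi k hk, smul_smul (s i), ss, one_smul]⟩
      · obtain ⟨c, hc, rfl⟩ := List.mem_map.1 hr'
        obtain ⟨p, hp, f1, f2, f3⟩ := hB i hi c hc
        have f4 := hI p hp ▸ ev_mem_gen f3
        have f5 := fixM hk f f _ (ev_mem_gen f2)
        rw [f1] at f4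
        generalize (p.1.drop 3).dropLast = w at f4 f5
        simp only [ev_append, ev_cons, ev_nil, mul_one, ← s_lt i hi] at f4
        refine ⟨_, hj, _, Subgroup.mul_mem _ a f4, ?_⟩
        rw [e1, ← act1 i hi k hk]
        simp only [mul_smul, ev_cons, ev_nil, mul_one]
        rw [smul_smul (s i) (s i) (x k), ss, one_smul, f5]
  have cd : ∀ j < 24, (C j).encard ≤ bd j := by
    intro j
    induction j using Nat.strong_induction_on with
    | _ j ih =>
      intro hj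
      rcases (show ∀ j < 24, j = 0 ∨ ∃ i < 4, ∃ k < j, F i k = true ∧ pm i k = j ∧
        (Rl i).length * bd k ≤ bd j by decide +kernel) j hj with rfl | ⟨i, hi, k, hk, c1, rfl, c2⟩
      · refine (Set.encard_le_encard (t := {x 0}) ?_).trans (by simp [bd])
        rintro _ ⟨b, hb, rfl⟩
        exact x0 b ((gen_le.2 fun c hc => hP c (by simp [hc]) : gen e BL ≤ P) hb)
      · refine (Set.encard_le_encard ?_).trans ((encard_cov (C k)
          ((Rl i).map fun r => ev e r * s i)).trans ?_)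
        · rintro _ ⟨b, hb, rfl⟩
          obtain ⟨r, hr, a⟩ := dec i hi b hb
          refine ⟨_, List.mem_map.2 ⟨r, hr, rfl⟩, _, ⟨_, a, rfl⟩, ?_⟩
          rw [← act1 i hi k (by omega), smul_smul, smul_smul]
          congr 1
          calc _ = (ev e r)⁻¹ * (s i)⁻¹ * (s i * (ev e r * b) * s i) := by group
            _ = _ := by rw [si, (rB i hi r hr).2.2]
        · rw [List.length_map]
          exact (mul_le_mul_right (ih k hk (by omega)) _).trans (by exact_mod_cast c2)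
  have tot := encard_un C bd 24 cd
  rw [show ∑ j ∈ Finset.range 24, bd j = 3968055 by decide +kernel] at tot
  have fin := Set.finite_of_encard_le_coe tot
  obtain ⟨n, f, hi, hf⟩ := fin.fin_param
  have hn : n ≤ 3968055 := by
    rw [← hf, ← Set.image_univ, hi.encard_image] at tot
    simpa using tot
  refine (bd_of_cover (N := n) (fun j => if h : j < n then f ⟨j, h⟩ else x 0) (fun g hg => ?_) hm).mono
    (Nat.mul_le_mul_right _ hn)
  have : (g : G ⧸ P) ∈ Set.range f := by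
    rw [hf]
    refine gen_ind hiv (by decide +kernel) (p := fun g => (g : G ⧸ P) ∈ {y | ∃ j < 24, y ∈ C j})
      ⟨0, by omega, 1, Subgroup.one_mem _, by rw [one_smul]; exact (TCData.coset_zero _ _ _).symm⟩ ?_ g hg
    rintro c hc b ⟨j, hj, hb⟩
    change e c • (b : G ⧸ P) ∈ _
    rcases (show ∀ c ∈ 11 :: 12 :: 13 :: 14 :: BL, c ∈ BL ∨ ∃ i < 4, c = 11 + i by decide) c hc with
      h | ⟨i, hi, rfl⟩
    · obtain ⟨a, ha, e1⟩ := hb
      exact ⟨j, hj, e c * a, Subgroup.mul_mem _ (mem_gen h) ha, by rw [e1, mul_smul]⟩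
    · exact s_lt i hi ▸ cl i hi j hj _ hb
  obtain ⟨j, e1⟩ := this
  exact ⟨j, j.2, by simp [e1]⟩

end H29.YB.Br
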